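import Groth.Agent.H18Et.RootCover
import Groth.Agent.H15Site.FppfEt.Apps
import Groth.Prelude.Def_EtGm
import Mathlib

/-!
# The Artin–Schreier sequence on the small étale site
-/

set_option autoImplicit false
set_option linter.style.haveILetI false
set_option backward.isDefEq.respectTransparency false
set_option backward.isDefEq.respectTransparency.types false

universe u

open CategoryTheory Opposite Limits AlgebraicGeometry

noncomputable section

namespace Groth.Agent.H9Et.AS

variable (S : Scheme.{u}) (p : ℕ) [Fact p.Prime] [CharP Γ(S, ⊤) p]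

/-- The prime field in the functions on an étale scheme over `S`. -/
def incl (U : S.Etale) : ZMod p →+* Γ(U.left, ⊤) :=
  U.hom.appTop.hom.comp (ZMod.castHom dvd_rfl Γ(S, ⊤))

variable {S p}

include S in
theorem natCast_eq_zero (U : S.Etale) : (p : Γ(U.left, ⊤)) = 0 := by
  rw [← map_natCast (incl S p U) p, ZMod.natCast_self, map_zero]

theorem appTop_incl {U V : S.Etale} (g : V ⟶ U) (i : ZMod p) : g.left.appTop.hom (incl S p U i) = incl S p V i :=
  RingHom.congr_fun (Subsingleton.elim ((g.left.appTop.hom).comp (incl S p U)) (incl S p V)) i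

include S in
theorem add_pow (U : S.Etale) (x y : Γ(U.left, ⊤)) : (x + y) ^ p = x ^ p + y ^ p := by
  cases subsingleton_or_nontrivial Γ(U.left, ⊤)
  · exact Subsingleton.elim _ _
  · haveI : CharP Γ(U.left, ⊤) p := charP_of_injective_ringHom (incl S p U).injective p
    exact add_pow_char x y p

/-- The functions as an element of the value one universe up. -/
abbrev sec {U : S.Etale} (x : Γ(U.left, ⊤)) : (EtCoh.Ga S).obj.obj (op U) := ULift.up x

/-- The underlying function. -/
abbrev val {U : S.Etale} (x : (EtCoh.Ga S).obj.obj (op U)) : Γ(U.left, ⊤) := x.down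

theorem map_sec {U V : S.Etale} (g : V ⟶ U) (x : Γ(U.left, ⊤)) :
    (EtCoh.Ga S).obj.map g.op (sec x) = sec (g.left.appTop.hom x) := rfl

variable (S p)

/-- `x ↦ x ^ p - x`. -/
def wp : EtCoh.Ga S ⟶ EtCoh.Ga S :=
  ⟨{ app := fun U => AddCommGrpCat.ofHom (AddMonoidHom.mk'
      (fun x : (EtCoh.Ga S).obj.obj (op U.unop) => sec (U := U.unop) (val x ^ p - val x))
      (fun x y => ULift.ext _ _ (by
        change (val x + val y) ^ p - (val x + val y) = (val x ^ p - val x) + (val y ^ p - val y)
        rw [add_pow (p := p) U.unop]; abel)))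
     naturality := fun U V g => AddCommGrpCat.ext fun x => ULift.ext _ _ (by
        change (g.unop.left.appTop.hom (val (U := U.unop) x)) ^ p - g.unop.left.appTop.hom (val (U := U.unop) x) =
          g.unop.left.appTop.hom (val (U := U.unop) x ^ p - val (U := U.unop) x)
        rw [map_sub, map_pow]) }⟩

theorem wp_app {U : S.Etale} (x : Γ(U.left, ⊤)) : (wp S p).hom.app (op U) (sec x) = sec (x ^ p - x) := rfl

/-- The constants as functions. -/
def cst : (Functor.const S.Etaleᵒᵖ).obj (AddCommGrpCat.of (ULift.{u + 1} (ZMod p))) ⟶ (EtCoh.Ga S).obj where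
  app U := AddCommGrpCat.ofHom (AddMonoidHom.mk' (fun m => sec (incl S p U.unop m.down))
    (fun a b => ULift.ext _ _ (map_add (incl S p U.unop) a.down b.down)))
  naturality U V g := AddCommGrpCat.ext fun m => ULift.ext _ _ (appTop_incl (p := p) g.unop m.down).symm

/-- The inclusion of the constant sheaf `ℤ/p`. -/
def toGa : EtCoh.const S (ZMod p) ⟶ EtCoh.Ga S :=
  ((sheafificationAdjunction S.smallEtaleTopology AddCommGrpCat.{u + 1}).homEquiv _ (EtCoh.Ga S)).symm (cst S p)

theorem toSheafify_toGa : toSheafify _ _ ≫ (toGa S p).hom = cst S p := by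
  have := ((sheafificationAdjunction S.smallEtaleTopology AddCommGrpCat.{u + 1}).homEquiv _
    (EtCoh.Ga S)).apply_symm_apply (cst S p)
  rw [Adjunction.homEquiv_unit] at this
  exact this

instance mono_toGa : Mono (toGa S p) := by
  haveI : Presheaf.IsLocallyInjective S.smallEtaleTopology (cst S p) := ⟨fun {U} m m' h => by
    rcases isEmpty_or_nonempty U.unop.left with hU | hU
    · refine H18Et.mem_topology_of_forall_point _ fun x => isEmptyElim x
    · haveI : Nontrivial Γ(U.unop.left, ⊤) :=
        (U.unop.left.evaluation ⊤ hU.some trivial).hom.domain_nontrivial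
      obtain rfl : m = m' := ULift.ext _ _ ((incl S p U.unop).injective (congrArg ULift.down h))
      simp⟩
  haveI := Presheaf.isLocallyInjective_of_isLocallyInjective_of_isLocallySurjective_fac
    S.smallEtaleTopology (cst S p) (toSheafify_toGa S p)
  haveI : Sheaf.IsLocallyInjective (toGa S p) := this
  exact Sheaf.mono_of_isLocallyInjective _

theorem toGa_comp_wp : toGa S p ≫ wp S p = 0 := by
  apply ((sheafificationAdjunction S.smallEtaleTopology AddCommGrpCat.{u + 1}).homEquiv _ (EtCoh.Ga S)).injective
  rw [Adjunction.homEquiv_unit, Adjunction.homEquiv_unit, Functor.map_comp, Functor.map_zero, comp_zero,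
    ← Category.assoc, show (sheafificationAdjunction S.smallEtaleTopology AddCommGrpCat.{u + 1}).unit.app _ ≫
      (sheafToPresheaf _ _).map (toGa S p) = cst S p from toSheafify_toGa S p]
  ext U m
  change sec ((incl S p U.unop m.down) ^ p - incl S p U.unop m.down) = 0
  rw [← map_pow, ZMod.pow_card, sub_self]
  rfl

/-- The Artin–Schreier sequence. -/
abbrev seq : ShortComplex (EtCoh.Ab S) := ShortComplex.mk (toGa S p) (wp S p) (toGa_comp_wp S p)

theorem shortExact_seq : (seq S p).ShortExact := by
  haveI : Sheaf.IsLocallySurjective (wp S p) := ⟨fun {U} s => by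
    refine H18Et.mem_topology_of_forall_point _ fun w => ?_
    have hp1 : 1 < p := (Fact.out : p.Prime).one_lt
    haveI : Nontrivial Γ(U.left, ⊤) := (U.left.evaluation ⊤ w trivial).hom.domain_nontrivial
    let P : Polynomial Γ(U.left, ⊤) := Polynomial.X ^ p - (Polynomial.X + Polynomial.C (val s))
    have hdeg : (Polynomial.X + Polynomial.C (val s)).degree < (p : WithBot ℕ) := by
      rw [Polynomial.degree_X_add_C]; exact_mod_cast hp1
    have hP : P.Monic := Polynomial.monic_X_pow_sub hdeg
    have hPd : P.natDegree = p := by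
      refine Polynomial.natDegree_eq_of_degree_eq_some ?_
      rw [show P.degree = (Polynomial.X ^ p : Polynomial Γ(U.left, ⊤)).degree from
        Polynomial.degree_sub_eq_left_of_degree_lt (by rwa [Polynomial.degree_X_pow]), Polynomial.degree_X_pow]
    have hcop : IsCoprime P (Polynomial.derivative P) := ⟨0, -1, by
      simp [P, Polynomial.derivative_X_pow, natCast_eq_zero (p := p) U]⟩
    obtain ⟨V, g, v, t, hv, ht⟩ := H18Et.RootCover.exists_root_nbhd U w P hP hcop (by omega)
    refine ⟨V, g, v, ⟨sec t, ?_⟩, hv⟩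
    rw [wp_app]
    refine ULift.ext _ _ ?_
    simp [P, Polynomial.eval_map] at ht
    change t ^ p - t = g.left.appTop.hom (val s)
    linear_combination ht⟩
  suffices hex : (seq S p).Exact from
    { exact := hex, mono_f := mono_toGa S p, epi_g := Sheaf.epi_of_isLocallySurjective _ }
  refine H15Site.FppfEt.exact_of_local (J := S.smallEtaleTopology) (T := seq S p) fun W x hx => ?_
  let R : Sieve W :=
    { arrows := fun Z f => ∃ y, (toGa S p).hom.app (op Z) y = (EtCoh.Ga S).obj.map f.op x
      downward_closed := fun {Y Z f} ⟨y, hy⟩ g => ⟨(EtCoh.const S (ZMod p)).obj.map g.op y, by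
        refine (NatTrans.naturality_apply (toGa S p).hom g.op y).trans ?_
        rw [hy, op_comp, Functor.map_comp]
        rfl⟩ }
  refine ⟨R, H18Et.mem_topology_of_forall_point _ fun w => ?_, fun Z f hf => hf⟩
  let e := W.left.evaluation ⊤ w trivial
  let a : Γ(W.left, ⊤) := val x
  have ha : a ^ p = a := sub_eq_zero.1 (congrArg ULift.down hx)
  haveI : CharP (W.left.residueField w) p :=
    charP_of_injective_ringHom ((e.hom.comp (incl S p W)).injective) p
  obtain ⟨i, hi⟩ : ∃ i : ZMod p, e.hom (incl S p W i) = e.hom a := by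
    have hm : e.hom a ∈ (⊥ : Subfield (W.left.residueField w)) :=
      (Subfield.mem_bot_iff_pow_eq_self (W.left.residueField w) p).2 (by rw [← map_pow, ha])
    rw [← ZMod.fieldRange_castHom_eq_bot p] at hm
    obtain ⟨i, hi⟩ := hm
    exact ⟨i, (RingHom.congr_fun (Subsingleton.elim (e.hom.comp (incl S p W)) _) i).trans hi⟩
  let y : Γ(W.left, ⊤) := a - incl S p W i
  have hy : y ^ p = y := by
    have h := add_pow (p := p) W y (incl S p W i)
    rw [sub_add_cancel, ha, ← map_pow, ZMod.pow_card] at h
    exact eq_sub_of_add_eq h.symm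
  have hy0 : e.hom y = 0 := by rw [map_sub, hi, sub_self]
  let D : W.left.Opens := W.left.basicOpen (1 - y ^ (p - 1))
  have hwD : w ∈ D := (Scheme.evaluation_ne_zero_iff_mem_basicOpen (X := W.left) (U := ⊤) w trivial _).1 (by
    change e.hom (1 - y ^ (p - 1)) ≠ 0
    rw [map_sub, map_one, map_pow, hy0, zero_pow (by have := (Fact.out : p.Prime).one_lt; omega), sub_zero]
    exact one_ne_zero)
  haveI : Etale W.hom := W.prop
  let V : S.Etale := MorphismProperty.Over.mk ⊤ (D.ι ≫ W.hom) (inferInstanceAs (Etale _))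
  let g : V ⟶ W := MorphismProperty.Over.homMk D.ι rfl trivial
  refine ⟨V, g, (⟨w, hwD⟩ : D.toScheme),
    ⟨(toSheafify S.smallEtaleTopology ((Functor.const S.Etaleᵒᵖ).obj
      (AddCommGrpCat.of (ULift.{u + 1} (ZMod p))))).app (op V) (ULift.up i), ?_⟩, rfl⟩
  refine (ConcreteCategory.congr_hom (congr_app (toSheafify_toGa S p) (op V)) (ULift.up i)).trans ?_
  refine ULift.ext _ _ (Eq.symm (sub_eq_zero.1 ?_))
  change g.left.appTop.hom a - incl S p V i = 0
  rw [← appTop_incl g i]
  change D.ι.appTop.hom a - D.ι.appTop.hom (incl S p W i) = 0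
  rw [← map_sub]
  change D.ι.appTop.hom y = 0
  have hu : IsUnit (D.ι.appTop.hom (1 - y ^ (p - 1))) := by
    have h := W.left.toRingedSpace.isUnit_res_basicOpen (1 - y ^ (p - 1))
    rw [Scheme.Opens.ι_appTop]
    have hle : D.ι ''ᵁ ⊤ ≤ D := D.ι_image_top.le
    rw [show (homOfLE (x := D.ι ''ᵁ ⊤) le_top).op = (homOfLE (x := D) le_top).op ≫ (homOfLE hle).op from rfl,
      Functor.map_comp]
    exact h.map (W.left.presheaf.map (homOfLE hle).op).hom
  refine hu.mul_left_eq_zero.1 ?_
  rw [← map_mul, mul_sub, mul_one, ← pow_succ', Nat.sub_add_cancel (Fact.out : p.Prime).one_lt.le, hy,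
    sub_self, map_zero]

end Groth.Agent.H9Et.AS
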