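import Groth.Agent.H23Ga.Vanish
import Groth.Agent.H18Et.Stalk
import Groth.Agent.H13Desc.BigExact
import Groth.Prelude.Def_EtGm
import Groth.Prelude.Def_EtCore
import Mathlib

/-!
# The additive group has no higher étale cohomology on affine schemes
-/

set_option autoImplicit false
set_option linter.style.haveILetI false
set_option backward.isDefEq.respectTransparency false
set_option backward.isDefEq.respectTransparency.types false

universe u

open CategoryTheory Opposite Limits AlgebraicGeometry CategoryTheory.Abelian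
open Groth.Agent.H02CA.Adq

noncomputable section

namespace Groth.Agent.H9Et

instance goodCov_etale : GoodCov (@Etale : MorphismProperty Scheme.{u}) where
  baseChange := inferInstance
  comp := inferInstance
  openImmersion := fun f h => haveI := h; inferInstanceAs (Etale f)
  isOpenMap := fun f h => haveI := h; f.isOpenMap

abbrev KE : Precoverage Scheme.{u} := Scheme.precoverage (@Etale : MorphismProperty Scheme.{u})

variable {S : Scheme.{u}}

instance : BigSite.OSh KE.{u} := inferInstanceAs (BigSite.OSh Scheme.etalePrecoverage.{u})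
instance : (QuotSh.J KE S).Subcanonical := inferInstanceAs (QuotSh.J Scheme.etalePrecoverage S).Subcanonical
instance : BigSite.AEtCont KE S := inferInstanceAs (BigSite.AEtCont Scheme.etalePrecoverage S)

theorem flat_of_etale {X Y : Scheme.{u}} (f : X ⟶ Y) (h : Etale f) : Flat f := by infer_instance

/-- The identity of an affine object as a base object. -/
def baseIso (V : Over S) [IsAffine V.left] : baseObj (R := Γ(V.left, ⊤)) (V.left.isoSpec.inv ≫ V.hom) ≅ V :=
  Over.isoMk V.left.isoSpec.symm (by
    change V.left.isoSpec.inv ≫ V.hom =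
      Spec.map (CommRingCat.ofHom (algebraMap Γ(V.left, ⊤) Γ(V.left, ⊤))) ≫ V.left.isoSpec.inv ≫ V.hom
    rw [show CommRingCat.ofHom (algebraMap Γ(V.left, ⊤) Γ(V.left, ⊤)) = 𝟙 Γ(V.left, ⊤) from
      CommRingCat.hom_ext (RingHom.ext fun _ => rfl)]
    erw [Spec.map_id, Category.id_comp])

/-- Restriction to the small site of an exact sequence with good first term. -/
theorem shortExact_resEt {T : ShortComplex (BigSite.Ab KE S)} (hT : T.ShortExact) (h₁ : GoodSheaf T.X₁) :
    (T.map (BigSite.resEt KE S)).ShortExact := by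
  haveI : PreservesFiniteLimits (BigSite.resEt KE S) := by
    haveI : (BigSite.resEt KE S).IsRightAdjoint := ⟨_, ⟨BigSite.piEtAdj KE S⟩⟩
    infer_instance
  haveI := hT.mono_f
  haveI : Sheaf.IsLocallySurjective (T.map (BigSite.resEt KE S)).g := ⟨fun {W} s => by
    haveI : Etale W.hom := W.prop
    refine H18Et.mem_topology_of_forall_point _ fun x => ?_
    obtain ⟨B, hB, hxB, -⟩ := exists_isAffineOpen_mem_and_subset (X := W.left) (x := x) (U := ⊤) trivial
    let P : S.Etale := MorphismProperty.Over.mk ⊤ (B.ι ≫ W.hom) (inferInstanceAs (Etale _))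
    let i : P ⟶ W := MorphismProperty.Over.homMk B.ι rfl trivial
    refine ⟨P, i, (⟨x, hxB⟩ : B.toScheme), ?_, rfl⟩
    haveI : IsAffine ((EtFppf.a S).obj P).left := hB
    exact ab_surjective_specOver flat_of_etale hT h₁ _ (baseIso ((EtFppf.a S).obj P))
      ((T.map (BigSite.resEt KE S)).X₃.obj.map i.op s)⟩
  exact
    { exact := hT.exact.map_of_mono_of_preservesKernel _ inferInstance inferInstance
      mono_f := inferInstanceAs (Mono ((BigSite.resEt KE S).map T.f))
      epi_g := Sheaf.epi_of_isLocallySurjective _ }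

/-- Good sheaves on the big étale site of an affine scheme are acyclic on the small site. -/
theorem subsingleton_H_resEt_of_good [IsAffine S] :
    ∀ (p : ℕ) (F : BigSite.Ab KE S), GoodSheaf F →
      Subsingleton (EtCoh.H S ((BigSite.resEt KE S).obj F) (p + 1)) := by
  intro p
  induction p with
  | zero =>
    intro F hF
    let T := ShortComplex.mk (Injective.ι F) (cokernel.π (Injective.ι F)) (cokernel.condition _)
    have hT : T.ShortExact := { exact := ShortComplex.exact_of_g_is_cokernel _ (cokernelIsCokernel _) }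
    let T' := T.map (BigSite.resEt KE S)
    have hT' : T'.ShortExact := shortExact_resEt hT hF
    haveI : Injective T'.X₂ := H13Desc.BigExact.injective_resEt KE (Injective.under F)
    refine subsingleton_of_forall_eq 0 fun x => ?_
    obtain ⟨y, rfl⟩ := Ext.covariant_sequence_exact₁ _ hT' x (Ext.eq_zero_of_injective _) rfl
    obtain ⟨φ, rfl⟩ := (Ext.mk₀_bijective _ _).surjective y
    let hT0 := EtCore.topIsTerminal S
    haveI : IsAffine ((EtFppf.a S).obj (EtCoh.top S)).left := inferInstanceAs (IsAffine S)
    obtain ⟨s, hs⟩ := ab_surjective_specOver flat_of_etale hT hF _ (baseIso ((EtFppf.a S).obj (EtCoh.top S)))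
      (Sheaf.H.equiv₀ T'.X₃ hT0 (Ext.mk₀ φ))
    have h2 : Sheaf.H.map T'.g 0 ((Sheaf.H.equiv₀ T'.X₂ hT0).symm s) = Ext.mk₀ φ := by
      rw [Sheaf.H.equiv₀_symm_naturality]
      exact (AddEquiv.symm_apply_eq _).2 hs
    rw [← h2, Sheaf.H.map_apply, Ext.comp_assoc_of_second_deg_zero, hT'.comp_extClass, Ext.comp_zero]
  | succ p ih =>
    intro F hF
    let T := ShortComplex.mk (Injective.ι F) (cokernel.π (Injective.ι F)) (cokernel.condition _)
    have hT : T.ShortExact := { exact := ShortComplex.exact_of_g_is_cokernel _ (cokernelIsCokernel _) }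
    let T' := T.map (BigSite.resEt KE S)
    have hT' : T'.ShortExact := shortExact_resEt hT hF
    haveI : Injective T'.X₂ := H13Desc.BigExact.injective_resEt KE (Injective.under F)
    haveI := ih T.X₃ (goodSheaf_quotient flat_of_etale hT hF fun R a A _ _ _ => nerveExact_of_injective_sheaf a A _)
    refine subsingleton_of_forall_eq 0 fun x => ?_
    obtain ⟨y, rfl⟩ := Ext.covariant_sequence_exact₁ _ hT' x (Ext.eq_zero_of_injective _) rfl
    rw [show y = 0 from Subsingleton.elim (α := EtCoh.H S ((BigSite.resEt KE S).obj T.X₃) (p + 1)) y 0,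
      Ext.zero_comp]

/-- Sections of the additive group scheme are the global functions. -/
def secGa (W : S.Etale) :
    (CGrpSh2.Ga KE S).obj.obj (op ((EtFppf.a S).obj W)) ≃+ (EtCoh.Ga S).obj.obj (op W) :=
  ({ toFun := fun x => Red.gaFn x.down.toMul
     invFun := fun b => ULift.up (Additive.ofMul (H27Witt.GaCoord.gaFn_surjective b).choose)
     left_inv := fun x => ULift.ext _ _ (Additive.toMul.injective
       (H27Witt.GaCoord.gaFn_injective (H27Witt.GaCoord.gaFn_surjective _).choose_spec))
     right_inv := fun b => (H27Witt.GaCoord.gaFn_surjective b).choose_spec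
     map_add' := fun x y => H27Witt.GaCoord.gaFn_mul _ _ } :
    (CGrpSh2.Ga KE S).obj.obj (op ((EtFppf.a S).obj W)) ≃+ Γ(W.left, ⊤)).trans AddEquiv.ulift.symm

/-- Restriction of the additive group to the small site. -/
def resGaIso : (BigSite.resEt KE S).obj (CGrpSh2.Ga KE S) ≅ EtCoh.Ga S :=
  (fullyFaithfulSheafToPresheaf _ _).preimageIso (NatIso.ofComponents
    (fun W => AddEquiv.toAddCommGrpIso (secGa W.unop))
    fun f => AddCommGrpCat.ext fun x => ULift.ext _ _ (H27Witt.GaCoord.gaFn_comp _ _))

theorem subsingleton_H_Ga [IsAffine S] (p : ℕ) : Subsingleton (EtCoh.H S (EtCoh.Ga S) (p + 1)) := by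
  haveI := subsingleton_H_resEt_of_good (S := S) p _ (H23Ga.goodSheaf_Ga (P := @Etale) (S := S))
  exact Function.Injective.subsingleton (β := EtCoh.H S ((BigSite.resEt KE S).obj (CGrpSh2.Ga KE S)) (p + 1))
    ((Sheaf.functorH _ (p + 1)).mapIso (resGaIso (S := S))).symm.addCommGroupIsoToAddEquiv.injective

end Groth.Agent.H9Et
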