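import Mathlib

/-!
# Geometric connectedness is tested on algebraically closed fields
-/

set_option autoImplicit false
set_option linter.style.haveILetI false

universe u

open CategoryTheory CategoryTheory.Limits AlgebraicGeometry

namespace Groth.Agent.H9Et

set_option backward.isDefEq.respectTransparency.types false in
theorem geometricallyConnected_of_algClosed {X S : Scheme.{u}} (f : X ⟶ S)
    (hc : ∀ (Ω : Type u) [Field Ω] [IsAlgClosed Ω] (s : Spec (CommRingCat.of Ω) ⟶ S),
      ConnectedSpace ↥(pullback f s)) : GeometricallyConnected f := by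
  refine ⟨fun K _ y Z fst snd h => ?_⟩
  let Ω := AlgebraicClosure K
  let σ : Spec (CommRingCat.of Ω) ⟶ Spec (CommRingCat.of K) := Spec.map (CommRingCat.ofHom (algebraMap K Ω))
  haveI : Surjective σ := ⟨fun p => ⟨default, Subsingleton.elim _ _⟩⟩
  haveI := hc Ω (σ ≫ y)
  let m : pullback f (σ ≫ y) ⟶ Z := h.lift (pullback.fst _ _) (pullback.snd _ _ ≫ σ)
    (by rw [Category.assoc]; exact pullback.condition)
  have hm : IsPullback m (pullback.snd f (σ ≫ y)) snd σ := by
    refine IsPullback.of_right (h₁₂ := fst) (v₁₃ := f) (h₂₂ := y) ?_ (h.lift_snd _ _ _) h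
    rw [h.lift_fst]
    exact IsPullback.of_hasPullback f (σ ≫ y)
  haveI : Surjective m := MorphismProperty.of_isPullback (P := @Surjective) hm.flip inferInstance
  exact m.surjective.connectedSpace m.continuous

end Groth.Agent.H9Et
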