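import Groth.Prelude.Def_EtZar
import Mathlib
import Mathlib.Topology.Sheaves.SheafCondition.UniqueGluing
import Mathlib.Topology.Sheaves.LocallySurjective
import Mathlib.Algebra.Category.Grp.Adjunctions
import Mathlib.Algebra.Category.Grp.Limits

/-!
# Flasque abelian sheaves with values one universe up are acyclic
-/

set_option autoImplicit false
set_option linter.style.haveILetI false
set_option backward.isDefEq.respectTransparency.types false

universe u

open CategoryTheory Limits Opposite TopologicalSpace AlgebraicGeometry CategoryTheory.Abelian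

noncomputable section

namespace Groth.Agent.H9Et.FlasqueBig

variable {S : Scheme.{u}}

/-- Restriction of a section. -/
abbrev res (F : EtZar.Ab S) {U V : S.Opens} (h : V ≤ U) (s : F.obj.obj (op U)) : F.obj.obj (op V) :=
  F.obj.map (homOfLE h).op s

theorem res_res (F : EtZar.Ab S) {U V W : S.Opens} (h : V ≤ U) (h' : W ≤ V) (s : F.obj.obj (op U)) :
    res F h' (res F h s) = res F (h'.trans h) s := by
  simp only [res, ← ConcreteCategory.comp_apply, ← F.obj.map_comp]
  rfl

theorem res_self (F : EtZar.Ab S) {U : S.Opens} (h : U ≤ U) (s : F.obj.obj (op U)) : res F h s = s := by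
  simp only [res, show (homOfLE h).op = 𝟙 (op U) from rfl, F.obj.map_id]
  rfl

theorem app_res {F G : EtZar.Ab S} (φ : F ⟶ G) {U V : S.Opens} (h : V ≤ U) (s : F.obj.obj (op U)) :
    φ.hom.app (op V) (res F h s) = res G h (φ.hom.app (op U) s) :=
  NatTrans.naturality_apply φ.hom (homOfLE h).op s

/-- A sheaf all of whose restriction maps are surjective. -/
def Flasque (F : EtZar.Ab S) : Prop :=
  ∀ ⦃U V : S.Opens⦄ (h : V ≤ U), Function.Surjective (res F h)

theorem sections_exact {T : ShortComplex (EtZar.Ab S)} (hT : T.ShortExact) (U : S.Opens)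
    (s : T.X₂.obj.obj (op U)) (hs : T.g.hom.app (op U) s = 0) :
    ∃ t, T.f.hom.app (op U) t = s := by
  haveI := hT.mono_f
  let Φ : EtZar.Ab S ⥤ AddCommGrpCat.{u + 1} :=
    sheafToPresheaf _ _ ⋙ (CategoryTheory.evaluation _ _).obj (op U)
  haveI : PreservesFiniteLimits Φ := comp_preservesFiniteLimits _ _
  haveI : Φ.Additive := Functor.additive_of_preserves_binary_products _
  exact (ShortComplex.ab_exact_iff _).1 (hT.exact.map_of_mono_of_preservesKernel Φ inferInstance inferInstance) s hs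

instance wEqualsLocallyBijective :
    (Opens.grothendieckTopology S).WEqualsLocallyBijective AddCommGrpCat.{u + 1} :=
  GrothendieckTopology.WEqualsLocallyBijective.ofEssentiallySmall (Opens.grothendieckTopology S)

/-- Sections are surjective along a quotient by a flasque sheaf. -/
theorem surjective_sections {T : ShortComplex (EtZar.Ab S)} (hT : T.ShortExact) (h₁ : Flasque T.X₁)
    (U : S.Opens) : Function.Surjective (T.g.hom.app (op U)) := by
  intro s
  let P := Σ' (V : S.Opens) (h : V ≤ U), { t : T.X₂.obj.obj (op V) // T.g.hom.app (op V) t = res T.X₃ h s }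
  let le : P → P → Prop := fun a b => ∃ h : a.1 ≤ b.1, res T.X₂ h b.2.2.1 = a.2.2.1
  have trans : ∀ {a b c : P}, le a b → le b c → le a c := fun {a b c} ⟨h, e⟩ ⟨h', e'⟩ =>
    ⟨h.trans h', by rw [← res_res _ h' h, e', e]⟩
  obtain ⟨m, hm⟩ := exists_maximal_of_chains_bounded (r := le) (fun c hc => by
    obtain ⟨t, ht, -⟩ := TopCat.Sheaf.existsUnique_gluing T.X₂ (fun a : c => a.1.1) (fun a => a.1.2.2.1)
      (fun a b => by
        change res T.X₂ (inf_le_left : a.1.1 ⊓ b.1.1 ≤ a.1.1) a.1.2.2.1 =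
          res T.X₂ (inf_le_right : a.1.1 ⊓ b.1.1 ≤ b.1.1) b.1.2.2.1
        obtain rfl | hne := eq_or_ne a b
        · rfl
        rcases hc a.2 b.2 (fun e => hne (Subtype.ext e)) with ⟨h, e⟩ | ⟨h, e⟩
        · rw [← e, res_res]
        · rw [← e, res_res])
    have hU : (⨆ a : c, a.1.1) ≤ U := iSup_le fun a => a.1.2.1
    refine ⟨⟨_, hU, t, TopCat.Sheaf.eq_of_locally_eq T.X₃ (fun a : c => a.1.1) _ _ fun a => ?_⟩, fun a ha => ?_⟩
    · change res T.X₃ (le_iSup (fun a : c => a.1.1) a) _ = res T.X₃ (le_iSup (fun a : c => a.1.1) a) _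
      rw [← app_res, res_res, show res T.X₂ (le_iSup (fun a : c => a.1.1) a) t = a.1.2.2.1 from ht a]
      exact a.1.2.2.2
    · exact ⟨le_iSup (fun a : c => a.1.1) ⟨a, ha⟩, ht ⟨a, ha⟩⟩) (fun {a b c} => trans)
  suffices h : U ≤ m.1 by
    refine ⟨res T.X₂ h m.2.2.1, ?_⟩
    rw [app_res, m.2.2.2, res_res, res_self]
  intro x hx
  haveI := hT.epi_g
  haveI : Sheaf.IsLocallySurjective T.g := (Sheaf.isLocallySurjective_iff_epi' (A := AddCommGrpCat.{u + 1}) T.g).2 inferInstance
  obtain ⟨W, iWU, ⟨t₁, ht₁⟩, hxW⟩ := Presheaf.imageSieve_mem (Opens.grothendieckTopology S) T.g.hom s x hx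
  have hWU : W ≤ U := iWU.le
  have ht₁' : T.g.hom.app (op W) t₁ = res T.X₃ hWU s := ht₁
  let V := m.1 ⊓ W
  obtain ⟨t₃, ht₃⟩ := sections_exact hT V (res T.X₂ inf_le_left m.2.2.1 - res T.X₂ inf_le_right t₁) (by
    rw [map_sub, app_res, app_res, m.2.2.2, ht₁', res_res, res_res, sub_self])
  obtain ⟨t₄, ht₄⟩ := h₁ (inf_le_right : V ≤ W) t₃
  have hg4 : T.g.hom.app (op W) (T.f.hom.app (op W) t₄) = 0 :=
    ConcreteCategory.congr_hom (congrArg (fun k : T.X₁ ⟶ T.X₃ => k.hom.app (op W)) T.zero) t₄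
  have hglue : res T.X₂ (inf_le_left : V ≤ m.1) m.2.2.1 =
      res T.X₂ (inf_le_right : V ≤ W) (t₁ + T.f.hom.app (op W) t₄) := by
    simp only [res, map_add] at ht₄ ⊢
    rw [← NatTrans.naturality_apply T.f.hom (homOfLE (inf_le_right : V ≤ W)).op t₄, ht₄, ht₃]
    abel
  let f : ULift.{u} Bool → S.Opens := fun b => if b.down then m.1 else W
  obtain ⟨t, ht, -⟩ := TopCat.Sheaf.existsUnique_gluing T.X₂ f
    (fun b => match b with | ⟨true⟩ => m.2.2.1 | ⟨false⟩ => t₁ + T.f.hom.app (op W) t₄)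
    (by
      rintro ⟨a⟩ ⟨b⟩
      cases a <;> cases b
      · rfl
      · change res T.X₂ (inf_le_left : W ⊓ m.1 ≤ W) _ = res T.X₂ (inf_le_right : W ⊓ m.1 ≤ m.1) _
        have := congrArg (res T.X₂ (le_inf inf_le_right inf_le_left : W ⊓ m.1 ≤ V)) hglue
        rw [res_res, res_res] at this
        exact this.symm
      · exact hglue
      · rfl)
  have hle : ∀ b, f b ≤ U := by
    rintro ⟨b⟩
    cases b
    · exact hWU
    · exact m.2.1
  have hmt : res T.X₂ (le_iSup f ⟨true⟩) t = m.2.2.1 := ht ⟨true⟩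
  have hWt : res T.X₂ (le_iSup f ⟨false⟩) t = t₁ + T.f.hom.app (op W) t₄ := ht ⟨false⟩
  let n : P := ⟨iSup f, iSup_le hle, t, TopCat.Sheaf.eq_of_locally_eq T.X₃ f _ _ (by
    rintro ⟨b⟩
    change res T.X₃ (le_iSup f ⟨b⟩) _ = res T.X₃ (le_iSup f ⟨b⟩) _
    rw [← app_res, res_res]
    cases b
    · refine (congrArg _ hWt).trans ?_
      exact ((map_add (T.g.hom.app (op W)).hom t₁ _).trans (congrArg (T.g.hom.app (op W) t₁ + ·) hg4)).trans ((add_zero _).trans ht₁')
    · exact (congrArg _ hmt).trans m.2.2.2)⟩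
  obtain ⟨h, -⟩ := hm n ⟨le_iSup f ⟨true⟩, hmt⟩
  exact h (le_iSup f ⟨false⟩ hxW)

theorem flasque_X₃ {T : ShortComplex (EtZar.Ab S)} (hT : T.ShortExact) (h₁ : Flasque T.X₁)
    (h₂ : Flasque T.X₂) : Flasque T.X₃ := by
  intro U V h s
  obtain ⟨t, rfl⟩ := surjective_sections hT h₁ V s
  obtain ⟨t, rfl⟩ := h₂ h t
  exact ⟨T.g.hom.app (op U) t, (app_res T.g h t).symm⟩

/-- Injective sheaves are flasque. -/
theorem flasque_of_injective (I : EtZar.Ab S) [Injective I] : Flasque I := by
  intro U V h s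
  haveI : Injective I.obj := Injective.injective_of_adjoint
    (sheafificationAdjunction (Opens.grothendieckTopology S) AddCommGrpCat.{u + 1}) I
  let Y : S.Opens → (S.Opensᵒᵖ ⥤ Type (u + 1)) := fun W => yoneda.obj W ⋙ uliftFunctor.{u + 1}
  let adj := AddCommGrpCat.adj.{u + 1}.whiskerRight S.Opensᵒᵖ
  let φ : Y V ⟶ Y U := Functor.whiskerRight (yoneda.map (homOfLE h)) uliftFunctor.{u + 1}
  haveI : ∀ W, Mono (φ.app W) := fun W =>
    (mono_iff_injective _).2 fun a b _ => ULift.ext _ _ ((inferInstance : Subsingleton (unop W ⟶ V)).elim _ _)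
  haveI : Mono (((Functor.whiskeringRight S.Opensᵒᵖ _ _).obj AddCommGrpCat.free.{u + 1}).map φ) :=
    @NatTrans.mono_of_mono_app _ _ _ _ _ _ _ fun W => AddCommGrpCat.free.{u + 1}.map_mono (φ.app W)
  let x : Y V ⟶ I.obj ⋙ CategoryTheory.forget AddCommGrpCat.{u + 1} :=
    (uliftYonedaEquiv.{u + 1} (F := I.obj ⋙ CategoryTheory.forget AddCommGrpCat.{u + 1})).symm s
  let y := (adj.homEquiv _ _).symm x
  let z := adj.homEquiv _ _ (Injective.factorThru y
    (((Functor.whiskeringRight S.Opensᵒᵖ _ _).obj AddCommGrpCat.free.{u + 1}).map φ))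
  have hz : φ ≫ z = x := by
    apply (adj.homEquiv _ _).symm.injective
    rw [Adjunction.homEquiv_naturality_left_symm, Equiv.symm_apply_apply]
    exact Injective.comp_factorThru _ _
  let gU : (Y U).obj (op U) := ULift.up (𝟙 U : U ⟶ U)
  refine ⟨z.app (op U) gU, ?_⟩
  refine (NatTrans.naturality_apply z (homOfLE h).op gU).symm.trans ?_
  refine Eq.trans ?_ (Equiv.apply_symm_apply (uliftYonedaEquiv.{u + 1} (F := I.obj ⋙ CategoryTheory.forget AddCommGrpCat.{u + 1})) s)
  exact congrArg (fun k : Y V ⟶ I.obj ⋙ CategoryTheory.forget AddCommGrpCat.{u + 1} => k.app (op V) (ULift.up (𝟙 V))) hz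

/-- Flasque sheaves are acyclic. -/
theorem subsingleton_H (n : ℕ) : ∀ F : EtZar.Ab S, Flasque F → Subsingleton (EtZar.H F (n + 1)) := by
  induction n with
  | zero =>
    intro F hF
    let T := ShortComplex.mk (Injective.ι F) (cokernel.π (Injective.ι F)) (cokernel.condition _)
    have hT : T.ShortExact := { exact := ShortComplex.exact_of_g_is_cokernel _ (cokernelIsCokernel _) }
    haveI : Injective T.X₂ := inferInstanceAs (Injective (Injective.under F))
    refine subsingleton_of_forall_eq 0 fun x => ?_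
    obtain ⟨y, rfl⟩ := Ext.covariant_sequence_exact₁ _ hT x (Ext.eq_zero_of_injective _) rfl
    obtain ⟨φ, rfl⟩ := (Ext.mk₀_bijective _ _).surjective y
    obtain ⟨s, hs⟩ := surjective_sections hT hF ⊤ (Sheaf.H.equiv₀ T.X₃ isTerminalTop (Ext.mk₀ φ))
    have h2 : Sheaf.H.map T.g 0 ((Sheaf.H.equiv₀ T.X₂ isTerminalTop).symm s) = Ext.mk₀ φ := by
      rw [Sheaf.H.equiv₀_symm_naturality]
      exact (AddEquiv.symm_apply_eq _).2 hs
    rw [← h2, Sheaf.H.map_apply, Ext.comp_assoc_of_second_deg_zero, hT.comp_extClass, Ext.comp_zero]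
  | succ n ih =>
    intro F hF
    let T := ShortComplex.mk (Injective.ι F) (cokernel.π (Injective.ι F)) (cokernel.condition _)
    have hT : T.ShortExact := { exact := ShortComplex.exact_of_g_is_cokernel _ (cokernelIsCokernel _) }
    haveI : Injective T.X₂ := inferInstanceAs (Injective (Injective.under F))
    haveI := ih T.X₃ (flasque_X₃ hT hF (flasque_of_injective (Injective.under F)))
    refine subsingleton_of_forall_eq 0 fun x => ?_
    obtain ⟨y, rfl⟩ := Ext.covariant_sequence_exact₁ _ hT x (Ext.eq_zero_of_injective _) rfl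
    rw [show y = 0 from Subsingleton.elim (α := EtZar.H T.X₃ (n + 1)) y 0, Ext.zero_comp]

end Groth.Agent.H9Et.FlasqueBig
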