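import Groth.Agent.H9Et.AcyclicCompare
import Groth.Agent.H9Et.FlasqueBig
import Groth.Agent.H10Coh.SheafH
import Groth.Prelude.Def_Coh
import Mathlib

/-!
# Zariski cohomology does not depend on the universe of the values
-/

set_option autoImplicit false
set_option linter.style.haveILetI false
set_option backward.isDefEq.respectTransparency.types false

universe u

open CategoryTheory Limits Opposite TopologicalSpace AlgebraicGeometry CategoryTheory.Abelian

noncomputable section

namespace Groth.Agent.H9Et.ZarUlift

variable (S : Scheme.{u})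

/-- Small abelian sheaves on a scheme. -/
abbrev AbS : Type (u + 1) := Sheaf (Opens.grothendieckTopology S) AddCommGrpCat.{u}

/-- Raise the universe of the values. -/
abbrev lift : AbS S ⥤ EtZar.Ab S :=
  sheafCompose (Opens.grothendieckTopology S) AddCommGrpCat.uliftFunctor.{u + 1, u}

instance : (lift S).Additive where
  map_add {F G f g} := by
    ext U x
    rfl

theorem preservesFiniteLimits_lift : PreservesFiniteLimits (lift S) := by
  haveI : PreservesFiniteLimits (lift S ⋙ sheafToPresheaf _ _) :=
    inferInstanceAs (PreservesFiniteLimits (sheafToPresheaf (Opens.grothendieckTopology S) AddCommGrpCat.{u} ⋙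
      (Functor.whiskeringRight _ _ _).obj AddCommGrpCat.uliftFunctor.{u + 1, u}))
  exact preservesFiniteLimits_of_reflects_of_preserves (lift S) (sheafToPresheaf _ _)

theorem shortExact_lift {T : ShortComplex (AbS S)} (hT : T.ShortExact) : (T.map (lift S)).ShortExact := by
  haveI := hT.mono_f
  haveI := preservesFiniteLimits_lift S
  haveI hs : Sheaf.IsLocallySurjective T.g := (Sheaf.isLocallySurjective_iff_epi' (φ := T.g)).2 hT.epi_g
  haveI : Sheaf.IsLocallySurjective (T.map (lift S)).g := ⟨fun {U} s => by
    refine (Opens.grothendieckTopology S).superset_covering ?_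
      (Presheaf.imageSieve_mem (Opens.grothendieckTopology S) T.g.hom (U := op U) s.down)
    rintro V i ⟨t, ht⟩
    exact ⟨ULift.up t, congrArg ULift.up ht⟩⟩
  haveI : Mono (T.map (lift S)).f := inferInstanceAs (Mono ((lift S).map T.f))
  haveI : Epi (T.map (lift S)).g := Sheaf.epi_of_isLocallySurjective _
  exact { exact := hT.exact.map_of_mono_of_preservesKernel _ inferInstance inferInstance }

theorem flasque_lift {F : AbS S} (hF : H10Coh.Flasque (X := S.toTopCat) F) : FlasqueBig.Flasque ((lift S).obj F) :=
  fun _ _ h s => ⟨ULift.up (hF h s.down).choose, congrArg ULift.up (hF h s.down).choose_spec⟩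

/-- Degree zero. -/
def degZero (F : AbS S) : Sheaf.H.{u} F 0 ≃+ EtZar.H ((lift S).obj F) 0 :=
  ((Sheaf.H.equiv₀ F (isTerminalTop : IsTerminal (⊤ : S.Opens))).trans AddEquiv.ulift.symm).trans
    (Sheaf.H.equiv₀ ((lift S).obj F) isTerminalTop).symm

theorem degZero_natural {F G : AbS S} (φ : F ⟶ G) (x : Sheaf.H.{u} F 0) :
    degZero S G (Sheaf.H.map φ 0 x) = Sheaf.H.map ((lift S).map φ) 0 (degZero S F x) := by
  have h := Sheaf.H.equiv₀_naturality (isTerminalTop : IsTerminal (⊤ : S.Opens)) φ x
  refine Eq.trans ?_ (Sheaf.H.equiv₀_symm_naturality (isTerminalTop : IsTerminal (⊤ : S.Opens))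
    ((lift S).map φ) (AddEquiv.ulift.symm (Sheaf.H.equiv₀ F isTerminalTop x))).symm
  exact congrArg (fun y => (Sheaf.H.equiv₀ ((lift S).obj G) isTerminalTop).symm (AddEquiv.ulift.symm y)) h.symm

/-- Cohomology of a small sheaf and of its lift agree. -/
theorem nonempty_equiv (F : AbS S) (n : ℕ) : Nonempty (Sheaf.H.{u} F n ≃+ EtZar.H ((lift S).obj F) n) := by
  refine AcyclicCompare.nonempty_equiv (𝟭 (AbS S)) (lift S) _ _ (fun _ => True) (degZero S) (degZero_natural S)
    (fun a _ => ?_) n F trivial
  let T := ShortComplex.mk (Injective.ι a) (cokernel.π (Injective.ι a)) (cokernel.condition _)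
  have hT : T.ShortExact := { exact := ShortComplex.exact_of_g_is_cokernel _ (cokernelIsCokernel _) }
  refine ⟨T, rfl, trivial, hT, shortExact_lift S hT, fun m => ?_, fun m => ?_⟩
  · haveI : Injective T.X₂ := inferInstanceAs (Injective (Injective.under a))
    exact subsingleton_of_forall_eq 0 fun x => Ext.eq_zero_of_injective (I := T.X₂) x
  · haveI : Injective T.X₂ := inferInstanceAs (Injective (Injective.under a))
    exact FlasqueBig.subsingleton_H m _ (flasque_lift S (H10Coh.flasque_of_injective T.X₂))

end Groth.Agent.H9Et.ZarUlift
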