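import Groth.Agent.H9Et.GaAcyclic
import Groth.Agent.H9Et.ZarUlift
import Groth.Agent.H02CA.Adeq.Big.ZarCompare
import Groth.Agent.H1DFun.ZarEt
import Groth.Prelude.Def_EtZar
import Mathlib

/-!
# Etale cohomology of the additive group is Zariski cohomology of the structure sheaf
-/

set_option autoImplicit false
set_option linter.style.haveILetI false
set_option backward.isDefEq.respectTransparency false
set_option backward.isDefEq.respectTransparency.types false

universe u

open CategoryTheory Opposite Limits AlgebraicGeometry CategoryTheory.Abelian TopologicalSpace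
open Groth.Agent.H02CA.Adq

noncomputable section

namespace Groth.Agent.H9Et

variable (S : Scheme.{u})

theorem coverPreserving_zarToEt :
    CoverPreserving (Opens.grothendieckTopology S) S.smallEtaleTopology (EtZar.zarToEt S) := by
  constructor
  intro U R hR
  refine H18Et.mem_topology_of_forall_point _ fun x => ?_
  obtain ⟨V, f, hf, hx⟩ := hR x.1 x.2
  exact ⟨(EtZar.zarToEt S).obj V, (EtZar.zarToEt S).map f, (⟨x.1, hx⟩ : Scheme.Opens.toScheme (X := S) V),
    Sieve.image_mem_functorPushforward _ _ hf, Subtype.ext (Scheme.homOfLE_apply (X := S) f.le (⟨x.1, hx⟩ : Scheme.Opens.toScheme (X := S) V))⟩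

instance zarCont : EtZar.ZarCont S :=
  haveI := H1DFun.representablyFlat_zarToEt S
  Functor.isContinuous_of_coverPreserving (compatiblePreservingOfFlat _ _) (coverPreserving_zarToEt S)

/-- Degree zero. -/
def etZarDegZero (F : BigSite.Ab KE S) :
    EtCoh.H S ((BigSite.resEt KE S).obj F) 0 ≃+ EtZar.H ((BigSite.resZar KE S).obj F) 0 :=
  (H1DFun.zarDegZero S ((BigSite.resEt KE S).obj F)).symm

theorem etZarDegZero_natural {F G : BigSite.Ab KE S} (φ : F ⟶ G) (x : EtCoh.H S ((BigSite.resEt KE S).obj F) 0) :
    etZarDegZero S G (Sheaf.H.map ((BigSite.resEt KE S).map φ) 0 x) =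
      Sheaf.H.map ((BigSite.resZar KE S).map φ) 0 (etZarDegZero S F x) := by
  refine (AddEquiv.symm_apply_eq _).2 ?_
  refine Eq.trans ?_ (H1DFun.zarDegZero_natural S ((BigSite.resEt KE S).map φ) (etZarDegZero S F x)).symm
  exact congrArg (Sheaf.H.map ((BigSite.resEt KE S).map φ) 0) (AddEquiv.apply_symm_apply _ x).symm

/-- Small etale and Zariski cohomology of good sheaves agree. -/
theorem nonempty_etZar_equiv (n : ℕ) (F : BigSite.Ab KE S) (hF : GoodSheaf F) :
    Nonempty (EtCoh.H S ((BigSite.resEt KE S).obj F) n ≃+ EtZar.H ((BigSite.resZar KE S).obj F) n) := by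
  refine AcyclicCompare.nonempty_equiv (BigSite.resEt KE S) (BigSite.resZar KE S) _ _ GoodSheaf
    (etZarDegZero S) (etZarDegZero_natural S) (fun a ha => ?_) n F hF
  let T := ShortComplex.mk (Injective.ι a) (cokernel.π (Injective.ι a)) (cokernel.condition _)
  have hT : T.ShortExact := { exact := ShortComplex.exact_of_g_is_cokernel _ (cokernelIsCokernel _) }
  refine ⟨T, rfl, goodSheaf_quotient flat_of_etale hT ha fun R a A _ _ _ => nerveExact_of_injective_sheaf a A _,
    shortExact_resEt hT ha, shortExact_resZar flat_of_etale hT ha, fun m => ?_, fun m => ?_⟩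
  · haveI : Injective ((BigSite.resEt KE S).obj T.X₂) := H13Desc.BigExact.injective_resEt KE (Injective.under a)
    exact subsingleton_of_forall_eq 0 fun x => Ext.eq_zero_of_injective x
  · haveI : Injective ((BigSite.resZar KE S).obj T.X₂) := injective_resZar S KE (Injective.under a)
    exact subsingleton_of_forall_eq 0 fun x => Ext.eq_zero_of_injective x

/-- The additive group on opens is the structure sheaf. -/
def resGaZarIso : (EtZar.resZar S).obj (EtCoh.Ga S) ≅ (ZarUlift.lift S).obj (Coh.toAb (Coh.structureModule S)) :=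
  (fullyFaithfulSheafToPresheaf _ _).preimageIso (NatIso.ofComponents
    (fun U => AddCommGrpCat.uliftFunctor.{u + 1, u}.mapIso
      ((forget₂ RingCat AddCommGrpCat).mapIso ((forget₂ CommRingCat RingCat).mapIso (Scheme.Opens.topIso (X := S) U.unop))))
    fun {U V} f => AddCommGrpCat.ext fun x => ULift.ext _ _ (by
      change (Scheme.Opens.topIso (X := S) V.unop).hom ((S.homOfLE f.unop.le).appTop x.down) =
        S.presheaf.map f ((Scheme.Opens.topIso (X := S) U.unop).hom x.down)
      rw [Scheme.homOfLE_appTop]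
      simp only [Scheme.Opens.topIso, Functor.mapIso_hom, ← ConcreteCategory.comp_apply, ← Functor.map_comp]
      exact congrArg (fun k => (S.presheaf.map k) x.down) (Subsingleton.elim _ _)))

theorem nonempty_H_Ga_equiv (p : ℕ) :
    Nonempty (EtCoh.H S (EtCoh.Ga S) p ≃+ Coh.HH S (Coh.structureModule S) p) := by
  obtain ⟨e⟩ := nonempty_etZar_equiv S p _ (H23Ga.goodSheaf_Ga (P := @Etale) (S := S))
  obtain ⟨d⟩ := ZarUlift.nonempty_equiv S (Coh.toAb (Coh.structureModule S)) p
  let i₁ := ((Sheaf.functorH _ p).mapIso (resGaIso (S := S))).symm.addCommGroupIsoToAddEquiv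
  let i₂ : (BigSite.resZar KE S).obj (CGrpSh2.Ga KE S) ≅
      (ZarUlift.lift S).obj (Coh.toAb (Coh.structureModule S)) :=
    (EtZar.resZar S).mapIso (resGaIso (S := S)) ≪≫ resGaZarIso S
  exact ⟨i₁.trans (e.trans (((Sheaf.functorH _ p).mapIso i₂).addCommGroupIsoToAddEquiv.trans d.symm))⟩

end Groth.Agent.H9Et
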