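import Groth.Agent.H9Et.DescentPts
import Groth.Prelude.Def_SGA1
import Mathlib

/-!
# Effectiveness of descent of etale schemes is local on the base

For a universally submersive `g : S' ⟶ S`, a datum relative to `g` which is effective on the members
of an fpqc family of `S` gives a descent datum for that family, and is effective once that one is.
-/

set_option autoImplicit false
set_option linter.style.haveILetI false
set_option backward.isDefEq.respectTransparency false
set_option backward.isDefEq.respectTransparency.types false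

universe u

open CategoryTheory Limits AlgebraicGeometry Desc

noncomputable section

namespace Groth.Agent.H9Et.DescPts

variable {S S' : Scheme.{u}} {g : S' ⟶ S} (hg : SGA1.UnivSubmersive g)
  (D : SchDDFam (fun _ : PUnit.{1} => g)) {ι : Type u} {W : ι → Scheme.{u}} (c : ∀ i, W i ⟶ S)
  (U : ∀ i, Over (W i)) [hU : ∀ i, Etale (U i).hom]
  (e : ∀ i, (toDDFam (fun _ : PUnit.{1} => pullback.snd g (c i))).obj (U i) ≅ pullTo D (c i))

theorem univSubmersive_pullback_snd {X Y Z : Scheme.{u}} {f : X ⟶ Z} (hf : SGA1.UnivSubmersive f)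
    (h : Y ⟶ Z) : SGA1.UnivSubmersive (pullback.snd f h) :=
  haveI : SGA1.UnivSubmersive.{u}.IsStableUnderBaseChange := MorphismProperty.universally_isStableUnderBaseChange _
  MorphismProperty.pullback_snd _ _ hf

/-- Points of a local solution are descended points of the datum. -/
def localEquiv (i : ι) {T : Scheme.{u}} (a₀ : T ⟶ W i) : Lifts (U i) a₀ ≃ Pt D (a₀ ≫ c i) :=
  (Equiv.ofBijective _ (ofPoint_bijective (g := pullback.snd g (c i)) (x := a₀) (U i)
    (univSubmersive_pullback_snd hg (c i)))).trans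
    ((Pt.mapEquiv (e i)).trans (pullEquiv D (c i)))

include hg in
theorem localEquiv_res (i : ι) {T T' : Scheme.{u}} (a₀ : T ⟶ W i) (k : T' ⟶ T) {a₀' : T' ⟶ W i}
    (hk : k ≫ a₀ = a₀') (v : Lifts (U i) a₀) (v' : Lifts (U i) a₀') (hv : v'.1 = k ≫ v.1) :
    localEquiv hg D c U e i a₀' v' = (localEquiv hg D c U e i a₀ v).res k (by rw [← Category.assoc, hk]) := by
  have hv' : v' = ⟨k ≫ v.1, by rw [Category.assoc, v.2, hk]⟩ := Subtype.ext hv
  subst hv'
  change pullEquiv D (c i) (Pt.map (e i).hom (ofPoint (U i) _)) = _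
  rw [ofPoint_res (U i) v k hk, Pt.map_res, pullEquiv_res]
  rfl

theorem res_one {T : Scheme.{u}} {x x' : T ⟶ S} (P : Pt D x) {h : (𝟙 T) ≫ x = x'}
    {h' : (𝟙 T) ≫ x' = x} : (P.res (𝟙 T) h).res (𝟙 T) h' = P := by
  rw [Pt.res_res]
  exact P.res_id _ (Category.comp_id _) _

/-- The descent datum given by the local solutions. -/
def localDatum : SchDDFam c where
  obj i := U i
  φ T i j x₀ x₁ h :=
    { toFun := fun v => (localEquiv hg D c U e j x₁).symm
        ((localEquiv hg D c U e i x₀ v).res (𝟙 T) ((Category.id_comp _).trans h))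
      invFun := fun v => (localEquiv hg D c U e i x₀).symm
        ((localEquiv hg D c U e j x₁ v).res (𝟙 T) ((Category.id_comp _).trans h.symm))
      left_inv := fun v => by
        dsimp only
        rw [Equiv.apply_symm_apply, res_one, Equiv.symm_apply_apply]
      right_inv := fun v => by
        dsimp only
        rw [Equiv.apply_symm_apply, res_one, Equiv.symm_apply_apply] }
  φ_natural T T' k i j x₀ x₁ h y₀ y₁ hy₀ hy₁ h' v v' hv := by
    let w := (localEquiv hg D c U e j x₁).symm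
      ((localEquiv hg D c U e i x₀ v).res (𝟙 T) ((Category.id_comp _).trans h))
    change ((localEquiv hg D c U e j y₁).symm
      ((localEquiv hg D c U e i y₀ v').res (𝟙 T') ((Category.id_comp _).trans h'))).1 = k ≫ w.1
    let w' : Lifts (U j) y₁ := ⟨k ≫ w.1, by rw [Category.assoc, w.2, hy₁]⟩
    have : (localEquiv hg D c U e i y₀ v').res (𝟙 T') ((Category.id_comp _).trans h') =
        localEquiv hg D c U e j y₁ w' := by
      rw [localEquiv_res hg D c U e j x₁ k hy₁ w w' rfl, Equiv.apply_symm_apply,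
        localEquiv_res hg D c U e i x₀ k hy₀ v v' hv, Pt.res_res, Pt.res_res]
      exact Pt.res_congr _ (by simp) _ _
    rw [this, Equiv.symm_apply_apply]
  φ_self T i x v := by
    change (localEquiv hg D c U e i x).symm _ = v
    rw [Equiv.symm_apply_eq]
    exact Pt.res_id _ _ rfl _
  φ_comp T i j k x₀ x₁ x₂ h₀₁ h₁₂ v := by
    change (localEquiv hg D c U e k x₂).symm ((localEquiv hg D c U e j x₁
      ((localEquiv hg D c U e j x₁).symm _)).res _ _) = (localEquiv hg D c U e k x₂).symm _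
    rw [Equiv.apply_symm_apply, Pt.res_res]
    exact congrArg _ (Pt.res_congr _ (Category.id_comp _) _ _)

variable (hc : Presieve.ofArrows W c ∈ Scheme.fpqcPrecoverage S) (Y : Over S)
  (η : (toDDFam c).obj Y ≅ localDatum hg D c U e)

/-- Points of the glued scheme over a member. -/
def memberEquiv (i : ι) {T : Scheme.{u}} (a₀ : T ⟶ W i) {x : T ⟶ S} (hx : a₀ ≫ c i = x) :
    Lifts Y x ≃ Lifts (U i) a₀ where
  toFun a := η.hom.push (i := i) (x := a₀)
    ⟨pullback.lift a₀ a.1 (by rw [a.2, hx]), pullback.lift_fst _ _ _⟩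
  invFun v := ⟨(η.inv.push (i := i) (x := a₀) v).1 ≫ pullback.snd (c i) Y.hom, by
    rw [Category.assoc, ← pullback.condition, ← Category.assoc, ← hx]
    exact congrArg (· ≫ c i) (η.inv.push (i := i) (x := a₀) v).2⟩
  left_inv a := Subtype.ext (by
    simp only [SchDDFam.Hom.push, Category.assoc]
    rw [← Category.assoc (η.hom.hom i).left, ← Over.comp_left, ← SchDDFam.comp_hom, η.hom_inv_id]
    erw [Category.id_comp]
    exact pullback.lift_snd _ _ _)
  right_inv v := Subtype.ext (by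
    simp only [SchDDFam.Hom.push]
    have e1 : pullback.lift a₀ ((v.1 ≫ (η.inv.hom i).left) ≫ pullback.snd (c i) Y.hom)
        (by
          rw [Category.assoc, ← pullback.condition, ← Category.assoc]
          exact (congrArg (· ≫ c i) (η.inv.push (i := i) (x := a₀) v).2).symm) =
        v.1 ≫ (η.inv.hom i).left :=
      pullback.hom_ext ((pullback.lift_fst _ _ _).trans (η.inv.push (i := i) (x := a₀) v).2.symm)
        (pullback.lift_snd _ _ _)
    refine (congrArg (· ≫ (η.hom.hom i).left) e1).trans ?_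
    rw [Category.assoc, ← Over.comp_left, ← SchDDFam.comp_hom, η.inv_hom_id]
    exact Category.comp_id _)

/-- Points of the glued scheme over a member are descended points. -/
def memberPt (i : ι) {T : Scheme.{u}} (a₀ : T ⟶ W i) {x : T ⟶ S} (hx : a₀ ≫ c i = x) :
    Lifts Y x ≃ Pt D x :=
  ((memberEquiv hg D c U e Y η i a₀ hx).trans (localEquiv hg D c U e i a₀)).trans
    { toFun := fun P => P.res (𝟙 T) ((Category.id_comp _).trans hx)
      invFun := fun P => P.res (𝟙 T) ((Category.id_comp _).trans hx.symm)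
      left_inv := fun P => res_one D P
      right_inv := fun P => res_one D P }

theorem memberPt_res (i : ι) {T T' : Scheme.{u}} (a₀ : T ⟶ W i) {x : T ⟶ S} (hx : a₀ ≫ c i = x)
    (k : T' ⟶ T) {a₀' : T' ⟶ W i} (hk : k ≫ a₀ = a₀') {x' : T' ⟶ S} (hx' : a₀' ≫ c i = x')
    (a : Lifts Y x) (a' : Lifts Y x') (ha : a'.1 = k ≫ a.1) :
    memberPt hg D c U e Y η i a₀' hx' a' =
      (memberPt hg D c U e Y η i a₀ hx a).res k (by rw [← hx, ← hx', ← hk, Category.assoc]) := by
  simp only [memberPt, Equiv.trans_apply, Equiv.coe_fn_mk]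
  rw [localEquiv_res hg D c U e i a₀ k hk (memberEquiv hg D c U e Y η i a₀ hx a), Pt.res_res, Pt.res_res]
  · exact Pt.res_congr _ (by simp) _ _
  · refine Eq.trans ?_ (Category.assoc _ _ _)
    refine congrArg (· ≫ (η.hom.hom i).left) (pullback.hom_ext ?_ ?_) <;> simp [hk, ha]

/-- The member used does not matter. -/
theorem memberPt_indep (i j : ι) {T : Scheme.{u}} (a₀ : T ⟶ W i) (a₁ : T ⟶ W j) {x : T ⟶ S}
    (hx : a₀ ≫ c i = x) (hx₁ : a₁ ≫ c j = x) (a : Lifts Y x) :
    memberPt hg D c U e Y η i a₀ hx a = memberPt hg D c U e Y η j a₁ hx₁ a := by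
  let v : Lifts (((toDDFam c).obj Y).obj i) a₀ :=
    ⟨pullback.lift a₀ a.1 (by rw [a.2, hx]), pullback.lift_fst _ _ _⟩
  have hcm := η.hom.comm a₀ a₁ (hx.trans hx₁.symm) v (η.hom.push v) rfl
  have h2 : (localDatum hg D c U e).φ a₀ a₁ (hx.trans hx₁.symm) (η.hom.push v) =
      memberEquiv hg D c U e Y η j a₁ hx₁ a := by
    refine Subtype.ext (hcm.trans ?_)
    refine congrArg (· ≫ (η.hom.hom j).left) (pullback.hom_ext ?_ ?_)
    · exact (pullback.lift_fst _ _ _).trans (pullback.lift_fst _ _ _).symm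
    · exact (pullback.lift_snd _ _ _).trans ((pullback.lift_snd _ _ _).trans (pullback.lift_snd _ _ _).symm)
  simp only [memberPt, Equiv.trans_apply, Equiv.coe_fn_mk]
  rw [← h2]
  simp only [localDatum, Equiv.coe_fn_mk]
  rw [Equiv.apply_symm_apply, Pt.res_res]
  exact Pt.res_congr _ (Category.comp_id _).symm _ _

/-- A point of the glued scheme and a descended point correspond. -/
def Rel {T : Scheme.{u}} {x : T ⟶ S} (a : Lifts Y x) (P : Pt D x) : Prop :=
  ∀ {T' : Scheme.{u}} (k : T' ⟶ T) (i : ι) (a₀ : T' ⟶ W i) (h : a₀ ≫ c i = k ≫ x),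
    memberPt hg D c U e Y η i a₀ h ⟨k ≫ a.1, by rw [Category.assoc, a.2]⟩ = P.res k rfl

include hc in
omit hU in
theorem sieve_mem {T : Scheme.{u}} (x : T ⟶ S) :
    Sieve.pullback x (Sieve.generate (Presieve.ofArrows W c)) ∈ Scheme.fpqcTopology T :=
  Scheme.fpqcTopology.pullback_stable _ (Precoverage.generate_mem_toGrothendieck hc)

include hc in
theorem existsUnique_pt {T : Scheme.{u}} {x : T ⟶ S} (a : Lifts Y x) :
    ∃! P : Pt D x, Rel hg D c U e Y η a P := by
  have hfac : ∀ ⦃T' : Scheme.{u}⦄ (k : T' ⟶ T), Sieve.pullback x (Sieve.generate (Presieve.ofArrows W c)) k →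
      ∃ (i : ι) (a₀ : T' ⟶ W i), a₀ ≫ c i = k ≫ x := by
    rintro T' k ⟨_, r, _, ⟨i⟩, hr⟩
    exact ⟨i, r, hr⟩
  choose idx a₀ ha₀ using hfac
  obtain ⟨P, hP, huniq⟩ := Pt.existsUnique_glue (D := D) (sieve_mem c hc x)
    (fun T' k hk => memberPt hg D c U e Y η (idx k hk) (a₀ k hk) (ha₀ k hk) ⟨k ≫ a.1, by rw [Category.assoc, a.2]⟩)
    (fun T' T'' k l hk => by
      rw [memberPt_indep hg D c U e Y η _ (idx k hk) _ (l ≫ a₀ k hk) _
        (by rw [Category.assoc, ha₀, Category.assoc])]
      exact memberPt_res hg D c U e Y η _ _ _ l rfl _ _ _ (Category.assoc _ _ _))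
  refine ⟨P, fun {T'} k i b hb => ?_, fun Q hQ => huniq Q fun T' k hk => (hQ k _ _ (ha₀ k hk)).symm⟩
  have hk : Sieve.pullback x (Sieve.generate (Presieve.ofArrows W c)) k :=
    ⟨_, b, _, Presieve.ofArrows.mk i, hb⟩
  rw [hP k hk]
  exact memberPt_indep hg D c U e Y η _ _ _ _ _ _ _

include hc in
theorem existsUnique_point {T : Scheme.{u}} {x : T ⟶ S} (P : Pt D x) :
    ∃! a : Lifts Y x, Rel hg D c U e Y η a P := by
  have hfac : ∀ ⦃T' : Scheme.{u}⦄ (k : T' ⟶ T), Sieve.pullback x (Sieve.generate (Presieve.ofArrows W c)) k →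
      ∃ (i : ι) (a₀ : T' ⟶ W i), a₀ ≫ c i = k ≫ x := by
    rintro T' k ⟨_, r, _, ⟨i⟩, hr⟩
    exact ⟨i, r, hr⟩
  choose idx a₀ ha₀ using hfac
  let v : ∀ ⦃T' : Scheme.{u}⦄ (k : T' ⟶ T) (_ : Sieve.pullback x (Sieve.generate (Presieve.ofArrows W c)) k),
      Lifts Y (k ≫ x) := fun T' k hk =>
    (memberPt hg D c U e Y η (idx k hk) (a₀ k hk) (ha₀ k hk)).symm (P.res k rfl)
  have hv : ∀ ⦃T' : Scheme.{u}⦄ (k : T' ⟶ T) (hk : Sieve.pullback x (Sieve.generate (Presieve.ofArrows W c)) k)
      (i : ι) (b : T' ⟶ W i) (hb : b ≫ c i = k ≫ x),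
      memberPt hg D c U e Y η i b hb (v k hk) = P.res k rfl := fun T' k hk i b hb => by
    rw [memberPt_indep hg D c U e Y η i (idx k hk) b (a₀ k hk) hb (ha₀ k hk), Equiv.apply_symm_apply]
  obtain ⟨m, hm⟩ := H13Desc.exists_glue (sieve_mem c hc x) (fun T' k hk => (v k hk).1) fun T' T'' k l hk => by
    have hlk := (Sieve.pullback x (Sieve.generate (Presieve.ofArrows W c))).downward_closed hk l
    have hb : (l ≫ a₀ k hk) ≫ c (idx k hk) = (l ≫ k) ≫ x := by
      rw [Category.assoc, ha₀, Category.assoc]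
    let w : Lifts Y ((l ≫ k) ≫ x) := ⟨l ≫ (v k hk).1, by rw [Category.assoc, (v k hk).2, Category.assoc]⟩
    refine congrArg Subtype.val (a₂ := w) ((memberPt hg D c U e Y η _ (l ≫ a₀ k hk) hb).injective ?_)
    rw [hv _ hlk, memberPt_res hg D c U e Y η _ _ (ha₀ k hk) l rfl hb (v k hk) w rfl, hv k hk, Pt.res_res]
  have hmx : m ≫ Y.hom = x := H13Desc.hom_eq_of_sieve (sieve_mem c hc x) _ _ fun T' k hk => by
    rw [← Category.assoc, hm k hk, (v k hk).2]
  refine ⟨⟨m, hmx⟩, fun {T'} k i b hb => ?_, fun a ha => Subtype.ext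
    (H13Desc.hom_eq_of_sieve (sieve_mem c hc x) _ _ fun T' k hk => ?_)⟩
  · have hk : Sieve.pullback x (Sieve.generate (Presieve.ofArrows W c)) k := ⟨_, b, _, Presieve.ofArrows.mk i, hb⟩
    rw [show (⟨k ≫ m, by rw [Category.assoc, hmx]⟩ : Lifts Y (k ≫ x)) = v k hk from Subtype.ext (hm k hk)]
    exact hv k hk i b hb
  · rw [hm k hk]
    exact congrArg Subtype.val ((Equiv.eq_symm_apply _).2 (ha k _ _ (ha₀ k hk)))

include hg hc η in
/-- The datum is effective if the datum of local solutions is. -/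
theorem nonempty_iso_of_localDatum :
    Nonempty ((toDDFam (fun _ : PUnit.{1} => g)).obj Y ≅ D) := by
  choose F hF hFu using fun (T : Scheme.{u}) (x : T ⟶ S) (a : Lifts Y x) =>
    existsUnique_pt hg D c U e hc Y η a
  have hbij : ∀ (T : Scheme.{u}) (x : T ⟶ S), Function.Bijective (F T x) := fun T x => by
    refine ⟨fun a b hab => ?_, fun P => ?_⟩
    · exact (existsUnique_point hg D c U e hc Y η (F T x a)).unique (hF T x a) (hab ▸ hF T x b)
    · obtain ⟨a, ha, -⟩ := existsUnique_point hg D c U e hc Y η P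
      exact ⟨a, (hFu T x a P ha).symm⟩
  have hnat : ∀ {T T' : Scheme.{u}} {x : T ⟶ S} {x' : T' ⟶ S} (k : T' ⟶ T) (hk : k ≫ x = x') (a : Lifts Y x)
      (a' : Lifts Y x') (_ : a'.1 = k ≫ a.1), F T' x' a' = (F T x a).res k hk := by
    intro T T' x x' k hk a a' ha
    subst hk
    refine (hFu T' _ a' _ fun {T''} l i b hb => ?_).symm
    have hb' : b ≫ c i = (l ≫ k) ≫ x := by rw [Category.assoc]; exact hb
    have h1 := hF T x a (l ≫ k) i b hb'
    rw [Pt.res_res]
    let w : Lifts Y ((l ≫ k) ≫ x) := ⟨(l ≫ k) ≫ a.1, by rw [Category.assoc, a.2]⟩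
    rw [memberPt_res hg D c U e Y η i b hb' (𝟙 T'') (Category.id_comp b) hb w _
      (by simp [w, ha, Category.assoc])]
    rw [h1, Pt.res_res]
    exact Pt.res_congr _ (Category.id_comp _) _ _
  let κ : ∀ {T : Scheme.{u}} (y : T ⟶ S'), Lifts (((toDDFam (fun _ : PUnit.{1} => g)).obj Y).obj PUnit.unit) y ≃
      Lifts (D.obj PUnit.unit) y := fun {T} y =>
    Equiv.trans
      { toFun := fun v => ⟨v.1 ≫ pullback.snd g Y.hom, by
          rw [Category.assoc, ← pullback.condition, ← Category.assoc]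
          exact congrArg (· ≫ g) v.2⟩
        invFun := fun a : Lifts Y (y ≫ g) => ⟨pullback.lift y a.1 a.2.symm, pullback.lift_fst _ _ _⟩
        left_inv := fun v => Subtype.ext (pullback.hom_ext ((pullback.lift_fst _ _ _).trans v.2.symm)
          (pullback.lift_snd _ _ _))
        right_inv := fun a => Subtype.ext (pullback.lift_snd _ _ _) }
      ((Equiv.ofBijective _ (hbij T (y ≫ g))).trans
        { toFun := fun P => ⟨P.val (𝟙 T) y (Category.id_comp (y ≫ g)), P.isOver (𝟙 T) y (Category.id_comp (y ≫ g))⟩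
          invFun := fun v => Pt.ofLift rfl v
          left_inv := fun P => (Pt.eq_ofLift rfl P).symm
          right_inv := fun v => Subtype.ext (Pt.ofLift_val_self rfl v (Category.id_comp (y ≫ g))) })
  refine ⟨H13Desc.ddFamIso (fun _ => H13Desc.liftsIso (fun T y => κ y) ?_) ?_⟩
  · intro T T' k y y' hk v v' hv
    change (F T' _ _).val (𝟙 T') y' _ = k ≫ (F T _ _).val (𝟙 T) y _
    rw [hnat (x := y ≫ g) k (by rw [← hk, Category.assoc]) ⟨v.1 ≫ pullback.snd g Y.hom, by
        rw [Category.assoc, ← pullback.condition, ← Category.assoc]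
        exact congrArg (· ≫ g) v.2⟩ _ (by
      change v'.1 ≫ pullback.snd g Y.hom = k ≫ v.1 ≫ pullback.snd g Y.hom
      rw [hv, Category.assoc]), Pt.res_val]
    refine (Pt.val_congr _ ((Category.id_comp k).trans (Category.comp_id k).symm) hk.symm _ ?_).trans
      (Pt.nat _ k (𝟙 T) y _ _)
    rw [Category.comp_id, Category.assoc]
  · intro T i j y₀ y₁ h v w hw
    rw [H13Desc.comp_liftsIso_hom] at hw ⊢
    obtain rfl := Subtype.ext hw
    change (D.φ y₀ y₁ h ⟨(F T _ _).val (𝟙 T) y₀ _, _⟩).1 = (F T _ _).val (𝟙 T) y₁ _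
    rw [hnat (x := y₀ ≫ g) (x' := y₁ ≫ g) (𝟙 T) (by rw [Category.id_comp]; exact h)
      ⟨v.1 ≫ pullback.snd g Y.hom, by
        rw [Category.assoc, ← pullback.condition, ← Category.assoc]
        exact congrArg (· ≫ g) v.2⟩ _ ((pullback.lift_snd _ _ _).trans (Category.id_comp _).symm), Pt.res_val]
    refine ((Pt.compat _ (𝟙 T) y₀ y₁ (Category.id_comp _) ((Category.id_comp _).trans h))).trans ?_
    exact Pt.val_congr _ (Category.comp_id _).symm rfl _ _

include hg hc in
/-- Etale descent data relative to a universally submersive morphism: effectiveness is local. -/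
theorem exists_of_localDatum_isEffective (h : (localDatum hg D c U e).IsEffective) :
    ∃ Y : Over S, Nonempty ((toDDFam c).obj Y ≅ localDatum hg D c U e) ∧
      Nonempty ((toDDFam (fun _ : PUnit.{1} => g)).obj Y ≅ D) := by
  obtain ⟨Y, ⟨η⟩⟩ := h
  exact ⟨Y, ⟨η⟩, nonempty_iso_of_localDatum hg D c U e hc Y η⟩

end Groth.Agent.H9Et.DescPts
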