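import Mathlib.Algebra.Homology.DerivedCategory.Ext.ExactSequences
import Mathlib.GroupTheory.QuotientGroup.Basic

/-!
# Comparing two Ext functors by dimension shifting along an acyclic class
-/

set_option autoImplicit false
set_option linter.style.haveILetI false

universe w w' v v' v'' u u' u''

open CategoryTheory CategoryTheory.Abelian

noncomputable section

namespace Groth.Agent.H9Et.AcyclicCompare

section Shift

variable {C : Type u} [Category.{v} C] [Abelian C] [HasExt.{w} C] {T : ShortComplex C} (hT : T.ShortExact) (Z : C)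

/-- The image of the middle term. -/
def shiftRange (T : ShortComplex C) (Z : C) (n : ℕ) : AddSubgroup (Ext.{w} Z T.X₃ n) :=
  ((Ext.mk₀ T.g).postcomp Z (add_zero n)).range

/-- Dimension shifting. -/
def shiftEquiv (h : ∀ m : ℕ, Subsingleton (Ext.{w} Z T.X₂ (m + 1))) (n : ℕ) :
    Ext.{w} Z T.X₃ n ⧸ shiftRange T Z n ≃+ Ext.{w} Z T.X₁ (n + 1) :=
  (QuotientAddGroup.quotientAddEquivOfEq (by
      ext x
      constructor
      · rintro ⟨y, rfl⟩
        change (y.comp (Ext.mk₀ T.g) (add_zero n)).comp hT.extClass rfl = 0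
        rw [Ext.comp_assoc_of_second_deg_zero, ShortComplex.ShortExact.comp_extClass, Ext.comp_zero]
      · intro hx
        obtain ⟨y, hy⟩ := Ext.covariant_sequence_exact₃ Z hT x rfl hx
        exact ⟨y, hy⟩ : shiftRange T Z n = (hT.extClass.postcomp Z (rfl : n + 1 = n + 1)).ker)).trans
    (QuotientAddGroup.quotientKerEquivOfSurjective _ fun x => by
      haveI := h n
      exact Ext.covariant_sequence_exact₁ Z hT x (Subsingleton.elim _ _) rfl)

theorem shiftRange_eq_bot (h : ∀ m : ℕ, Subsingleton (Ext.{w} Z T.X₂ (m + 1))) (n : ℕ) :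
    shiftRange T Z (n + 1) = ⊥ := by
  refine (AddSubgroup.eq_bot_iff_forall _).2 ?_
  rintro _ ⟨x, rfl⟩
  haveI := h n
  rw [Subsingleton.elim x 0, map_zero]

end Shift

variable {A : Type u} [Category.{v} A] [Abelian A]
  {B : Type u'} [Category.{v'} B] [Abelian B] [HasExt.{w} B]
  {B' : Type u''} [Category.{v''} B'] [Abelian B'] [HasExt.{w'} B']
  (Φ : A ⥤ B) [Φ.PreservesZeroMorphisms] (Φ' : A ⥤ B') [Φ'.PreservesZeroMorphisms] (Z : B) (Z' : B')

/-- Two functors with the same sections that are exact on a class of objects with acyclic resolutions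
have the same higher cohomology on that class. -/
theorem nonempty_equiv (P : A → Prop)
    (e₀ : ∀ a : A, Ext.{w} Z (Φ.obj a) 0 ≃+ Ext.{w'} Z' (Φ'.obj a) 0)
    (nat : ∀ {a b : A} (f : a ⟶ b) (x : Ext.{w} Z (Φ.obj a) 0),
      e₀ b (x.comp (Ext.mk₀ (Φ.map f)) (add_zero 0)) = (e₀ a x).comp (Ext.mk₀ (Φ'.map f)) (add_zero 0))
    (res : ∀ a, P a → ∃ T : ShortComplex A, T.X₁ = a ∧ P T.X₃ ∧ (T.map Φ).ShortExact ∧ (T.map Φ').ShortExact ∧
      (∀ m : ℕ, Subsingleton (Ext.{w} Z (Φ.obj T.X₂) (m + 1))) ∧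
      ∀ m : ℕ, Subsingleton (Ext.{w'} Z' (Φ'.obj T.X₂) (m + 1)))
    (n : ℕ) : ∀ a, P a → Nonempty (Ext.{w} Z (Φ.obj a) n ≃+ Ext.{w'} Z' (Φ'.obj a) n) := by
  induction n with
  | zero => exact fun a _ => ⟨e₀ a⟩
  | succ n ih =>
    intro a ha
    obtain ⟨T, rfl, h₃, hT, hT', hI, hI'⟩ := res a ha
    obtain ⟨e, he⟩ : ∃ e : Ext.{w} Z (T.map Φ).X₃ n ≃+ Ext.{w'} Z' (T.map Φ').X₃ n,
        (shiftRange (T.map Φ) Z n).map e.toAddMonoidHom = shiftRange (T.map Φ') Z' n := by
      cases n with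
      | zero =>
        refine ⟨e₀ T.X₃, ?_⟩
        ext y
        constructor
        · rintro ⟨_, ⟨x, rfl⟩, rfl⟩
          exact ⟨e₀ T.X₂ x, (nat T.g x).symm⟩
        · rintro ⟨x, rfl⟩
          refine ⟨_, ⟨(e₀ T.X₂).symm x, rfl⟩, ?_⟩
          refine (nat T.g _).trans ?_
          rw [AddEquiv.apply_symm_apply]
          rfl
      | succ m =>
        obtain ⟨e⟩ := ih T.X₃ h₃
        exact ⟨e, by rw [shiftRange_eq_bot (T := T.map Φ) Z hI, shiftRange_eq_bot (T := T.map Φ') Z' hI', AddSubgroup.map_bot]⟩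
    exact ⟨(shiftEquiv hT Z hI n).symm.trans ((QuotientAddGroup.congr _ _ e he).trans (shiftEquiv hT' Z' hI' n))⟩

end Groth.Agent.H9Et.AcyclicCompare
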