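import Groth.Agent.S2363
import Groth.Agent.H24Adic.CompletionNoetherian
import Mathlib

/-!
# Faithfully flat complete extensions with algebraically closed residue field

A Noetherian local ring has a faithfully flat Noetherian complete local algebra whose residue field
is algebraically closed.
-/

set_option autoImplicit false
set_option linter.style.haveILetI false

universe u

namespace Groth.Agent.H9Et

open IsLocalRing

theorem exists_complete_algClosed_faithfullyFlat (A : Type u) [CommRing A] [IsNoetherianRing A]
    [IsLocalRing A] :
    ∃ (B : Type u) (_ : CommRing B) (_ : Algebra A B) (_ : IsNoetherianRing B) (_ : IsLocalRing B),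
      IsAdicComplete (maximalIdeal B) B ∧ IsAlgClosed (ResidueField B) ∧
      Module.FaithfullyFlat A B := by
  obtain ⟨B, hB, hAB, _, _, _, _, e, -⟩ :=
    Groth.Agent.S2363.result (A := A) (AlgebraicClosure (ResidueField A))
  have hmax : (maximalIdeal A).map (algebraMap A B) = maximalIdeal B :=
    IsLocalRing.eq_maximalIdeal (Ideal.Quotient.maximal_of_isField _
      (e.toMulEquiv.isField (Field.toIsField (AlgebraicClosure (ResidueField A)))))
  haveI : IsAlgClosed (ResidueField B) := by
    let e₁ : ResidueField B ≃+* (B ⧸ (maximalIdeal A).map (algebraMap A B)) :=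
      (Ideal.quotEquivOfEq hmax).symm
    exact IsAlgClosed.of_ringEquiv (AlgebraicClosure (ResidueField A)) _ (e₁.trans e).symm
  haveI : Module.FaithfullyFlat A B := Module.FaithfullyFlat.of_flat_of_isLocalHom
  haveI : Module.FaithfullyFlat B (AdicCompletion (maximalIdeal B) B) :=
    Module.FaithfullyFlat.of_flat_of_isLocalHom
  haveI : IsNoetherianRing (AdicCompletion (maximalIdeal B) B) :=
    Groth.Agent.H24Adic.isNoetherianRing_adicCompletion (maximalIdeal B)
  refine ⟨AdicCompletion (maximalIdeal B) B, inferInstance, inferInstance, inferInstance, inferInstance,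
    inferInstance, ?_, Module.FaithfullyFlat.trans A B _⟩
  exact IsAlgClosed.of_ringEquiv (ResidueField B) _
    (RingEquiv.ofBijective _ (AdicCompletion.residueField_map_bijective_of_fg
      (maximalIdeal B).fg_of_isNoetherianRing))

end Groth.Agent.H9Et
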