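import Mathlib

/-!
# An affine cover of a scheme with algebraically closed residue fields
-/

set_option autoImplicit false
set_option linter.style.haveILetI false

universe u

open CategoryTheory AlgebraicGeometry Polynomial Opposite

noncomputable section

namespace Groth.Agent.H9Et.ACCover

variable (A : Type u) [CommRing A]

/-- `A` with weak inverses of all elements adjoined. -/
def WInv : Type u :=
  MvPolynomial A A ⧸ Ideal.span
    ((Set.range fun a : A => MvPolynomial.X a * MvPolynomial.C a * MvPolynomial.C a - MvPolynomial.C a) ∪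
      Set.range fun a : A => MvPolynomial.X a * MvPolynomial.X a * MvPolynomial.C a - MvPolynomial.X a)

instance : CommRing (WInv A) := inferInstanceAs (CommRing (MvPolynomial A A ⧸ Ideal.span _))

/-- The projection. -/
def wmk : MvPolynomial A A →+* WInv A := Ideal.Quotient.mk _

theorem wmk_surjective : Function.Surjective (wmk A) := Ideal.Quotient.mk_surjective

/-- The index of the roots to be adjoined. -/
abbrev RootIdx : Type u := Σ f : {f : (WInv A)[X] // f.Monic}, Fin f.1.natDegree

/-- The relations making every monic polynomial split. -/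
def splitRel (f : {f : (WInv A)[X] // f.Monic}) : (MvPolynomial (RootIdx A) (WInv A))[X] :=
  f.1.map (MvPolynomial.C : WInv A →+* MvPolynomial (RootIdx A) (WInv A)) -
    ∏ i : Fin f.1.natDegree, ((Polynomial.X : (MvPolynomial (RootIdx A) (WInv A))[X]) -
      Polynomial.C (MvPolynomial.X (⟨f, i⟩ : RootIdx A)))

/-- The cover. -/
abbrev Cover : Type u :=
  MvPolynomial (RootIdx A) (WInv A) ⧸
    Ideal.span (α := MvPolynomial (RootIdx A) (WInv A)) (Set.range fun fi : {f : (WInv A)[X] // f.Monic} × ℕ => (splitRel A fi.1).coeff fi.2)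

/-- The structure map. -/
def str : A →+* Cover A :=
  ((Ideal.Quotient.mk _).comp MvPolynomial.C).comp ((wmk A).comp MvPolynomial.C)

theorem exists_split (f : (WInv A)[X]) (hf : f.Monic) :
    ∃ r : Fin f.natDegree → Cover A,
      f.map ((Ideal.Quotient.mk _).comp MvPolynomial.C) = ∏ i, (Polynomial.X - Polynomial.C (r i)) := by
  refine ⟨fun i => Ideal.Quotient.mk _ (MvPolynomial.X (⟨⟨f, hf⟩, i⟩ : RootIdx A)), ?_⟩
  have h : (splitRel A ⟨f, hf⟩).map (Ideal.Quotient.mk (Ideal.span (Set.range fun fi : {f : (WInv A)[X] // f.Monic} × ℕ =>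
      (splitRel A fi.1).coeff fi.2))) = 0 := Polynomial.ext fun n => by
    rw [coeff_map, coeff_zero]
    exact Ideal.Quotient.eq_zero_iff_mem.2 (Ideal.subset_span ⟨(⟨f, hf⟩, n), rfl⟩)
  rw [splitRel, Polynomial.map_sub, sub_eq_zero, Polynomial.map_map, Polynomial.map_prod] at h
  simpa using h

variable {A}

theorem exists_extension {Ω : Type u} [Field Ω] [IsAlgClosed Ω] (φ : A →+* Ω) :
    ∃ χ : Cover A →+* Ω, χ.comp (str A) = φ := by
  classical
  have hker : Ideal.span
      ((Set.range fun a : A => MvPolynomial.X a * MvPolynomial.C a * MvPolynomial.C a - MvPolynomial.C a) ∪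
        Set.range fun a : A => MvPolynomial.X a * MvPolynomial.X a * MvPolynomial.C a - MvPolynomial.X a) ≤
      RingHom.ker (MvPolynomial.eval₂Hom φ fun a => (φ a)⁻¹) := Ideal.span_le.2 (by
    rintro _ (⟨a, rfl⟩ | ⟨a, rfl⟩) <;>
    · rw [SetLike.mem_coe, RingHom.mem_ker, map_sub, map_mul, map_mul, MvPolynomial.eval₂Hom_X', MvPolynomial.eval₂Hom_C]
      rcases eq_or_ne (φ a) 0 with h | h
      · simp [h]
      · field_simp; ring)
  let ψ : WInv A →+* Ω := Ideal.Quotient.lift _ (MvPolynomial.eval₂Hom φ fun a => (φ a)⁻¹) fun x hx => hker hx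
  have hr : ∀ f : {f : (WInv A)[X] // f.Monic}, ∃ r : Fin f.1.natDegree → Ω,
      f.1.map ψ = ∏ i, (Polynomial.X - Polynomial.C (r i)) := fun f => by
    have hs := IsAlgClosed.splits (f.1.map ψ)
    have hm := f.2.map ψ
    have hcard : (f.1.map ψ).roots.toList.length = f.1.natDegree := by
      rw [Multiset.length_toList, ← hs.natDegree_eq_card_roots, natDegree_map_eq_of_isUnit_leadingCoeff]
      simp [f.2]
    refine ⟨fun i => (f.1.map ψ).roots.toList[(i : ℕ)]'(by rw [hcard]; exact i.2), ?_⟩
    conv_lhs => rw [hs.eq_prod_roots_of_monic hm, ← Multiset.coe_toList (f.1.map ψ).roots, Multiset.map_coe,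
      Multiset.prod_coe, ← Fin.prod_univ_fun_getElem]
    exact Fintype.prod_equiv (finCongr hcard) _ _ fun i => rfl
  choose r hr using hr
  let ev : MvPolynomial (RootIdx A) (WInv A) →+* Ω := MvPolynomial.eval₂Hom ψ fun x => r x.1 x.2
  have hker' : Ideal.span (Set.range fun fi : {f : (WInv A)[X] // f.Monic} × ℕ => (splitRel A fi.1).coeff fi.2) ≤
      RingHom.ker ev := Ideal.span_le.2 (by
    rintro _ ⟨⟨f, n⟩, rfl⟩
    have h : (splitRel A f).map ev = 0 := by
      rw [splitRel, Polynomial.map_sub, Polynomial.map_map, Polynomial.map_prod, sub_eq_zero,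
        show ev.comp MvPolynomial.C = ψ from RingHom.ext fun x => MvPolynomial.eval₂Hom_C _ _ x, hr f]
      simp [ev]
    rw [SetLike.mem_coe, RingHom.mem_ker, ← coeff_map, h, coeff_zero])
  refine ⟨Ideal.Quotient.lift _ ev fun x hx => hker' hx, RingHom.ext fun a => ?_⟩
  simp [str, ev, ψ, wmk]
  exact MvPolynomial.eval₂_C _ _ _

theorem surjective_comap : Function.Surjective (PrimeSpectrum.comap (str A)) := fun p => by
  let Ω := AlgebraicClosure p.asIdeal.ResidueField
  obtain ⟨χ, hχ⟩ := exists_extension ((algebraMap p.asIdeal.ResidueField Ω).comp (algebraMap A _))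
  refine ⟨⟨RingHom.ker χ, RingHom.ker_isPrime χ⟩, PrimeSpectrum.ext ?_⟩
  rw [PrimeSpectrum.comap_asIdeal, RingHom.comap_ker, hχ]
  ext a
  simp [RingHom.mem_ker]

/-- Residue fields of the cover are algebraically closed and algebraic over the base. -/
theorem residueField_props (q : Ideal (Cover A)) [q.IsPrime] :
    IsAlgClosed q.ResidueField ∧
      ∀ (F : Subfield q.ResidueField), (∀ a, algebraMap _ q.ResidueField (str A a) ∈ F) →
        ∀ x : q.ResidueField, IsIntegral F x := by
  classical
  let K := q.ResidueField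
  let φ : Cover A →+* K := algebraMap _ K
  let ψ : WInv A →+* K := φ.comp ((Ideal.Quotient.mk _).comp MvPolynomial.C)
  let F₀ : Subfield K := Subfield.closure (Set.range (φ.comp (str A)))
  let ι : A →+* K := φ.comp (str A)
  have hinv : ∀ a, ψ (wmk A (MvPolynomial.X a)) = (ι a)⁻¹ := fun a => by
    have hrel : ∀ z ∈ ((Set.range fun a : A => MvPolynomial.X a * MvPolynomial.C a * MvPolynomial.C a - MvPolynomial.C a) ∪
        Set.range fun a : A => MvPolynomial.X a * MvPolynomial.X a * MvPolynomial.C a - MvPolynomial.X a),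
        ψ (wmk A z) = 0 := fun z hz => by
      rw [show wmk A z = 0 from Ideal.Quotient.eq_zero_iff_mem.2 (Ideal.subset_span hz), map_zero]
    have h := hrel _ (Or.inl ⟨a, rfl⟩)
    have h' := hrel _ (Or.inr ⟨a, rfl⟩)
    rw [map_sub, map_mul, map_mul, map_sub, map_mul, map_mul, sub_eq_zero] at h h'
    change _ = ι a at h
    change _ * ι a = _ at h'
    rcases eq_or_ne (ι a) 0 with h0 | h0
    · rw [h0, mul_zero] at h'
      rw [h0, inv_zero]
      exact h'.symm
    · exact eq_inv_of_mul_eq_one_left (mul_right_cancel₀ h0 (h.trans (one_mul _).symm))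
  have hC : ∀ a, ψ (wmk A (MvPolynomial.C a)) = ι a := fun a => rfl
  have hψ : ∀ x, ψ x ∈ F₀ := by
    intro x
    obtain ⟨y, rfl⟩ := wmk_surjective A x
    induction y using MvPolynomial.induction_on with
    | C a => exact Subfield.subset_closure ⟨a, rfl⟩
    | add y z hy hz => rw [map_add, map_add]; exact F₀.add_mem hy hz
    | mul_X y a hy =>
      rw [map_mul, map_mul, hinv]
      exact F₀.mul_mem hy (F₀.inv_mem (Subfield.subset_closure ⟨a, rfl⟩))
  -- every element is algebraic over `F₀`
  have hint : ∀ z : Cover A, IsIntegral F₀ (φ z) := fun z => by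
    obtain ⟨y, rfl⟩ := Ideal.Quotient.mk_surjective z
    induction y using MvPolynomial.induction_on with
    | C a => exact (isIntegral_algebraMap (R := F₀) (A := K) (x := ⟨ψ a, hψ a⟩))
    | add y z hy hz => rw [map_add, map_add]; exact hy.add hz
    | mul_X y fi hy =>
      rw [map_mul, map_mul]
      refine hy.mul ?_
      obtain ⟨⟨f, hf⟩, i⟩ := fi
      let g : F₀[X] := f.map (ψ.codRestrict F₀ hψ)
      refine ⟨g, hf.map _, ?_⟩
      have hrel : ((splitRel A ⟨f, hf⟩).map ((φ.comp (Ideal.Quotient.mk _)))) = 0 := Polynomial.ext fun n => by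
        have hmem : (splitRel A ⟨f, hf⟩).coeff n ∈
            Ideal.span (Set.range fun fi : {f : (WInv A)[X] // f.Monic} × ℕ => (splitRel A fi.1).coeff fi.2) :=
          Ideal.subset_span ⟨(⟨f, hf⟩, n), rfl⟩
        rw [coeff_map, coeff_zero, RingHom.comp_apply, Ideal.Quotient.eq_zero_iff_mem.2 hmem, map_zero]
      rw [splitRel, Polynomial.map_sub, Polynomial.map_map, Polynomial.map_prod, sub_eq_zero] at hrel
      rw [eval₂_eq_eval_map, Polynomial.map_map,
        show (algebraMap F₀ K).comp (ψ.codRestrict F₀ hψ) = (φ.comp (Ideal.Quotient.mk _)).comp MvPolynomial.C from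
          RingHom.ext fun _ => rfl, hrel, eval_prod]
      exact Finset.prod_eq_zero (Finset.mem_univ i) (by simp)
  have halg : ∀ x : K, IsIntegral F₀ x := fun x => by
    obtain ⟨z, s, -, hx⟩ := IsFractionRing.div_surjective (A := Cover A ⧸ q) x
    obtain ⟨z, rfl⟩ := Ideal.Quotient.mk_surjective z
    obtain ⟨s, rfl⟩ := Ideal.Quotient.mk_surjective s
    rw [← hx, ← Ideal.Quotient.algebraMap_eq, ← IsScalarTower.algebraMap_apply, ← IsScalarTower.algebraMap_apply,
      div_eq_mul_inv]
    exact (hint z).mul (isAlgebraic_iff_isIntegral.1 (IsAlgebraic.inv (hint s).isAlgebraic))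
  refine ⟨IsAlgClosed.of_exists_root K fun P hm hirr => ?_, fun F hF x => ?_⟩
  · haveI : Algebra.IsAlgebraic F₀ K := ⟨fun x => (halg x).isAlgebraic⟩
    obtain ⟨z, hz⟩ := IsAlgClosed.exists_aeval_eq_zero (AlgebraicClosure K) P (degree_pos_of_irreducible hirr).ne'
    have hzint : IsIntegral F₀ z := isIntegral_trans (A := K) z ⟨P, hm, hz⟩
    have hgm : (minpoly F₀ z).Monic := minpoly.monic hzint
    -- lift the minimal polynomial to the weakly inverted ring
    have hsurj : ∀ c : F₀, ∃ w : WInv A, ψ.codRestrict F₀ hψ w = c := by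
      suffices ∀ c ∈ F₀, ∃ w, ψ w = c from fun c => (this c c.2).imp fun w hw => Subtype.ext hw
      intro c hc
      obtain ⟨y, hy, z, hz, rfl⟩ := Subfield.mem_closure_iff.1 hc
      have hle : Subring.closure (Set.range ι) ≤ ι.range := Subring.closure_le.2 fun _ hx => hx
      obtain ⟨b, rfl⟩ := hle hy
      obtain ⟨e, rfl⟩ := hle hz
      exact ⟨wmk A (MvPolynomial.C b * MvPolynomial.X e), by
        rw [map_mul, map_mul, hC, hinv, div_eq_mul_inv]⟩
    obtain ⟨f, hfmap, -, hfm⟩ := lifts_and_degree_eq_and_monic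
      ((lifts_iff_coeff_lifts (f := ψ.codRestrict F₀ hψ) _).2 fun n => hsurj _) hgm
    obtain ⟨r, hr⟩ := exists_split A f hfm
    have hz0 : ((f.map ψ).map (algebraMap K (AlgebraicClosure K))).eval z = 0 := by
      have h := minpoly.aeval F₀ z
      rw [← hfmap, aeval_def, eval₂_eq_eval_map, Polynomial.map_map] at h
      rwa [Polynomial.map_map]
    rw [show f.map ψ = (f.map ((Ideal.Quotient.mk _).comp MvPolynomial.C)).map φ from (Polynomial.map_map _ _ _).symm, hr,
      Polynomial.map_prod, Polynomial.map_prod, eval_prod, Finset.prod_eq_zero_iff] at hz0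
    obtain ⟨i, -, hi⟩ := hz0
    refine ⟨φ (r i), (algebraMap K (AlgebraicClosure K)).injective ?_⟩
    simp only [Polynomial.map_sub, map_X, map_C, eval_sub, eval_X, eval_C, sub_eq_zero] at hi
    rw [map_zero, ← aeval_algebraMap_apply_eq_algebraMap_eval, ← hi, hz]
  · have hle : F₀ ≤ F := Subfield.closure_le.2 (by rintro _ ⟨a, rfl⟩; exact hF a)
    obtain ⟨g, hg, hgx⟩ := halg x
    refine ⟨g.map (Subfield.inclusion hle), hg.map _, ?_⟩
    rw [eval₂_map]
    exact hgx

end Groth.Agent.H9Et.ACCover
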