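import Groth.Agent.H18Et.FEtNormalOutside
import Groth.Agent.H18Et.FEtLimit
import Groth.Agent.S4440
import Groth.Agent.S0247
import Groth.Agent.S0250
import Groth.Agent.H29Ref.Hartogs
import Groth.Prelude.Def_FEt
import Mathlib

/-!
# Birational invariance of finite etale covers of proper regular schemes
-/

set_option autoImplicit false
set_option linter.style.haveILetI false
set_option backward.isDefEq.respectTransparency false
set_option backward.isDefEq.respectTransparency.types false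

universe u

open CategoryTheory Limits AlgebraicGeometry

noncomputable section

namespace Groth.Agent.H9Et.Birat

/-- Restriction along a composite, as functors. -/
def compIso {X Y Z : Scheme.{u}} (f : X ⟶ Y) (g : Y ⟶ Z) (h : X ⟶ Z) (hh : f ≫ g = h) :
    FEt.restrict g ⋙ FEt.restrict f ≅ FEt.restrict h :=
  (MorphismProperty.Over.pullbackComp (P := FEt.prop.{u}) (Q := ⊤) f g).symm ≪≫
    MorphismProperty.Over.pullbackCongr hh

/-- Restriction along the identity. -/
def idIso (X : Scheme.{u}) : FEt.restrict (𝟙 X) ≅ 𝟭 (FEt.Cat X) :=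
  NatIso.ofComponents (fun A => MorphismProperty.Over.isoMk (asIso (pullback.fst A.hom (𝟙 X)))
      (by rw [asIso_hom]; exact pullback.condition.trans (Category.comp_id _)))
    (fun {A B} h => MorphismProperty.Over.Hom.ext (pullback.lift_fst _ _ _))

variable {k : Type u} [Field k] {X Y : Scheme.{u}}
  (f : X ⟶ Spec (CommRingCat.of k)) (g : Y ⟶ Spec (CommRingCat.of k))

/-- Restriction to a dense open of a regular scheme is fully faithful. -/
theorem full_faithful_regular {X' : Scheme.{u}} [IsLocallyNoetherian X]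
    (hX : ∀ x : X, IsRegularLocalRing (X.presheaf.stalk x)) (j : X' ⟶ X) [IsOpenImmersion j]
    (hj : Dense (Set.range j)) : (FEt.restrict j).Full ∧ (FEt.restrict j).Faithful :=
  H18Et.FEtNormalOutside.full_faithful j hj fun x _ => H29Ref.isNormalScheme_of_regular hX x

/-- Restriction to an open containing the points of codimension at most one is essentially surjective. -/
theorem essSurj_regular [IsNoetherian X] (hX : ∀ x : X, IsRegularLocalRing (X.presheaf.stalk x))
    (U : X.Opens) (hU : ∀ x : X, ringKrullDim (X.presheaf.stalk x) ≤ 1 → x ∈ U) :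
    (FEt.restrict U.ι).EssSurj :=
  Groth.Agent.S0250.result U fun x hx =>
    haveI := hX x
    Groth.Agent.S0247.result _ (by
      by_contra h
      refine hx (hU x ?_)
      obtain ⟨n, hn⟩ : ∃ n : ℕ, ringKrullDim (X.presheaf.stalk x) = n :=
        ⟨_, (IsRegularLocalRing.spanFinrank_maximalIdeal (R := X.presheaf.stalk x)).symm⟩
      rw [hn] at h ⊢
      norm_cast at h ⊢
      omega)

/-- The birational map extends to codimension one. -/
theorem exists_extension [IsLocallyNoetherian X] [IsProper g]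
    (hX : ∀ x : X, IsRegularLocalRing (X.presheaf.stalk x)) (U : X.Opens) (hU : Dense (U : Set X))
    (φ : (U : Scheme.{u}) ⟶ Y) (hφ : φ ≫ g = U.ι ≫ f) :
    ∃ (U₁ : X.Opens) (hUU : U ≤ U₁) (φ₁ : (U₁ : Scheme.{u}) ⟶ Y),
      X.homOfLE hUU ≫ φ₁ = φ ∧ ∀ x : X, ringKrullDim (X.presheaf.stalk x) ≤ 1 → x ∈ U₁ := by
  haveI : ∀ x : X, _root_.IsReduced (X.presheaf.stalk x) := fun x =>
    haveI := (H29Ref.isNormalScheme_of_regular hX x).1
    inferInstance
  haveI : IsReduced X := isReduced_of_isReduced_stalk X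
  obtain ⟨U₁, hUU, φ₁, -, h, h'⟩ := Groth.Agent.S4440.result g f (fun x _ => hX x) U hU φ hφ
  exact ⟨U₁, hUU, φ₁, h, h'⟩

/-- Finite etale covers are a birational invariant of proper regular schemes. -/
theorem exists_equivalence [IsProper f] [IsProper g] [IsLocallyNoetherian X] [IsLocallyNoetherian Y]
    (hX : ∀ x : X, IsRegularLocalRing (X.presheaf.stalk x)) (hY : ∀ y : Y, IsRegularLocalRing (Y.presheaf.stalk y))
    (U : X.Opens) (V : Y.Opens) (hU : Dense (U : Set X)) (hV : Dense (V : Set Y))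
    (e : (U : Scheme.{u}) ≅ (V : Scheme.{u})) (he : e.hom ≫ V.ι ≫ g = U.ι ≫ f) :
    ∃ Φ : FEt.Cat X ≌ FEt.Cat Y, Nonempty (FEt.restrict U.ι ≅ Φ.functor ⋙ FEt.restrict V.ι ⋙ FEt.restrict e.hom) := by
  haveI : CompactSpace X := QuasiCompact.compactSpace_of_compactSpace f
  haveI : CompactSpace Y := QuasiCompact.compactSpace_of_compactSpace g
  haveI : IsNoetherian X := { }
  haveI : IsNoetherian Y := { }
  have he' : (e.inv ≫ U.ι) ≫ f = V.ι ≫ g := by rw [Category.assoc, ← he, e.inv_hom_id_assoc]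
  obtain ⟨U₁, hUU, a, ha, hU₁⟩ := exists_extension f g hX U hU (e.hom ≫ V.ι) (by rw [Category.assoc, he])
  obtain ⟨V₁, hVV, b, hb, hV₁⟩ := exists_extension g f hY V hV (e.inv ≫ U.ι) he'
  let jU := X.homOfLE hUU
  let jV := Y.homOfLE hVV
  -- the restrictions along the opens
  have hdX : Dense (Set.range U.ι) := by rwa [Scheme.Opens.range_ι]
  have hdY : Dense (Set.range V.ι) := by rwa [Scheme.Opens.range_ι]
  have hdX₁ : Dense (Set.range U₁.ι) := by rw [Scheme.Opens.range_ι]; exact hU.mono hUU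
  have hdY₁ : Dense (Set.range V₁.ι) := by rw [Scheme.Opens.range_ι]; exact hV.mono hVV
  obtain ⟨_, _⟩ := full_faithful_regular hX U.ι hdX
  obtain ⟨_, _⟩ := full_faithful_regular hY V.ι hdY
  obtain ⟨_, _⟩ := full_faithful_regular hX U₁.ι hdX₁
  obtain ⟨_, _⟩ := full_faithful_regular hY V₁.ι hdY₁
  have := essSurj_regular hX U₁ hU₁
  have := essSurj_regular hY V₁ hV₁
  haveI : (FEt.restrict U₁.ι).IsEquivalence := { }
  haveI : (FEt.restrict V₁.ι).IsEquivalence := { }
  haveI : IsOpenImmersion jV := inferInstanceAs (IsOpenImmersion (Y.homOfLE hVV))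
  have hV₁reg : ∀ z : (V₁ : Scheme.{u}), IsRegularLocalRing ((V₁ : Scheme.{u}).presheaf.stalk z) := fun z =>
    haveI := hY z.1
    IsRegularLocalRing.of_ringEquiv (V₁.stalkIso z).symm.commRingCatIsoToRingEquiv
  obtain ⟨_, _⟩ := full_faithful_regular hV₁reg jV (by
    have h : Set.range jV = V₁.ι ⁻¹' (V : Set Y) := by
      rw [show jV = Y.homOfLE hVV from rfl]
      ext z
      constructor
      · rintro ⟨w, rfl⟩
        show ((Y.homOfLE hVV) w).1 ∈ V
        rw [Y.homOfLE_apply]
        exact w.2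
      · intro hz
        exact ⟨⟨z.1, hz⟩, Subtype.ext (by rw [Y.homOfLE_apply])⟩
    rw [h]
    exact hV.preimage V₁.ι.isOpenEmbedding.isOpenMap)
  haveI : (FEt.restrict e.inv).IsEquivalence :=
    Functor.IsEquivalence.mk' (FEt.restrict e.hom)
      ((idIso _).symm ≪≫ (compIso e.hom e.inv (𝟙 _) e.hom_inv_id).symm)
      (compIso e.inv e.hom (𝟙 _) e.inv_hom_id ≪≫ idIso _)
  -- restriction along the extension is an equivalence
  let R : FEt.Cat X ⥤ FEt.Cat (V : Scheme.{u}) := FEt.restrict U.ι ⋙ FEt.restrict e.inv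
  let iR : FEt.restrict b ⋙ FEt.restrict jV ≅ R :=
    compIso jV b _ hb ≪≫ (compIso e.inv U.ι _ rfl).symm
  haveI : R.Faithful := inferInstanceAs (FEt.restrict U.ι ⋙ FEt.restrict e.inv).Faithful
  haveI : R.Full := inferInstanceAs (FEt.restrict U.ι ⋙ FEt.restrict e.inv).Full
  haveI : (FEt.restrict b).Faithful := Functor.Faithful.of_comp_iso iR
  haveI : (FEt.restrict b).Full := Functor.Full.of_comp_faithful_iso iR
  haveI : (FEt.restrict b).EssSurj := ⟨fun Z => by
    -- extend to `Y`, go to `X`, come back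
    let Z' := (FEt.restrict V₁.ι).objPreimage Z
    let eZ : (FEt.restrict V₁.ι).obj Z' ≅ Z := (FEt.restrict V₁.ι).objObjPreimageIso Z
    let W := (FEt.restrict U₁.ι).objPreimage ((FEt.restrict a).obj Z')
    let eW : (FEt.restrict U₁.ι).obj W ≅ (FEt.restrict a).obj Z' := (FEt.restrict U₁.ι).objObjPreimageIso _
    let p₁ : (FEt.restrict U.ι).obj W ≅ (FEt.restrict (e.hom ≫ V.ι)).obj Z' :=
      (compIso jU U₁.ι U.ι (X.homOfLE_ι hUU)).symm.app W ≪≫ (FEt.restrict jU).mapIso eW ≪≫
        (compIso jU a _ ha).app Z'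
    let p₂ : (FEt.restrict jV).obj ((FEt.restrict b).obj W) ≅ (FEt.restrict V.ι).obj Z' :=
      iR.app W ≪≫ (FEt.restrict e.inv).mapIso p₁ ≪≫
        (compIso e.inv (e.hom ≫ V.ι) V.ι (e.inv_hom_id_assoc _)).app Z'
    let p₃ : (FEt.restrict jV).obj ((FEt.restrict b).obj W) ≅ (FEt.restrict jV).obj Z :=
      p₂ ≪≫ (compIso jV V₁.ι V.ι (Y.homOfLE_ι hVV)).symm.app Z' ≪≫ (FEt.restrict jV).mapIso eZ
    exact ⟨W, ⟨(FEt.restrict jV).preimageIso p₃⟩⟩⟩
  haveI : (FEt.restrict b).IsEquivalence := { }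
  let Φ : FEt.Cat X ≌ FEt.Cat Y := (FEt.restrict b).asEquivalence.trans (FEt.restrict V₁.ι).asEquivalence.symm
  refine ⟨Φ, ⟨?_⟩⟩
  let i₁ : Φ.functor ⋙ FEt.restrict V₁.ι ≅ FEt.restrict b :=
    Functor.associator _ _ _ ≪≫
      Functor.isoWhiskerLeft (FEt.restrict b) (FEt.restrict V₁.ι).asEquivalence.counitIso ≪≫
      Functor.rightUnitor _
  exact (Functor.isoWhiskerLeft Φ.functor
      (Functor.isoWhiskerRight (compIso jV V₁.ι V.ι (Y.homOfLE_ι hVV)).symm (FEt.restrict e.hom) ≪≫
        Functor.associator _ _ _) ≪≫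
    (Functor.associator _ _ _).symm ≪≫
    Functor.isoWhiskerRight i₁ _ ≪≫
    (Functor.associator _ _ _).symm ≪≫
    Functor.isoWhiskerRight (compIso jV b _ hb) (FEt.restrict e.hom) ≪≫
    compIso e.hom (e.inv ≫ U.ι) U.ι (e.hom_inv_id_assoc _)).symm

end Groth.Agent.H9Et.Birat
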