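import Groth.Agent.H9Et.DescentLocalEff
import Groth.Agent.H13Desc.Eff.Fam
import Mathlib

/-!
# Consequences of the locality of effectiveness of etale descent data

* the forward direction: base change of a canonical datum is canonical;
* every descent datum for a Zariski covering is effective;
* a scheme which becomes etale on an open covering is etale.
-/

set_option autoImplicit false
set_option linter.style.haveILetI false
set_option backward.isDefEq.respectTransparency false
set_option backward.isDefEq.respectTransparency.types false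

universe u

open CategoryTheory Limits AlgebraicGeometry Desc

noncomputable section

namespace Groth.Agent.H9Et.DescPts

variable {S S' : Scheme.{u}} {g : S' ⟶ S}

/-- Points of the base change of a canonical datum. -/
def canonPts {W : Scheme.{u}} (c : W ⟶ S) (U : Over S) {T : Scheme.{u}} (r : T ⟶ pullback g c) :
    Lifts (((toDDFam (fun _ : PUnit.{1} => pullback.snd g c)).obj (Over.mk (pullback.snd U.hom c))).obj
      PUnit.unit) r ≃
    Lifts ((pullTo ((toDDFam (fun _ : PUnit.{1} => g)).obj U) c).obj PUnit.unit) r where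
  toFun v := ⟨pullback.lift (pullback.lift (r ≫ pullback.fst g c)
      (v.1 ≫ pullback.snd (pullback.snd g c) (pullback.snd U.hom c) ≫ pullback.fst U.hom c) (by
        have hv : v.1 ≫ pullback.fst (pullback.snd g c) (pullback.snd U.hom c) = r := v.2
        simp only [Category.assoc, pullback.condition]
        rw [← pullback.condition_assoc, reassoc_of% hv])) r (pullback.lift_fst _ _ _),
    pullback.lift_snd _ _ _⟩
  invFun w := ⟨pullback.lift r (pullback.lift (w.1 ≫ pullback.fst (pullback.fst g U.hom) (pullback.fst g c) ≫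
      pullback.snd g U.hom) (r ≫ pullback.snd g c) (by
        have hw : w.1 ≫ pullback.snd (pullback.fst g U.hom) (pullback.fst g c) = r := w.2
        simp only [Category.assoc, ← pullback.condition]
        rw [pullback.condition_assoc, reassoc_of% hw]))
      (by exact (pullback.lift_snd _ _ _).symm), pullback.lift_fst _ _ _⟩
  left_inv v := Subtype.ext (by
    have hv : v.1 ≫ pullback.fst (pullback.snd g c) (pullback.snd U.hom c) = r := v.2
    apply pullback.hom_ext
    · exact (pullback.lift_fst _ _ _).trans hv.symm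
    · refine (pullback.lift_snd _ _ _).trans (pullback.hom_ext ?_ ?_)
      · refine (pullback.lift_fst _ _ _).trans ?_
        erw [pullback.lift_fst_assoc, pullback.lift_snd]
        exact (Category.assoc _ _ _).symm
      · rw [pullback.lift_snd]
        conv_lhs => rw [← hv]
        simp only [Category.assoc, pullback.condition]
        rfl)
  right_inv w := Subtype.ext (by
    have hw : w.1 ≫ pullback.snd (pullback.fst g U.hom) (pullback.fst g c) = r := w.2
    apply pullback.hom_ext
    · refine (pullback.lift_fst _ _ _).trans (pullback.hom_ext ?_ ?_)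
      · refine (pullback.lift_fst _ _ _).trans ?_
        conv_lhs => rw [← hw]
        erw [Category.assoc, Category.assoc, pullback.condition]
        rfl
      · refine (pullback.lift_snd _ _ _).trans ?_
        erw [pullback.lift_snd_assoc, pullback.lift_fst]
        exact (Category.assoc _ _ _).symm
    · exact (pullback.lift_snd _ _ _).trans hw.symm)

/-- The base change of a canonical datum is canonical. -/
theorem nonempty_pullTo_canonical {W : Scheme.{u}} (c : W ⟶ S) (U : Over S) :
    Nonempty ((toDDFam (fun _ : PUnit.{1} => pullback.snd g c)).obj (Over.mk (pullback.snd U.hom c)) ≅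
      pullTo ((toDDFam (fun _ : PUnit.{1} => g)).obj U) c) := by
  refine ⟨H13Desc.ddFamIso (fun _ => H13Desc.liftsIso (fun T r => canonPts c U r) ?_) ?_⟩
  · intro T T' k r r' hk v v' hv
    subst hk
    dsimp only [canonPts, Equiv.coe_fn_mk]
    apply pullback.hom_ext
    · simp only [Category.assoc, pullback.lift_fst]
      apply pullback.hom_ext <;> simp [hv]
    · simp
  · intro T i j r₀ r₁ h v w hw
    rw [H13Desc.comp_liftsIso_hom] at hw ⊢
    obtain rfl := Subtype.ext hw
    dsimp only [canonPts, Equiv.coe_fn_mk]
    apply pullback.hom_ext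
    · simp only [pullTo, pullDDFam, pullDDFamObj, liftsPullbackEquiv, Equiv.trans_apply, Equiv.coe_fn_mk,
        Equiv.coe_fn_symm_mk, pullback.lift_fst]
      apply pullback.hom_ext <;> simp [toDDFam, canonicalDDFam, canMapFam]
    · simp [pullTo, pullDDFam, pullDDFamObj, liftsPullbackEquiv]

/-- An effective datum stays effective after base change. -/
theorem nonempty_pullTo_of_iso {D : SchDDFam (fun _ : PUnit.{1} => g)} {W : Scheme.{u}} (c : W ⟶ S)
    (U : Over S) (e : (toDDFam (fun _ : PUnit.{1} => g)).obj U ≅ D) :
    Nonempty ((toDDFam (fun _ : PUnit.{1} => pullback.snd g c)).obj (Over.mk (pullback.snd U.hom c)) ≅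
      pullTo D c) :=
  ⟨(nonempty_pullTo_canonical c U).some ≪≫ (pullDDFam (f := fun _ : PUnit.{1} => g)
    (f' := fun _ : PUnit.{1} => pullback.snd g c) (α := id) (p := c) (p' := fun _ => pullback.fst g c)
    (fun _ => pullback.condition)).mapIso e⟩

/-- Descent data for a Zariski covering are effective. -/
theorem isEffective_zariski {ι : Type u} {W : ι → Scheme.{u}} {c : ∀ i, W i ⟶ S}
    [∀ i, IsOpenImmersion (c i)] (hcv : ∀ x : S, ∃ i z, c i z = x) (D : SchDDFam c) : D.IsEffective := by
  let q := Sigma.desc c
  haveI : Flat q := (IsZariskiLocalAtSource.iff_of_openCover (P := @Flat) (sigmaOpenCover _)).mpr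
    fun i => by
      change Flat (Sigma.ι W i ≫ q)
      rw [Sigma.ι_desc]; infer_instance
  haveI : LocallyOfFinitePresentation q :=
    (IsZariskiLocalAtSource.iff_of_openCover (P := @LocallyOfFinitePresentation) (sigmaOpenCover _)).mpr
      fun i => by
        change LocallyOfFinitePresentation (Sigma.ι W i ≫ q)
        rw [Sigma.ι_desc]; infer_instance
  haveI : Surjective q := ⟨fun y => by
    obtain ⟨i, z, hz⟩ := hcv y
    exact ⟨Sigma.ι W i z, by rw [← Scheme.Hom.comp_apply, Sigma.ι_desc]; exact hz⟩⟩
  suffices h : ∃ Z : Over S, Nonempty ((toDD q).obj Z ≅ H13Desc.Eff.sigmaDD D) by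
    obtain ⟨Z, ⟨e⟩⟩ := h
    exact H13Desc.Eff.isEffective_of_sigma D Z e
  refine H13Desc.Eff.isEffective_of_charts fun a => ?_
  obtain ⟨i, z, hz⟩ := hcv (((H13Desc.Eff.sigmaDD D).obj.hom ≫ q) a)
  have hc : Sigma.ι W i ≫ q = (c i).isoOpensRange.hom ≫ (c i).opensRange.ι := by
    rw [Sigma.ι_desc, Scheme.Hom.isoOpensRange_hom_ι]
  obtain ⟨Z, ⟨e⟩⟩ := H13Desc.Eff.exists_iso_of_isIso (c i).isoOpensRange.hom
    (H13Desc.Eff.pullW (H13Desc.Eff.sigmaDD D) (Sigma.ι W i) (c i).isoOpensRange.hom hc)
  obtain ⟨C, hC⟩ := H13Desc.Eff.exists_chart_of_refinement (H13Desc.Eff.sigmaDD D) (Sigma.ι W i)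
    (c i).isoOpensRange.hom hc Z e
  exact ⟨C, hC ⟨z, hz⟩⟩

/-- Components of an isomorphism of data, on underlying schemes. -/
def leftIso {ι : Type u} {W : ι → Scheme.{u}} {c : ∀ i, W i ⟶ S} {D E : SchDDFam c} (e : D ≅ E) (i : ι) :
    (D.obj i).left ≅ (E.obj i).left where
  hom := (e.hom.hom i).left
  inv := (e.inv.hom i).left
  hom_inv_id := by rw [← Over.comp_left, ← SchDDFam.comp_hom, e.hom_inv_id]; rfl
  inv_hom_id := by rw [← Over.comp_left, ← SchDDFam.comp_hom, e.inv_hom_id]; rfl

/-- A scheme isomorphic to etale schemes over an open covering is etale. -/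
theorem etale_of_toDDFam_iso {ι : Type u} {W : ι → Scheme.{u}} {c : ∀ i, W i ⟶ S}
    [∀ i, IsOpenImmersion (c i)] (hcv : ∀ x : S, ∃ i z, c i z = x) {Y : Over S} {D : SchDDFam c}
    (η : (toDDFam c).obj Y ≅ D) (hD : ∀ i, Etale (D.obj i).hom) : Etale Y.hom := by
  let 𝒰 : S.OpenCover := Scheme.Cover.mkOfCovers ι W c (fun x => hcv x) (fun i => inferInstance)
  refine IsZariskiLocalAtTarget.of_openCover (P := @Etale) 𝒰 fun i => ?_
  have := hD i
  have h1 : Etale (pullback.fst (c i) Y.hom) := by
    rw [show pullback.fst (c i) Y.hom = (leftIso η i).hom ≫ (D.obj i).hom from (Over.w (η.hom.hom i)).symm]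
    infer_instance
  have h2 : Etale (pullback.snd Y.hom (c i)) := by
    rw [← pullbackSymmetry_hom_comp_fst]
    infer_instance
  exact h2

end Groth.Agent.H9Et.DescPts
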