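import Groth.Agent.H9Et.DescentStage
import Groth.Agent.H8Props.SpreadGeneric
import Mathlib

/-!
# Effectiveness of etale descent near a point and at the local ring

An etale solution of a descent datum of finite presentation over `Spec 𝒪_{S,a}` spreads to a
neighbourhood of `a`.
-/

set_option autoImplicit false
set_option linter.style.haveILetI false
set_option backward.isDefEq.respectTransparency false
set_option backward.isDefEq.respectTransparency.types false

universe u

open CategoryTheory Limits AlgebraicGeometry Desc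

noncomputable section

namespace Groth.Agent.H9Et.DescPts

theorem surjective_of_univSubmersive' {X Y : Scheme.{u}} {f : X ⟶ Y} (hf : SGA1.UnivSubmersive f) :
    Surjective f :=
  ⟨(hf (X' := X) (Y' := Y) (𝟙 X) (𝟙 Y) f (IsPullback.of_vert_isIso ⟨by simp⟩)).surjective⟩

/-- A solution of a quasi-compact quasi-separated datum is quasi-compact and quasi-separated. -/
theorem qcqs_of_iso {X W : Scheme.{u}} {f : X ⟶ W} [IsAffine W] [QuasiCompact f] [QuasiSeparated f]
    [Surjective f] {E : SchDDFam (fun _ : PUnit.{1} => f)} [QuasiCompact (str E)] [QuasiSeparated (str E)]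
    {U : Over W} (e : (toDDFam (fun _ : PUnit.{1} => f)).obj U ≅ E) :
    QuasiCompact U.hom ∧ QuasiSeparated U.hom := by
  obtain ⟨q, hq⟩ := exists_isSol e
  haveI : QuasiCompact q := MorphismProperty.of_isPullback (P := @QuasiCompact) hq.sq.flip.flip ‹_›
  haveI : Surjective q := MorphismProperty.of_isPullback (P := @Surjective) hq.sq.flip.flip ‹_›
  haveI : CompactSpace (E.obj PUnit.unit).left :=
    QuasiCompact.compactSpace_of_compactSpace (str E ≫ f)
  haveI : QuasiSeparatedSpace (E.obj PUnit.unit).left := quasiSeparatedSpace_of_quasiSeparated (str E ≫ f)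
  haveI : CompactSpace U.left := ⟨by
    rw [← (Surjective.surj (f := q)).range_eq]; exact isCompact_range q.continuous⟩
  haveI : QuasiSeparatedSpace U.left := ⟨fun A B hA hA' hB hB' => by
    have h := QuasiSeparatedSpace.inter_isCompact _ _ (hA.preimage q.continuous)
      (QuasiCompact.isCompact_preimage (f := q) A hA hA') (hB.preimage q.continuous) (QuasiCompact.isCompact_preimage (f := q) B hB hB')
    rw [← Set.preimage_inter] at h
    have := h.image q.continuous
    rwa [Set.image_preimage_eq _ (Surjective.surj (f := q))] at this⟩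
  exact ⟨quasiCompact_of_compactSpace _, (quasiSeparated_iff_quasiSeparatedSpace _).2 inferInstance⟩

variable {S S' : Scheme.{u}} {g : S' ⟶ S}

/-- An effective datum is effective at the local rings. -/
theorem exists_stalk_of_nhd (D : SchDDFam (fun _ : PUnit.{1} => g)) {a : S} {W : S.Opens} (ha : a ∈ W)
    {U : Over (W : Scheme.{u})} [Etale U.hom]
    (e : (toDDFam (fun _ : PUnit.{1} => pullback.snd g W.ι)).obj U ≅ pullTo D W.ι) :
    ∃ V : Over (Spec (S.presheaf.stalk a)), Etale V.hom ∧
      Nonempty ((toDDFam (fun _ : PUnit.{1} => pullback.snd g (S.fromSpecStalk a))).obj V ≅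
        pullTo D (S.fromSpecStalk a)) :=
  ⟨Over.mk (pullback.snd U.hom (W.fromSpecStalkOfMem a ha)), MorphismProperty.pullback_snd _ _ ‹Etale U.hom›,
    exists_isSol_baseChange D (W.fromSpecStalkOfMem a ha) (W.fromSpecStalkOfMem_ι a ha) e⟩

/-- An etale solution over the local ring spreads to a neighbourhood. -/
theorem exists_nhd_of_stalk (hg : SGA1.UnivSubmersive g) (D : SchDDFam (fun _ : PUnit.{1} => g))
    [LocallyOfFinitePresentation g] [QuasiCompact g] [QuasiSeparated g]
    [LocallyOfFinitePresentation (str D)] [QuasiCompact (str D)] [QuasiSeparated (str D)] (a : S)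
    {U : Over (Spec (S.presheaf.stalk a))} [Etale U.hom]
    (e : (toDDFam (fun _ : PUnit.{1} => pullback.snd g (S.fromSpecStalk a))).obj U ≅
      pullTo D (S.fromSpecStalk a)) :
    ∃ W : S.Opens, a ∈ W ∧ ∃ V : Over (W : Scheme.{u}), Etale V.hom ∧
      Nonempty ((toDDFam (fun _ : PUnit.{1} => pullback.snd g W.ι)).obj V ≅ pullTo D W.ι) := by
  haveI := surjective_of_univSubmersive' hg
  haveI : QuasiCompact (str (pullTo D (S.fromSpecStalk a))) := MorphismProperty.pullback_snd _ _ ‹_›
  haveI : QuasiSeparated (str (pullTo D (S.fromSpecStalk a))) := MorphismProperty.pullback_snd _ _ ‹_›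
  obtain ⟨hqc, hqs⟩ := qcqs_of_iso (f := pullback.snd g (S.fromSpecStalk a)) e
  obtain ⟨j, V, hV, ⟨e'⟩⟩ := exists_stage_solution (T := H8Props.SpreadGeneric.stageFun a)
    (c := H8Props.SpreadGeneric.stageCone a) D (fun i => H8Props.SpreadGeneric.toBase i)
    (fun φ => H8Props.SpreadGeneric.map_toBase φ) (σ := S.fromSpecStalk a)
    (fun i => H8Props.SpreadGeneric.cone_toBase i) (H8Props.SpreadGeneric.isLimitStageCone a) U e
  exact ⟨j.1.1, j.2, Over.mk (pullback.snd V.hom j.1.2.isoSpec.hom), MorphismProperty.pullback_snd _ _ hV,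
    exists_isSol_baseChange D j.1.2.isoSpec.hom j.1.2.isoSpec_hom_fromSpec e'⟩

end Groth.Agent.H9Et.DescPts
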