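import Groth.Agent.H9Et.DescentSolBase
import Groth.Agent.H9Et.DescentLocalEff
import Groth.Agent.H9Et.DescentLocalApps
import Groth.Agent.H9Et.DescentStalkApps
import Groth.Agent.H15Subtr.UnivSub
import Groth.Agent.LeadDescRad.Etale
import Mathlib

/-!
# Iterated base change of descent data and effectiveness along fpqc morphisms

* a solution over `W'` for the composite is one for the iterated base change;
* separatedness descends along universally submersive morphisms;
* effectiveness for separated quasi-compact etale data descends along faithfully flat quasi-compact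
  morphisms to any base.
-/

set_option autoImplicit false
set_option linter.style.haveILetI false
set_option backward.isDefEq.respectTransparency false
set_option backward.isDefEq.respectTransparency.types false

universe u

open CategoryTheory Limits AlgebraicGeometry Desc

noncomputable section

namespace Groth.Agent.H9Et.DescPts

variable {S S' : Scheme.{u}} {g : S' ⟶ S} (D : SchDDFam (fun _ : PUnit.{1} => g))
  {W W' : Scheme.{u}} (c : W ⟶ S) (k : W' ⟶ W)

theorem nonempty_iso_assoc (U : Over W')
    (e : (toDDFam (fun _ : PUnit.{1} => pullback.snd g (k ≫ c))).obj U ≅ pullTo D (k ≫ c)) :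
    Nonempty ((toDDFam (fun _ : PUnit.{1} => pullback.snd (pullback.snd g c) k)).obj U ≅
      pullTo (pullTo D c) k) := by
  obtain ⟨q, hq⟩ := exists_isSol e
  let θ : pullback (pullback.snd g c) k ≅ pullback g (k ≫ c) := pullbackLeftPullbackSndIso g c k
  have hθ1 : θ.hom ≫ pullback.fst g (k ≫ c) = pullback.fst _ _ ≫ pullback.fst g c :=
    pullbackLeftPullbackSndIso_hom_fst g c k
  have hθ2 : θ.hom ≫ pullback.snd g (k ≫ c) = pullback.snd (pullback.snd g c) k :=
    pullbackLeftPullbackSndIso_hom_snd g c k
  let a : zObj (pullTo D c) k ⟶ zObj D c :=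
    pullback.fst (str (pullTo D c)) (pullback.fst (pullback.snd g c) k)
  let b : zObj (pullTo D c) k ⟶ pullback (pullback.snd g c) k :=
    pullback.snd (str (pullTo D c)) (pullback.fst (pullback.snd g c) k)
  have hab : a ≫ pullback.snd (str D) (pullback.fst g c) = b ≫ pullback.fst (pullback.snd g c) k :=
    pullback.condition
  let ζ : zObj (pullTo D c) k ⟶ zObj D (k ≫ c) :=
    pullback.lift (a ≫ pullback.fst (str D) (pullback.fst g c)) (b ≫ θ.hom) (by
      rw [Category.assoc, Category.assoc, hθ1, pullback.condition, reassoc_of% hab])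
  have hz : IsPullback ζ (pullback.snd (str (pullTo D c)) (pullback.fst (pullback.snd g c) k))
      (pullback.snd (str D) (pullback.fst g (k ≫ c))) θ.hom := by
    refine IsPullback.of_right ?_ (pullback.lift_snd _ _ _)
      (IsPullback.of_hasPullback (str D) (pullback.fst g (k ≫ c)))
    rw [pullback.lift_fst, hθ1]
    exact (IsPullback.of_hasPullback (str (pullTo D c)) (pullback.fst (pullback.snd g c) k)).paste_horiz
      (IsPullback.of_hasPullback (str D) (pullback.fst g c))
  have ht : IsPullback θ.hom (pullback.snd (pullback.snd g c) k) (pullback.snd g (k ≫ c)) (𝟙 W') :=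
    IsPullback.of_horiz_isIso ⟨by rw [hθ2, Category.comp_id]⟩
  refine (IsSol.of_actMap (pullTo D c) (c := k) (q := ζ ≫ q) ?_ ?_).nonempty_iso
  · have h := (hz.paste_horiz hq.sq.flip)
    rw [hθ2] at h
    exact h.flip
  · let p₀ : rObj (pullTo D c) k ⟶ pullback (pullback.snd g c) k :=
      pullback.fst (zStr (pullTo D c) k) (pullback.snd (pullback.snd g c) k) ≫ pullback.snd _ _
    let p₁ : rObj (pullTo D c) k ⟶ pullback (pullback.snd g c) k := pullback.snd _ _
    have hp : p₀ ≫ pullback.snd (pullback.snd g c) k = p₁ ≫ pullback.snd (pullback.snd g c) k :=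
      (Category.assoc _ _ _).trans pullback.condition
    let v : Lifts ((pullTo D (k ≫ c)).obj PUnit.unit) (p₀ ≫ θ.hom) :=
      ⟨pullback.fst (zStr (pullTo D c) k) (pullback.snd (pullback.snd g c) k) ≫ ζ, by
        change (_ ≫ ζ) ≫ pullback.snd (str D) (pullback.fst g (k ≫ c)) = _
        rw [Category.assoc, hz.w, ← Category.assoc]⟩
    have hpθ : (p₀ ≫ θ.hom) ≫ pullback.snd g (k ≫ c) = (p₁ ≫ θ.hom) ≫ pullback.snd g (k ≫ c) := by
      rw [Category.assoc p₀, Category.assoc p₁, hθ2]; exact hp
    suffices key : actMap (pullTo D c) k ≫ ζ =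
        ((pullTo D (k ≫ c)).φ (i := PUnit.unit) (j := PUnit.unit) (p₀ ≫ θ.hom) (p₁ ≫ θ.hom) hpθ v).1 by
      rw [← Category.assoc, key, hq.inv _ _ hpθ v, ← Category.assoc]
    have hcomm : p₀ ≫ pullback.fst (pullback.snd g c) k ≫ pullback.fst g c ≫ g =
        p₁ ≫ pullback.fst (pullback.snd g c) k ≫ pullback.fst g c ≫ g := by
      simp only [pullback.condition, pullback.condition_assoc]
      rw [reassoc_of% hp]
    apply pullback.hom_ext
    · rw [Category.assoc, pullback.lift_fst, pullTo_phi_fst D _ _ hpθ v (by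
          simp only [Category.assoc]; simp only [reassoc_of% hθ1]; exact hcomm) (by
          change ((_ ≫ ζ) ≫ pullback.fst _ _) ≫ str D = _
          rw [Category.assoc (pullback.fst (zStr (pullTo D c) k) (pullback.snd (pullback.snd g c) k)), pullback.lift_fst]
          rw [Category.assoc, Category.assoc, pullback.condition, reassoc_of% hab, Category.assoc p₀, hθ1]
          exact (Category.assoc _ _ _).symm)]
      rw [actMap, ← Category.assoc]
      let v₁ : Lifts ((pullTo D c).obj PUnit.unit) (p₀ ≫ pullback.fst (pullback.snd g c) k) :=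
        ⟨pullback.fst (zStr (pullTo D c) k) (pullback.snd (pullback.snd g c) k) ≫
          pullback.fst (str (pullTo D c)) (pullback.fst (pullback.snd g c) k), by
            change (_ ≫ pullback.fst _ _) ≫ str (pullTo D c) = _
            rw [Category.assoc, pullback.condition, ← Category.assoc]⟩
      rw [pullTo_phi_fst (pullTo D c) p₀ p₁ hp ⟨pullback.fst (zStr (pullTo D c) k) _, rfl⟩ (by
          simp only [Category.assoc, pullback.condition]; rw [reassoc_of% hp]) v₁.2]
      rw [pullTo_phi_fst D _ _ _ v₁ (by simp only [Category.assoc]; exact hcomm)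
        ((Category.assoc _ _ _).trans ((congrArg (v₁.1 ≫ ·) pullback.condition).trans
          ((Category.assoc _ _ _).symm.trans (congrArg (· ≫ pullback.fst g c) v₁.2))))]
      refine H13Desc.phi_congr D ?_ ?_ _ _ _ _ ?_
      · rw [Category.assoc p₀, Category.assoc p₀, hθ1]
      · rw [Category.assoc p₁, Category.assoc p₁, hθ1]
      · change _ = (pullback.fst _ _ ≫ ζ) ≫ pullback.fst _ _
        refine Eq.trans ?_ ((Category.assoc _ _ _).trans (congrArg (_ ≫ ·) (pullback.lift_fst _ _ _))).symm
        exact Category.assoc _ _ _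
    · rw [Category.assoc, hz.w]
      refine Eq.trans ?_ ((pullTo D (k ≫ c)).φ (i := PUnit.unit) (j := PUnit.unit) (p₀ ≫ θ.hom)
        (p₁ ≫ θ.hom) hpθ v).2.symm
      rw [← Category.assoc, actMap_str]

/-- Separatedness of a solution. -/
theorem isSeparated_of_iso {X V : Scheme.{u}} {f : X ⟶ V} (hf : SGA1.UnivSubmersive f)
    {E : SchDDFam (fun _ : PUnit.{1} => f)} [IsSeparated (str E)]
    {U : Over V} (e : (toDDFam (fun _ : PUnit.{1} => f)).obj U ≅ E) : IsSeparated U.hom := by
  obtain ⟨q, hq⟩ := exists_isSol e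
  let m : pullback (str E) (str E) ⟶ pullback U.hom U.hom :=
    pullback.lift (pullback.fst _ _ ≫ q) (pullback.snd _ _ ≫ q) (by
      rw [Category.assoc, Category.assoc, ← hq.sq.w, pullback.condition_assoc])
  have h1 : IsPullback m (pullback.fst (str E) (str E)) (pullback.fst U.hom U.hom) q := by
    refine IsPullback.of_right ?_ (pullback.lift_fst _ _ _) (IsPullback.of_hasPullback U.hom U.hom).flip
    rw [pullback.lift_snd, ← hq.sq.w]
    exact (IsPullback.of_hasPullback (str E) (str E)).flip.paste_horiz hq.sq.flip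
  have h2 := h1.paste_vert hq.sq.flip
  have hm : SGA1.UnivSubmersive m :=
    MorphismProperty.of_isPullback (P := SGA1.UnivSubmersive) h2.flip hf
  have h3 : IsPullback q (pullback.diagonal (str E)) (pullback.diagonal U.hom) m := by
    refine IsPullback.of_bot ?_ (by apply pullback.hom_ext <;> simp [m]) h2
    simpa using hq.sq.flip
  refine ⟨IsClosedImmersion.of_isPreimmersion _ ?_⟩
  rw [← (H15Subtr.isQuotientMap_of_univSubmersive hm).isClosed_preimage]
  convert (pullback.diagonal (str E)).isClosedEmbedding.isClosed_range using 1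
  ext z
  constructor
  · rintro ⟨w, hw⟩
    obtain ⟨y, -, hy⟩ := Scheme.exists_preimage_of_isPullback h3 w z hw
    exact ⟨y, hy⟩
  · rintro ⟨y, rfl⟩
    exact ⟨q y, by rw [← Scheme.Hom.comp_apply, h3.w]; rfl⟩

/-- Effectiveness of separated quasi-compact etale data descends along fpqc morphisms over any base. -/
theorem exists_sol_of_fpqc (hg : SGA1.UnivSubmersive g) [QuasiCompact g] [QuasiSeparated g]
    [IsSeparated (str D)] [QuasiCompact (str D)] [Flat k] [Surjective k] [QuasiCompact k] [IsAffine W']
    (U : Over W') [Etale U.hom]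
    (e : (toDDFam (fun _ : PUnit.{1} => pullback.snd g (k ≫ c))).obj U ≅ pullTo D (k ≫ c)) :
    ∃ V : Over W, Etale V.hom ∧
      Nonempty ((toDDFam (fun _ : PUnit.{1} => pullback.snd g c)).obj V ≅ pullTo D c) := by
  have hgc : SGA1.UnivSubmersive (pullback.snd g c) := H15Subtr.univSubmersive_snd hg
  haveI : QuasiCompact (str (pullTo D (k ≫ c))) := MorphismProperty.pullback_snd _ _ ‹_›
  haveI : IsSeparated (str (pullTo D (k ≫ c))) := MorphismProperty.pullback_snd _ _ ‹_›
  haveI := H15Subtr.surjective_of_univSubmersive hg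
  haveI := (qcqs_of_iso (f := pullback.snd g (k ≫ c)) e).1
  haveI := isSeparated_of_iso (H15Subtr.univSubmersive_snd hg) e
  obtain ⟨e'⟩ := nonempty_iso_assoc D c k U e
  have hc : Presieve.ofArrows (fun _ : PUnit.{u + 1} => W') (fun _ => k) ∈ Scheme.fpqcPrecoverage W := by
    rw [Presieve.ofArrows_pUnit]
    exact k.singleton_mem_fpqcPrecoverage
  let L := localDatum hgc (pullTo D c) (fun _ : PUnit.{u + 1} => k) (fun _ => U) (fun _ => e')
  let L' : Desc.SchDD k := (Desc.SchDDFam.toSchDD k).obj L
  haveI : Etale L'.obj.hom := ‹Etale U.hom›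
  haveI : IsSeparated L'.obj.hom := ‹IsSeparated U.hom›
  haveI : QuasiCompact L'.obj.hom := ‹QuasiCompact U.hom›
  obtain ⟨Y, -, -, hY, ⟨f⟩⟩ := LeadDescRad.isEffective_etale L'
  exact ⟨Y, hY, nonempty_iso_of_localDatum hgc (pullTo D c) (fun _ : PUnit.{u + 1} => k) (fun _ => U)
    (fun _ => e') hc Y ((Desc.SchDDFam.ofSchDD k).mapIso f)⟩

end Groth.Agent.H9Et.DescPts
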