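import Groth.Agent.H9Et.DescentAssoc
import Mathlib

/-!
# Effectiveness of etale descent along faithfully flat local algebras of a local ring
-/

set_option autoImplicit false
set_option linter.style.haveILetI false
set_option backward.isDefEq.respectTransparency false
set_option backward.isDefEq.respectTransparency.types false

universe u

open CategoryTheory Limits AlgebraicGeometry Desc

noncomputable section

namespace Groth.Agent.H9Et.DescPts

variable {S S' : Scheme.{u}} {g : S' ⟶ S}

/-- Effectiveness over a faithfully flat algebra of the local ring gives it over the local ring. -/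
theorem exists_stalk_of_faithfullyFlat (hg : SGA1.UnivSubmersive g) [QuasiCompact g] [QuasiSeparated g]
    (D : SchDDFam (fun _ : PUnit.{1} => g)) [IsSeparated (str D)] [QuasiCompact (str D)] {a : S}
    {B : Type u} [CommRing B] [Algebra (S.presheaf.stalk a) B]
    [Module.FaithfullyFlat (S.presheaf.stalk a) B]
    {U : Over (Spec (CommRingCat.of B))} [Etale U.hom]
    (e : (toDDFam (fun _ : PUnit.{1} => pullback.snd g
        (Spec.map (CommRingCat.ofHom (algebraMap (S.presheaf.stalk a) B)) ≫ S.fromSpecStalk a))).obj U ≅
      pullTo D (Spec.map (CommRingCat.ofHom (algebraMap (S.presheaf.stalk a) B)) ≫ S.fromSpecStalk a)) :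
    ∃ V : Over (Spec (S.presheaf.stalk a)), Etale V.hom ∧
      Nonempty ((toDDFam (fun _ : PUnit.{1} => pullback.snd g (S.fromSpecStalk a))).obj V ≅
        pullTo D (S.fromSpecStalk a)) := by
  let k := Spec.map (CommRingCat.ofHom (algebraMap (S.presheaf.stalk a) B))
  haveI : Flat k := (HasRingHomProperty.Spec_iff (P := @Flat)).2 (RingHom.flat_algebraMap_iff.2 inferInstance)
  haveI : Surjective k := ⟨PrimeSpectrum.comap_surjective_of_faithfullyFlat⟩
  exact exists_sol_of_fpqc D (S.fromSpecStalk a) k hg U e

end Groth.Agent.H9Et.DescPts
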