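import Groth.Agent.H9Et.EtaleDescentHom
import Groth.Agent.H13Desc.DescFam
import Groth.Prelude.Def_DescFam
import Groth.Prelude.Def_SGA1
import Mathlib

/-!
# Descended points of a descent datum relative to one morphism

A descended point over `x : T ⟶ S` is a compatible natural choice of points of the datum over all
lifts of `x`. For an etale scheme and a universally submersive morphism these are the actual points.
-/

set_option autoImplicit false
set_option linter.style.haveILetI false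
set_option backward.isDefEq.respectTransparency false
set_option backward.isDefEq.respectTransparency.types false

universe u

open CategoryTheory Limits AlgebraicGeometry Desc

noncomputable section

namespace Groth.Agent.H9Et.DescPts

variable {S S' : Scheme.{u}} {g : S' ⟶ S}

/-- Descended points of `D` over `x`. -/
@[ext]
structure Pt (D : SchDDFam (fun _ : PUnit.{1} => g)) {T : Scheme.{u}} (x : T ⟶ S) where
  val : ∀ {Z : Scheme.{u}} (z : Z ⟶ T) (y : Z ⟶ S'), z ≫ x = y ≫ g → (Z ⟶ (D.obj PUnit.unit).left)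
  isOver : ∀ {Z : Scheme.{u}} (z : Z ⟶ T) (y : Z ⟶ S') (e : z ≫ x = y ≫ g),
    val z y e ≫ (D.obj PUnit.unit).hom = y
  nat : ∀ {Z Z' : Scheme.{u}} (k : Z' ⟶ Z) (z : Z ⟶ T) (y : Z ⟶ S') (e : z ≫ x = y ≫ g)
    (e' : (k ≫ z) ≫ x = (k ≫ y) ≫ g), val (k ≫ z) (k ≫ y) e' = k ≫ val z y e
  compat : ∀ {Z : Scheme.{u}} (z : Z ⟶ T) (y y' : Z ⟶ S') (e : z ≫ x = y ≫ g) (e' : z ≫ x = y' ≫ g),
    (D.φ (i := PUnit.unit) (j := PUnit.unit) y y' (e.symm.trans e') ⟨val z y e, isOver z y e⟩).1 = val z y' e'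

variable {D E : SchDDFam (fun _ : PUnit.{1} => g)} {T : Scheme.{u}} {x : T ⟶ S}

namespace Pt

theorem ext' {P Q : Pt D x} (h : ∀ {Z : Scheme.{u}} (z : Z ⟶ T) (y : Z ⟶ S') (e : z ≫ x = y ≫ g),
    P.val z y e = Q.val z y e) : P = Q :=
  Pt.ext (by funext Z z y e; exact h z y e)

theorem val_congr (P : Pt D x) {Z : Scheme.{u}} {z z' : Z ⟶ T} {y y' : Z ⟶ S'} (hz : z = z') (hy : y = y')
    (e : z ≫ x = y ≫ g) (e' : z' ≫ x = y' ≫ g) : P.val z y e = P.val z' y' e' := by
  subst hz hy
  rfl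

/-- Restriction. -/
def res (P : Pt D x) {T' : Scheme.{u}} (k : T' ⟶ T) {x' : T' ⟶ S} (hk : k ≫ x = x') : Pt D x' where
  val z y e := P.val (z ≫ k) y (by rw [Category.assoc, hk, e])
  isOver z y e := P.isOver _ _ _
  nat k' z y e e' :=
    (P.val_congr (Category.assoc _ _ _) rfl _ (by rw [Category.assoc, Category.assoc, hk, ← Category.assoc, e'])).trans
      (P.nat k' (z ≫ k) y _ _)
  compat z y y' e e' := P.compat _ _ _ _ _

theorem res_val (P : Pt D x) {T' : Scheme.{u}} (k : T' ⟶ T) {x' : T' ⟶ S} (hk : k ≫ x = x') {Z : Scheme.{u}}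
    (z : Z ⟶ T') (y : Z ⟶ S') (e : z ≫ x' = y ≫ g) :
    (P.res k hk).val z y e = P.val (z ≫ k) y (by rw [Category.assoc, hk, e]) := rfl

theorem res_res (P : Pt D x) {T' T'' : Scheme.{u}} (k : T' ⟶ T) {x' : T' ⟶ S} (hk : k ≫ x = x')
    (k' : T'' ⟶ T') {x'' : T'' ⟶ S} (hk' : k' ≫ x' = x'') :
    (P.res k hk).res k' hk' = P.res (k' ≫ k) (by rw [Category.assoc, hk, hk']) :=
  ext' fun z y e => P.val_congr (Category.assoc _ _ _) rfl _ _

theorem res_id (P : Pt D x) (k : T ⟶ T) (hk1 : k = 𝟙 T) (hk : k ≫ x = x) : P.res k hk = P :=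
  ext' fun z y e => P.val_congr (by rw [hk1, Category.comp_id]) rfl _ _

theorem res_congr (P : Pt D x) {T' : Scheme.{u}} {k k' : T' ⟶ T} (h : k = k') {x' : T' ⟶ S} (hk : k ≫ x = x')
    (hk' : k' ≫ x = x') : P.res k hk = P.res k' hk' := by
  subst h
  rfl

/-- Glueing descended points. -/
theorem existsUnique_glue {R : Sieve T} (hR : R ∈ Scheme.fpqcTopology T)
    (P : ∀ ⦃T' : Scheme.{u}⦄ (k : T' ⟶ T), R k → Pt D (k ≫ x))
    (hP : ∀ ⦃T' T'' : Scheme.{u}⦄ (k : T' ⟶ T) (l : T'' ⟶ T') (hk : R k),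
      P (l ≫ k) (R.downward_closed hk l) = (P k hk).res l (Category.assoc l k x).symm) :
    ∃! Q : Pt D x, ∀ ⦃T' : Scheme.{u}⦄ (k : T' ⟶ T) (hk : R k), Q.res k rfl = P k hk := by
  have hRz : ∀ {Z : Scheme.{u}} (z : Z ⟶ T), R.pullback z ∈ Scheme.fpqcTopology Z := fun z =>
    Scheme.fpqcTopology.pullback_stable z hR
  have key : ∀ {Z : Scheme.{u}} (z : Z ⟶ T) (y : Z ⟶ S') (e : z ≫ x = y ≫ g),
      ∃ a : Z ⟶ (D.obj PUnit.unit).left, ∀ ⦃Z' : Scheme.{u}⦄ (l : Z' ⟶ Z) (hl : R.pullback z l),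
        l ≫ a = (P (l ≫ z) hl).val (𝟙 Z') (l ≫ y) (by
          rw [Category.id_comp, Category.assoc, e, Category.assoc]) := fun {Z} z y e => by
    refine H13Desc.exists_glue (hRz z) (fun Z' l hl => (P (l ≫ z) hl).val (𝟙 Z') (l ≫ y) _)
      fun Z' Z'' l m hl => ?_
    have aux : ∀ (k : Z'' ⟶ T) (hk : R k) (hkz : k = m ≫ l ≫ z) (e₁ : 𝟙 Z'' ≫ k ≫ x = ((m ≫ l) ≫ y) ≫ g),
        (P k hk).val (𝟙 Z'') ((m ≫ l) ≫ y) e₁ = (P (m ≫ l ≫ z) (R.downward_closed hl m)).val (𝟙 Z'') (m ≫ l ≫ y)
          (by subst hkz; rw [e₁, Category.assoc m l y]) := by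
      intro k hk hkz e₁
      subst hkz
      exact Pt.val_congr _ rfl (Category.assoc _ _ _) _ _
    rw [aux _ _ (Category.assoc _ _ _), hP (l ≫ z) m hl, res_val]
    refine (Pt.val_congr _ ((Category.id_comp m).trans (Category.comp_id m).symm) rfl _ ?_).trans
      (Pt.nat _ m (𝟙 Z') (l ≫ y) _ _)
    rw [Category.comp_id, Category.assoc, Category.assoc, e, Category.assoc]
  choose a ha using @key
  have hext : ∀ {Z : Scheme.{u}} {W : Scheme.{u}} (z : Z ⟶ T) (p q : Z ⟶ W)
      (_ : ∀ ⦃Z' : Scheme.{u}⦄ (l : Z' ⟶ Z), R.pullback z l → l ≫ p = l ≫ q), p = q :=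
    fun z p q h => H13Desc.hom_eq_of_sieve (hRz z) p q h
  have hover : ∀ {Z : Scheme.{u}} (z : Z ⟶ T) (y : Z ⟶ S') (e : z ≫ x = y ≫ g),
      a z y e ≫ (D.obj PUnit.unit).hom = y := fun z y e => hext z _ _ fun Z' l hl => by
    rw [← Category.assoc, ha z y e l hl]
    exact Pt.isOver _ _ _ _
  let Q : Pt D x :=
    { val := fun z y e => a z y e
      isOver := hover
      nat := fun {Z Z'} k z y e e' => hext (k ≫ z) _ _ fun Z'' l hl => by
        have hl' : R.pullback z (l ≫ k) := by
          change R ((l ≫ k) ≫ z)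
          rw [Category.assoc]; exact hl
        have aux : ∀ (k₁ k₂ : Z'' ⟶ T) (h₁ : R k₁) (h₂ : R k₂) (_ : k₁ = k₂) (y₁ y₂ : Z'' ⟶ S') (_ : y₁ = y₂)
            (e₁ : 𝟙 Z'' ≫ k₁ ≫ x = y₁ ≫ g) (e₂ : 𝟙 Z'' ≫ k₂ ≫ x = y₂ ≫ g),
            (P k₁ h₁).val (𝟙 Z'') y₁ e₁ = (P k₂ h₂).val (𝟙 Z'') y₂ e₂ := by
          rintro k₁ k₂ h₁ h₂ rfl y₁ y₂ rfl e₁ e₂
          rfl
        exact (ha (k ≫ z) (k ≫ y) e' l hl).trans
          ((aux _ _ _ _ (Category.assoc _ _ _).symm _ _ (Category.assoc _ _ _).symm _ _).trans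
            ((ha z y e (l ≫ k) hl').symm.trans (Category.assoc _ _ _)))
      compat := fun {Z} z y y' e e' => hext z _ _ fun Z' l hl => by
        rw [ha z y' e' l hl]
        refine Eq.trans ?_ ((P (l ≫ z) hl).compat (𝟙 Z') (l ≫ y) (l ≫ y')
          (by rw [Category.id_comp, Category.assoc, e, Category.assoc]) _)
        symm
        exact D.φ_natural l y y' (e.symm.trans e') (l ≫ y) (l ≫ y') rfl rfl _
          ⟨a z y e, hover z y e⟩ _ (ha z y e l hl).symm }
  have hQ : ∀ ⦃T' : Scheme.{u}⦄ (k : T' ⟶ T) (hk : R k), Q.res k rfl = P k hk := by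
    intro T' k hk
    refine ext' fun {Z} z y e => ?_
    have hz : R (z ≫ k) := R.downward_closed hk z
    have hid : R.pullback (z ≫ k) (𝟙 Z) := by
      change R (𝟙 Z ≫ z ≫ k)
      rw [Category.id_comp]; exact hz
    have h1 := ha (z ≫ k) y (by rw [Category.assoc]; exact e) (𝟙 Z) hid
    rw [Category.id_comp] at h1
    refine h1.trans ?_
    have aux : ∀ (k₁ : Z ⟶ T) (h₁ : R k₁) (_ : k₁ = z ≫ k) (y₁ : Z ⟶ S') (_ : y₁ = y) (e₁ : 𝟙 Z ≫ k₁ ≫ x = y₁ ≫ g),
        (P k₁ h₁).val (𝟙 Z) y₁ e₁ = (P k hk).val z y e := by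
      rintro k₁ h₁ rfl y₁ rfl e₁
      rw [hP k z hk, res_val]
      exact Pt.val_congr _ (Category.id_comp _) rfl _ _
    exact aux _ _ (Category.id_comp _) _ (Category.id_comp _) _
  refine ⟨Q, hQ, fun Q' hQ' => ext' fun {Z} z y e => hext z _ _ fun Z' l hl => ?_⟩
  have el : (l ≫ z) ≫ x = (l ≫ y) ≫ g := by rw [Category.assoc, e, Category.assoc]
  rw [← Q'.nat l z y e el, ← Q.nat l z y e el]
  have e₁ : 𝟙 Z' ≫ (l ≫ z) ≫ x = (l ≫ y) ≫ g := by rw [Category.id_comp]; exact el
  have h1 := congrArg (fun P' : Pt D ((l ≫ z) ≫ x) => P'.val (𝟙 Z') (l ≫ y) e₁) ((hQ' _ hl).trans (hQ _ hl).symm)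
  rw [res_val, res_val] at h1
  exact ((Q'.val_congr (Category.id_comp _).symm rfl _ _).trans h1).trans (Q.val_congr (Category.id_comp _) rfl _ _)

/-- Transport along an isomorphism of data. -/
def map (a : D ⟶ E) (P : Pt D x) : Pt E x where
  val z y e := P.val z y e ≫ (a.hom PUnit.unit).left
  isOver z y e := by rw [Category.assoc, Over.w (a.hom PUnit.unit)]; exact P.isOver z y e
  nat k z y e e' := by rw [P.nat k z y e e', Category.assoc]
  compat z y y' e e' := by
    rw [a.comm y y' (e.symm.trans e') ⟨P.val z y e, P.isOver z y e⟩ _ rfl, P.compat z y y' e e']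

/-- Transport along an isomorphism of data, as a bijection. -/
def mapEquiv (e : D ≅ E) : Pt D x ≃ Pt E x where
  toFun := map e.hom
  invFun := map e.inv
  left_inv P := ext' fun z y _ => by
    simp only [map, Category.assoc, ← Over.comp_left, ← SchDDFam.comp_hom, e.hom_inv_id]
    exact Category.comp_id _
  right_inv P := ext' fun z y _ => by
    simp only [map, Category.assoc, ← Over.comp_left, ← SchDDFam.comp_hom, e.inv_hom_id]
    exact Category.comp_id _

theorem map_res (a : D ⟶ E) (P : Pt D x) {T' : Scheme.{u}} (k : T' ⟶ T) {x' : T' ⟶ S} (hk : k ≫ x = x') :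
    map a (P.res k hk) = (map a P).res k hk := rfl

/-- A point of the datum descends to itself. -/
def ofLift {y₀ : T ⟶ S'} (hx : y₀ ≫ g = x) (v : Lifts (D.obj PUnit.unit) y₀) : Pt D x where
  val z y e := (D.φ (i := PUnit.unit) (j := PUnit.unit) (z ≫ y₀) y (by rw [Category.assoc, hx, e])
    ⟨z ≫ v.1, by rw [Category.assoc, v.2]⟩).1
  isOver z y e := (D.φ (i := PUnit.unit) (j := PUnit.unit) (z ≫ y₀) y (by rw [Category.assoc, hx, e])
    ⟨z ≫ v.1, by rw [Category.assoc, v.2]⟩).2
  nat k z y e e' := D.φ_natural k (z ≫ y₀) y (by rw [Category.assoc, hx, e]) ((k ≫ z) ≫ y₀) (k ≫ y)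
    (Category.assoc _ _ _).symm rfl _ _ _ (Category.assoc _ _ _)
  compat z y y' e e' := congrArg Subtype.val (D.φ_comp (z ≫ y₀) y y' _ (e.symm.trans e') _)

theorem ofLift_val_self {y₀ : T ⟶ S'} (hx : y₀ ≫ g = x) (v : Lifts (D.obj PUnit.unit) y₀)
    (e : 𝟙 T ≫ x = y₀ ≫ g) : (ofLift hx v).val (𝟙 T) y₀ e = v.1 :=
  (H13Desc.phi_self' D (Category.id_comp y₀) _ _).trans (Category.id_comp _)

/-- A descended point is determined by its value at one lift. -/
theorem eq_ofLift {y₀ : T ⟶ S'} (hx : y₀ ≫ g = x) (P : Pt D x) :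
    P = ofLift hx ⟨P.val (𝟙 T) y₀ (by rw [Category.id_comp, hx]), P.isOver _ _ _⟩ :=
  ext' fun {Z} z y e => by
    have e₀ : z ≫ x = (z ≫ y₀) ≫ g := by rw [Category.assoc, hx]
    refine (P.compat z (z ≫ y₀) y e₀ e).symm.trans (congrArg Subtype.val (congrArg _ (Subtype.ext ?_)))
    refine (P.val_congr (Category.comp_id z).symm rfl _ ?_).trans (P.nat z (𝟙 T) y₀ _ _)
    rw [Category.comp_id, e₀]

end Pt

section Canonical

variable (U : Over S)

/-- The descended point of an actual point. -/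
def ofPoint (a : Lifts U x) : Pt ((toDDFam (fun _ : PUnit.{1} => g)).obj U) x where
  val z y e := pullback.lift y (z ≫ a.1) (by rw [Category.assoc, a.2, e])
  isOver z y e := pullback.lift_fst _ _ _
  nat k z y e e' := by apply pullback.hom_ext <;> simp
  compat z y y' e e' := by
    apply pullback.hom_ext
    · exact (pullback.lift_fst _ _ _).trans (pullback.lift_fst _ _ _).symm
    · exact (pullback.lift_snd _ _ _).trans ((pullback.lift_snd _ _ _).trans (pullback.lift_snd _ _ _).symm)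

theorem ofPoint_res (a : Lifts U x) {T' : Scheme.{u}} (k : T' ⟶ T) {x' : T' ⟶ S} (hk : k ≫ x = x') :
    ofPoint (g := g) U (x := x') ⟨k ≫ a.1, by rw [Category.assoc, a.2, hk]⟩ = (ofPoint (g := g) U a).res k hk :=
  Pt.ext' fun z y e => by
    rw [Pt.res_val]
    apply pullback.hom_ext <;> simp [ofPoint]

/-- Points of etale schemes descend along universally submersive morphisms. -/
theorem ofPoint_bijective (hg : SGA1.UnivSubmersive g) [Etale U.hom] :
    Function.Bijective (ofPoint (g := g) (x := x) U) := by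
  have h : ∀ P : Pt ((toDDFam (fun _ : PUnit.{1} => g)).obj U) x, ∃! a : T ⟶ U.left, a ≫ U.hom = x ∧
      pullback.fst x g ≫ a = P.val (pullback.fst x g) (pullback.snd x g) pullback.condition ≫ pullback.snd g U.hom := by
    intro P
    refine existsUnique_hom g hg x U.hom _ ?_ ?_
    · rw [Category.assoc, ← pullback.condition, ← Category.assoc]
      exact (congrArg (· ≫ g) (P.isOver _ _ _)).trans pullback.condition.symm
    · let a := pullback.fst (pullback.fst x g) (pullback.fst x g)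
      let b := pullback.snd (pullback.fst x g) (pullback.fst x g)
      have hab : a ≫ pullback.fst x g = b ≫ pullback.fst x g := pullback.condition
      have ea : (a ≫ pullback.fst x g) ≫ x = (a ≫ pullback.snd x g) ≫ g := by
        rw [Category.assoc, Category.assoc, pullback.condition]
      have eb : (b ≫ pullback.fst x g) ≫ x = (b ≫ pullback.snd x g) ≫ g := by
        rw [Category.assoc, Category.assoc, pullback.condition]
      change a ≫ _ = b ≫ _
      rw [← Category.assoc, ← Category.assoc, ← P.nat a _ _ pullback.condition ea,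
        ← P.nat b _ _ pullback.condition eb, P.val_congr hab rfl ea (hab ▸ ea)]
      rw [← P.compat (b ≫ pullback.fst x g) (a ≫ pullback.snd x g) (b ≫ pullback.snd x g) (hab ▸ ea) eb]
      exact (pullback.lift_snd _ _ _).symm
  refine ⟨fun a b hab => ?_, fun P => ?_⟩
  · obtain ⟨c, -, hc⟩ := h (ofPoint U a)
    refine Subtype.ext ((hc a.1 ⟨a.2, (pullback.lift_snd _ _ _).symm⟩).trans (hc b.1 ⟨b.2, ?_⟩).symm)
    rw [hab]
    exact (pullback.lift_snd _ _ _).symm
  · obtain ⟨a, ⟨ha, hval⟩, -⟩ := h P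
    refine ⟨⟨a, ha⟩, Pt.ext' fun {Z} z y e => ?_⟩
    let l : Z ⟶ pullback x g := pullback.lift z y e
    have h1 : l ≫ pullback.fst x g = z := pullback.lift_fst _ _ _
    have h2 : l ≫ pullback.snd x g = y := pullback.lift_snd _ _ _
    have el : (l ≫ pullback.fst x g) ≫ x = (l ≫ pullback.snd x g) ≫ g := by rw [h1, h2, e]
    apply pullback.hom_ext
    · exact (pullback.lift_fst _ _ _).trans (P.isOver z y e).symm
    · refine (pullback.lift_snd _ _ _).trans ?_
      rw [← P.val_congr h1 h2 el e, P.nat l _ _ pullback.condition el, Category.assoc, ← hval,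
        ← Category.assoc, h1]

end Canonical

section Pull

variable (D) {W : Scheme.{u}} (c : W ⟶ S) {x₀ : T ⟶ W}

/-- The datum on a base change. -/
abbrev pullTo : SchDDFam (fun _ : PUnit.{1} => pullback.snd g c) :=
  (pullDDFam (f := fun _ : PUnit.{1} => g) (f' := fun _ : PUnit.{1} => pullback.snd g c)
    (α := id) (p := c) (p' := fun _ => pullback.fst g c) (fun _ => pullback.condition)).obj D

abbrev pts {Z : Scheme.{u}} (r : Z ⟶ pullback g c) :
    Lifts ((pullTo D c).obj PUnit.unit) r ≃ Lifts (D.obj PUnit.unit) (r ≫ pullback.fst g c) :=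
  H13Desc.pullPts (f := fun _ : PUnit.{1} => g) (f' := fun _ : PUnit.{1} => pullback.snd g c)
    (α := id) (p := c) (p' := fun _ => pullback.fst g c) (fun _ => pullback.condition) D PUnit.unit r

/-- Descended points of a base change. -/
def pullToPt (P : Pt D (x₀ ≫ c)) : Pt (pullTo D c) x₀ where
  val z y e := pullback.lift (P.val z (y ≫ pullback.fst g c)
      (by rw [Category.assoc, pullback.condition, ← reassoc_of% e])) y (P.isOver _ _ _)
  isOver z y e := pullback.lift_snd _ _ _
  nat k z y e e' := by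
    apply pullback.hom_ext
    · refine (pullback.lift_fst _ _ _).trans (Eq.trans ?_ ((congrArg (k ≫ ·) (pullback.lift_fst _ _ _)).symm.trans
        (Category.assoc _ _ _).symm))
      refine (P.val_congr rfl (Category.assoc _ _ _) _ ?_).trans (P.nat k z _ _ _)
      simp [pullback.condition, ← reassoc_of% e]
    · simp
  compat z y y' e e' := by
    apply pullback.hom_ext
    · refine (congrArg Subtype.val (H13Desc.pull_phi (f := fun _ : PUnit.{1} => g)
        (f' := fun _ : PUnit.{1} => pullback.snd g c) (α := id) (p := c) (p' := fun _ => pullback.fst g c)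
        (fun _ => pullback.condition) D y y' (e.symm.trans e') _)).trans ?_
      rw [pullback.lift_fst]
      refine Eq.trans ?_ (P.compat z (y ≫ pullback.fst g c) (y' ≫ pullback.fst g c)
        (by rw [Category.assoc, pullback.condition, ← reassoc_of% e]) _)
      exact congrArg Subtype.val (congrArg _ (Subtype.ext (pullback.lift_fst _ _ _)))
    · refine Eq.trans ?_ (pullback.lift_snd _ _ _).symm
      exact ((pullTo D c).φ (i := PUnit.unit) (j := PUnit.unit) y y' _ _).2

/-- Descended points over a base change are descended points. -/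
def ofPullPt (Q : Pt (pullTo D c) x₀) : Pt D (x₀ ≫ c) where
  val z y e := Q.val z (pullback.lift y (z ≫ x₀) (by rw [Category.assoc, e]))
    (pullback.lift_snd _ _ _).symm ≫ pullback.fst _ _
  isOver z y e := by
    refine (Category.assoc _ _ _).trans ?_
    rw [pullback.condition, ← Category.assoc]
    exact (congrArg (· ≫ pullback.fst g c) (Q.isOver _ _ _)).trans (pullback.lift_fst _ _ _)
  nat k z y e e' := by
    refine Eq.trans (congrArg (· ≫ pullback.fst _ _) ?_) (Category.assoc _ _ _)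
    refine (Q.val_congr rfl ?_ _ ?_).trans (Q.nat k z _ (pullback.lift_snd _ _ _).symm _)
    · apply pullback.hom_ext <;> simp
    · simp
  compat z y y' e e' := by
    let r := pullback.lift (f := g) (g := c) y (z ≫ x₀) (by rw [Category.assoc, e])
    let r' := pullback.lift (f := g) (g := c) y' (z ≫ x₀) (by rw [Category.assoc, e'])
    have hh : r ≫ pullback.snd g c = r' ≫ pullback.snd g c := by
      rw [pullback.lift_snd, pullback.lift_snd]
    have h1 := congrArg (· ≫ pullback.fst _ _)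
      (Q.compat z r r' (pullback.lift_snd _ _ _).symm (pullback.lift_snd _ _ _).symm)
    refine Eq.trans ?_ h1
    refine Eq.trans ?_ (congrArg Subtype.val (H13Desc.pull_phi (f := fun _ : PUnit.{1} => g)
        (f' := fun _ : PUnit.{1} => pullback.snd g c) (α := id) (p := c) (p' := fun _ => pullback.fst g c)
        (fun _ => pullback.condition) D r r' hh _)).symm
    exact H13Desc.phi_congr D (pullback.lift_fst _ _ _).symm (pullback.lift_fst _ _ _).symm _ _ _ _ rfl

/-- Descended points over a base change are descended points. -/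
def pullEquiv : Pt (pullTo D c) x₀ ≃ Pt D (x₀ ≫ c) where
  toFun := ofPullPt D c
  invFun := pullToPt D c
  left_inv Q := Pt.ext' fun {Z} z y e => by
    apply pullback.hom_ext
    · refine (pullback.lift_fst _ _ _).trans (congrArg (· ≫ pullback.fst _ _) (Q.val_congr rfl ?_ _ _))
      apply pullback.hom_ext
      · simp
      · rw [pullback.lift_snd]; exact e
    · exact (pullback.lift_snd _ _ _).trans (Q.isOver z y e).symm
  right_inv P := Pt.ext' fun {Z} z y e =>
    (pullback.lift_fst _ _ _).trans (P.val_congr rfl (pullback.lift_fst _ _ _) _ _)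

theorem pullEquiv_res (Q : Pt (pullTo D c) x₀) {T' : Scheme.{u}} (k : T' ⟶ T) {x₀' : T' ⟶ W}
    (hk : k ≫ x₀ = x₀') :
    pullEquiv D c (Q.res k hk) = (pullEquiv D c Q).res k (by rw [← Category.assoc, hk]) :=
  Pt.ext' fun {Z} z y e => by
    refine congrArg (· ≫ pullback.fst _ _) (Q.val_congr rfl ?_ _ _)
    apply pullback.hom_ext <;> simp [← hk]

end Pull

end Groth.Agent.H9Et.DescPts
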