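import Groth.Agent.H13Desc.DescFam
import Groth.Prelude.Def_DescFam
import Mathlib

/-!
# Solutions of descent data as cartesian invariant morphisms

An isomorphism of a datum `E` relative to `f : X ⟶ W` with the canonical datum of `U` is the same as
a morphism `q` from the scheme of `E` to `U`, invariant under the gluing and cartesian over `f`.
-/

set_option autoImplicit false
set_option linter.style.haveILetI false
set_option backward.isDefEq.respectTransparency false
set_option backward.isDefEq.respectTransparency.types false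

universe u

open CategoryTheory Limits AlgebraicGeometry Desc

noncomputable section

namespace Groth.Agent.H9Et.DescPts

variable {S S' : Scheme.{u}}

/-- The structure morphism of a one-member datum. -/
abbrev str {g : S' ⟶ S} (E : SchDDFam (fun _ : PUnit.{1} => g)) : (E.obj PUnit.unit).left ⟶ S' :=
  (E.obj PUnit.unit).hom

/-- `q` exhibits `U` as a solution of the datum `E`. -/
structure IsSol {g : S' ⟶ S} (E : SchDDFam (fun _ : PUnit.{1} => g)) (U : Over S)
    (q : (E.obj PUnit.unit).left ⟶ U.left) : Prop where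
  sq : IsPullback (str E) q g U.hom
  inv : ∀ {T : Scheme.{u}} (y₀ y₁ : T ⟶ S') (h : y₀ ≫ g = y₁ ≫ g)
    (v : Lifts (E.obj PUnit.unit) y₀),
    (E.φ (i := PUnit.unit) (j := PUnit.unit) y₀ y₁ h v).1 ≫ q = v.1 ≫ q

variable {g : S' ⟶ S}

theorem IsSol.nonempty_iso {E : SchDDFam (fun _ : PUnit.{1} => g)} {U : Over S}
    {q : (E.obj PUnit.unit).left ⟶ U.left} (hq : IsSol E U q) :
    Nonempty ((toDDFam (fun _ : PUnit.{1} => g)).obj U ≅ E) := by
  refine ⟨Iso.symm (H13Desc.ddFamIso (fun _ => Over.isoMk hq.sq.isoPullback ?_) ?_)⟩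
  · exact hq.sq.isoPullback_hom_fst
  · intro T i j y₀ y₁ h v w hw
    obtain rfl : i = PUnit.unit := rfl
    obtain rfl : j = PUnit.unit := rfl
    apply pullback.hom_ext
    · rw [show ((((toDDFam (fun _ : PUnit.{1} => g)).obj U).φ y₀ y₁ h) w).1 ≫
          pullback.fst g U.hom = y₁ from pullback.lift_fst _ _ _]
      simp only [Over.isoMk_hom_left, Category.assoc]
      rw [hq.sq.isoPullback_hom_fst]
      exact (E.φ (i := PUnit.unit) (j := PUnit.unit) y₀ y₁ h v).2.symm
    · rw [show ((((toDDFam (fun _ : PUnit.{1} => g)).obj U).φ y₀ y₁ h) w).1 ≫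
          pullback.snd g U.hom = w.1 ≫ pullback.snd g U.hom from pullback.lift_snd _ _ _, hw]
      simp only [Over.isoMk_hom_left, Category.assoc]
      rw [hq.sq.isoPullback_hom_snd, hq.inv]

theorem exists_isSol {E : SchDDFam (fun _ : PUnit.{1} => g)} {U : Over S}
    (e : (toDDFam (fun _ : PUnit.{1} => g)).obj U ≅ E) : ∃ q, IsSol E U q := by
  let el : pullback g U.hom ≅ (E.obj PUnit.unit).left :=
    { hom := (e.hom.hom PUnit.unit).left
      inv := (e.inv.hom PUnit.unit).left
      hom_inv_id := by rw [← Over.comp_left, ← SchDDFam.comp_hom, e.hom_inv_id]; rfl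
      inv_hom_id := by rw [← Over.comp_left, ← SchDDFam.comp_hom, e.inv_hom_id]; rfl }
  refine ⟨el.inv ≫ pullback.snd g U.hom, ⟨?_, fun {T} y₀ y₁ h v => ?_⟩⟩
  · refine (IsPullback.of_hasPullback g U.hom).of_iso el (Iso.refl _) (Iso.refl _) (Iso.refl _)
      ?_ ?_ (by simp) (by simp)
    · simp only [Iso.refl_hom, Category.comp_id]
      exact (Over.w (e.hom.hom PUnit.unit)).symm
    · simp
  · have hc := e.inv.comm (i := PUnit.unit) (j := PUnit.unit) y₀ y₁ h v (e.inv.push v) rfl
    have h2 := congrArg (· ≫ pullback.snd g U.hom) hc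
    rw [show ((((toDDFam (fun _ : PUnit.{1} => g)).obj U).φ y₀ y₁ h) (e.inv.push v)).1 ≫
      pullback.snd g U.hom = (e.inv.push v).1 ≫ pullback.snd g U.hom from pullback.lift_snd _ _ _] at h2
    simpa [el, SchDDFam.Hom.push, toDDFam, canonicalDDFam] using h2.symm

end Groth.Agent.H9Et.DescPts
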