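import Groth.Agent.H9Et.DescentPts
import Groth.Agent.H9Et.DescentSol
import Mathlib

/-!
# Base change of solutions of descent data

The scheme of a base-changed datum, its double scheme `rObj` with the two maps to it, and their
behaviour under a further base change.
-/

set_option autoImplicit false
set_option linter.style.haveILetI false
set_option backward.isDefEq.respectTransparency false
set_option backward.isDefEq.respectTransparency.types false

universe u

open CategoryTheory Limits AlgebraicGeometry Desc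

noncomputable section

namespace Groth.Agent.H9Et.DescPts

variable {S S' : Scheme.{u}} {g : S' ⟶ S} (D : SchDDFam (fun _ : PUnit.{1} => g))

/-- The scheme of the datum over `W`. -/
abbrev zObj {W : Scheme.{u}} (c : W ⟶ S) : Scheme.{u} := pullback (str D) (pullback.fst g c)

/-- Its structure morphism to `W`. -/
abbrev zStr {W : Scheme.{u}} (c : W ⟶ S) : zObj D c ⟶ W :=
  pullback.snd (str D) (pullback.fst g c) ≫ pullback.snd g c

variable {W W' : Scheme.{u}} {c : W ⟶ S} {c' : W' ⟶ S} (k : W' ⟶ W) (hk : k ≫ c = c')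

/-- The transition map of the bases of the datum. -/
def gMap : pullback g c' ⟶ pullback g c :=
  pullback.lift (pullback.fst g c') (pullback.snd g c' ≫ k) (by
    rw [pullback.condition, Category.assoc, hk])

@[reassoc (attr := simp)]
theorem gMap_fst : gMap (g := g) k hk ≫ pullback.fst g c = pullback.fst g c' := pullback.lift_fst _ _ _

@[reassoc (attr := simp)]
theorem gMap_snd : gMap (g := g) k hk ≫ pullback.snd g c = pullback.snd g c' ≫ k := pullback.lift_snd _ _ _

theorem isPullback_gMap :
    IsPullback (gMap (g := g) k hk) (pullback.snd g c') (pullback.snd g c) k := by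
  refine IsPullback.of_right ?_ (gMap_snd k hk) (IsPullback.of_hasPullback g c)
  rw [gMap_fst, hk]
  exact IsPullback.of_hasPullback g c'

/-- The transition map of the schemes of the datum. -/
def zMap : zObj D c' ⟶ zObj D c :=
  pullback.lift (pullback.fst _ _) (pullback.snd _ _ ≫ gMap k hk) (by
    rw [pullback.condition, Category.assoc, gMap_fst])

@[reassoc (attr := simp)]
theorem zMap_fst : zMap D k hk ≫ pullback.fst (str D) (pullback.fst g c) =
    pullback.fst (str D) (pullback.fst g c') := pullback.lift_fst _ _ _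

@[reassoc (attr := simp)]
theorem zMap_snd : zMap D k hk ≫ pullback.snd (str D) (pullback.fst g c) =
    pullback.snd (str D) (pullback.fst g c') ≫ gMap k hk := pullback.lift_snd _ _ _

theorem isPullback_zMap_str :
    IsPullback (zMap D k hk) (pullback.snd (str D) (pullback.fst g c'))
      (pullback.snd (str D) (pullback.fst g c)) (gMap k hk) := by
  refine IsPullback.of_right ?_ (zMap_snd D k hk) (IsPullback.of_hasPullback (str D) (pullback.fst g c))
  rw [zMap_fst, gMap_fst]
  exact IsPullback.of_hasPullback _ _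

theorem isPullback_zMap : IsPullback (zMap D k hk) (zStr D c') (zStr D c) k :=
  (isPullback_zMap_str D k hk).paste_vert (isPullback_gMap k hk)

/-- The value of the gluing of a base-changed datum. -/
theorem pullTo_phi_fst {T : Scheme.{u}} (y₀ y₁ : T ⟶ pullback g c)
    (h : y₀ ≫ pullback.snd g c = y₁ ≫ pullback.snd g c) (v : Lifts ((pullTo D c).obj PUnit.unit) y₀)
    (h' : (y₀ ≫ pullback.fst g c) ≫ g = (y₁ ≫ pullback.fst g c) ≫ g)
    (hv : (v.1 ≫ pullback.fst (str D) (pullback.fst g c)) ≫ str D = y₀ ≫ pullback.fst g c) :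
    ((pullTo D c).φ (i := PUnit.unit) (j := PUnit.unit) y₀ y₁ h v).1 ≫
        pullback.fst (str D) (pullback.fst g c) =
      (D.φ (i := PUnit.unit) (j := PUnit.unit) (y₀ ≫ pullback.fst g c) (y₁ ≫ pullback.fst g c) h'
        ⟨v.1 ≫ pullback.fst (str D) (pullback.fst g c), hv⟩).1 :=
  congrArg Subtype.val (H13Desc.pull_phi (f := fun _ : PUnit.{1} => g)
    (f' := fun _ : PUnit.{1} => pullback.snd g c) (α := id) (p := c)
    (p' := fun _ => pullback.fst g c) (fun _ => pullback.condition) D y₀ y₁ h v)

theorem phi_zMap {T : Scheme.{u}} (y₀ y₁ : T ⟶ pullback g c')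
    (h : y₀ ≫ pullback.snd g c' = y₁ ≫ pullback.snd g c')
    (v : Lifts ((pullTo D c').obj PUnit.unit) y₀) (v' : Lifts ((pullTo D c).obj PUnit.unit) (y₀ ≫ gMap k hk))
    (hv : v'.1 = v.1 ≫ zMap D k hk) :
    ((pullTo D c').φ (i := PUnit.unit) (j := PUnit.unit) y₀ y₁ h v).1 ≫ zMap D k hk =
      ((pullTo D c).φ (i := PUnit.unit) (j := PUnit.unit) (y₀ ≫ gMap k hk) (y₁ ≫ gMap k hk)
        (by simp only [Category.assoc, gMap_snd]; rw [reassoc_of% h]) v').1 := by
  have hvs : v.1 ≫ pullback.snd (str D) (pullback.fst g c') = y₀ := v.2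
  have hvs' : v'.1 ≫ pullback.snd (str D) (pullback.fst g c) = y₀ ≫ gMap k hk := v'.2
  apply pullback.hom_ext
  · rw [Category.assoc, zMap_fst, pullTo_phi_fst D y₀ y₁ h v (by
        simp only [Category.assoc, pullback.condition]; rw [reassoc_of% h]) (by
        rw [Category.assoc, pullback.condition, reassoc_of% hvs]),
      pullTo_phi_fst D _ _ _ v' (by
        simp only [Category.assoc, pullback.condition, gMap_snd_assoc]; rw [reassoc_of% h]) (by
        rw [Category.assoc, pullback.condition, reassoc_of% hvs', Category.assoc])]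
    refine H13Desc.phi_congr D (by simp) (by simp) _ _ _ _ ?_
    refine Eq.trans ?_ (congrArg (· ≫ pullback.fst (str D) (pullback.fst g c)) hv).symm
    exact ((Category.assoc _ _ _).trans (congrArg (v.1 ≫ ·) (zMap_fst D k hk))).symm
  · rw [Category.assoc, zMap_snd]
    refine Eq.trans ?_ ((pullTo D c).φ (i := PUnit.unit) (j := PUnit.unit) (y₀ ≫ gMap k hk)
      (y₁ ≫ gMap k hk) _ v').2.symm
    exact (Category.assoc _ _ _).symm.trans (congrArg (· ≫ gMap k hk)
      ((pullTo D c').φ (i := PUnit.unit) (j := PUnit.unit) y₀ y₁ h v).2)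

/-- The scheme of pairs. -/
abbrev rObj (c : W ⟶ S) : Scheme.{u} := pullback (zStr D c) (pullback.snd g c)

abbrev rStr (c : W ⟶ S) : rObj D c ⟶ W := pullback.fst (zStr D c) (pullback.snd g c) ≫ zStr D c

/-- The gluing at the universal pair. -/
def actMap (c : W ⟶ S) : rObj D c ⟶ zObj D c :=
  ((pullTo D c).φ (i := PUnit.unit) (j := PUnit.unit)
    (pullback.fst (zStr D c) (pullback.snd g c) ≫ pullback.snd (str D) (pullback.fst g c))
    (pullback.snd (zStr D c) (pullback.snd g c))
    ((Category.assoc _ _ _).trans pullback.condition)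
    ⟨pullback.fst (zStr D c) (pullback.snd g c), rfl⟩).1

theorem actMap_str (c : W ⟶ S) : actMap D c ≫ pullback.snd (str D) (pullback.fst g c) =
    pullback.snd (zStr D c) (pullback.snd g c) :=
  ((pullTo D c).φ (i := PUnit.unit) (j := PUnit.unit) _ _ _ _).2

theorem actMap_zStr (c : W ⟶ S) : actMap D c ≫ zStr D c = rStr D c := by
  rw [← Category.assoc, actMap_str]
  exact pullback.condition.symm

/-- The transition map of the schemes of pairs. -/
def rMap : rObj D c' ⟶ rObj D c :=
  pullback.lift (pullback.fst _ _ ≫ zMap D k hk) (pullback.snd _ _ ≫ gMap k hk) (by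
    rw [Category.assoc, (isPullback_zMap D k hk).w, ← Category.assoc, pullback.condition,
      Category.assoc, Category.assoc, gMap_snd])

@[reassoc]
theorem rMap_fst : rMap D k hk ≫ pullback.fst (zStr D c) (pullback.snd g c) =
    pullback.fst (zStr D c') (pullback.snd g c') ≫ zMap D k hk := pullback.lift_fst _ _ _

@[reassoc]
theorem rMap_snd : rMap D k hk ≫ pullback.snd (zStr D c) (pullback.snd g c) =
    pullback.snd (zStr D c') (pullback.snd g c') ≫ gMap k hk := pullback.lift_snd _ _ _

theorem isPullback_rMap : IsPullback (rMap D k hk) (rStr D c') (rStr D c) k := by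
  have h1 : IsPullback (rMap D k hk) (pullback.fst (zStr D c') (pullback.snd g c'))
      (pullback.fst (zStr D c) (pullback.snd g c)) (zMap D k hk) := by
    refine IsPullback.of_right (t := (IsPullback.of_hasPullback (zStr D c) (pullback.snd g c)).flip)
      (p := rMap_fst D k hk) ?_
    rw [rMap_snd, (isPullback_zMap D k hk).w]
    exact (IsPullback.of_hasPullback (zStr D c') (pullback.snd g c')).flip.paste_horiz (isPullback_gMap k hk)
  exact h1.paste_vert (isPullback_zMap D k hk)

theorem rMap_actMap : rMap D k hk ≫ actMap D c = actMap D c' ≫ zMap D k hk := by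
  rw [actMap, actMap, phi_zMap D k hk _ _ _ _ ⟨pullback.fst (zStr D c') (pullback.snd g c') ≫ zMap D k hk,
    by
      change (pullback.fst (zStr D c') (pullback.snd g c') ≫ zMap D k hk) ≫
        pullback.snd (str D) (pullback.fst g c) = _
      rw [Category.assoc, zMap_snd, Category.assoc]⟩ rfl]
  refine ((pullTo D c).φ_natural (rMap D k hk) (i := PUnit.unit) (j := PUnit.unit) _ _ _ _ _ ?_ ?_ _ _ _ ?_).symm
  · rw [rMap_fst_assoc, zMap_snd, Category.assoc]
  · exact rMap_snd D k hk
  · exact (rMap_fst D k hk).symm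

/-- Invariance can be checked at the universal pair. -/
theorem IsSol.of_actMap {U : Over W} {q : zObj D c ⟶ U.left}
    (hsq : IsPullback (pullback.snd (str D) (pullback.fst g c)) q (pullback.snd g c) U.hom)
    (h : actMap D c ≫ q = pullback.fst (zStr D c) (pullback.snd g c) ≫ q) :
    IsSol (pullTo D c) U q := by
  refine ⟨hsq, fun {T} y₀ y₁ hy v => ?_⟩
  have hvs : v.1 ≫ pullback.snd (str D) (pullback.fst g c) = y₀ := v.2
  let t : T ⟶ rObj D c := pullback.lift v.1 y₁ (by rw [reassoc_of% hvs, hy])
  have ht : ((pullTo D c).φ (i := PUnit.unit) (j := PUnit.unit) y₀ y₁ hy v).1 = t ≫ actMap D c :=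
    (pullTo D c).φ_natural t (i := PUnit.unit) (j := PUnit.unit) _ _ _ _ _
      (by rw [pullback.lift_fst_assoc, hvs]) (pullback.lift_snd _ _ _) _ _ _ (pullback.lift_fst _ _ _).symm
  rw [ht, Category.assoc, h, pullback.lift_fst_assoc]

theorem IsSol.actMap_comp {U : Over W} {q : zObj D c ⟶ U.left} (hq : IsSol (pullTo D c) U q) :
    actMap D c ≫ q = pullback.fst (zStr D c) (pullback.snd g c) ≫ q :=
  hq.inv _ _ _ _

theorem IsSol.comp_hom {U : Over W} {q : zObj D c ⟶ U.left} (hq : IsSol (pullTo D c) U q) :
    q ≫ U.hom = zStr D c :=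
  hq.sq.w.symm

/-- Solutions can be pulled back. -/
theorem IsSol.baseChange {U : Over W} {q : zObj D c ⟶ U.left} (hq : IsSol (pullTo D c) U q)
    {q' : zObj D c' ⟶ pullback U.hom k} (h1 : q' ≫ pullback.fst U.hom k = zMap D k hk ≫ q)
    (h2 : q' ≫ pullback.snd U.hom k = zStr D c') :
    IsSol (pullTo D c') (Over.mk (pullback.snd U.hom k)) q' := by
  refine IsSol.of_actMap D (IsPullback.flip ?_) ?_
  · refine IsPullback.of_right ?_ h2 (IsPullback.of_hasPullback U.hom k)
    rw [h1, ← gMap_snd k hk]
    exact (isPullback_zMap_str D k hk).paste_horiz hq.sq.flip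
  · apply pullback.hom_ext
    · rw [Category.assoc, h1, ← Category.assoc, ← rMap_actMap, Category.assoc, hq.actMap_comp D,
        rMap_fst_assoc, Category.assoc, h1]
    · rw [Category.assoc, h2, actMap_zStr, Category.assoc, h2]

include hk in
theorem exists_isSol_baseChange {U : Over W}
    (e : (toDDFam (fun _ : PUnit.{1} => pullback.snd g c)).obj U ≅ pullTo D c) :
    Nonempty ((toDDFam (fun _ : PUnit.{1} => pullback.snd g c')).obj (Over.mk (pullback.snd U.hom k)) ≅
      pullTo D c') := by
  obtain ⟨q, hq⟩ := exists_isSol e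
  let q' : zObj D c' ⟶ pullback U.hom k := pullback.lift (zMap D k hk ≫ q) (zStr D c') (by
    refine (Category.assoc _ _ _).trans ?_
    refine Eq.trans (congrArg (zMap D k hk ≫ ·) hq.sq.w.symm) ?_
    exact (isPullback_zMap D k hk).w)
  exact (IsSol.baseChange D k hk hq (q' := q') (pullback.lift_fst _ _ _) (pullback.lift_snd _ _ _)).nonempty_iso

end Groth.Agent.H9Et.DescPts
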