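import Groth.Agent.H9Et.DescentSolBase
import Groth.Agent.H7Lim.FPDescent.Exists
import Groth.Agent.H7Lim.Descend
import Groth.Agent.H06EGA8.DescendSmooth
import Mathlib

/-!
# Solutions of descent data descend to a stage of a limit

If a descent datum of finite presentation has an etale solution over the limit of a cofiltered
system of affine schemes over the base, then it has one over some stage.
-/

set_option autoImplicit false
set_option linter.style.haveILetI false
set_option backward.isDefEq.respectTransparency false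
set_option backward.isDefEq.respectTransparency.types false
set_option backward.defeqAttrib.useBackward true

universe u

open CategoryTheory Limits AlgebraicGeometry Desc

noncomputable section

namespace Groth.Agent.H9Et.DescPts

open H7Lim

variable {I : Type u} [Category.{u} I] {T : I ⥤ Scheme.{u}} {c : Cone T}

section models

variable [IsCofiltered I] [∀ (i j : I) (f : i ⟶ j), IsAffineHom (T.map f)]
  [∀ i, CompactSpace (T.obj i)] [∀ i, QuasiSeparatedSpace (T.obj i)]

/-- Two morphisms over a stage which agree over the limit agree at a later stage. -/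
theorem exists_eq_stage (hc : IsLimit c) {i : I} {U Q : Scheme.{u}} {h : U ⟶ c.pt}
    (M : FPDescent.Model c h i) (q : Q ⟶ T.obj i) [LocallyOfFiniteType q] (a b : M.P ⟶ Q)
    (ha : a ≫ q = M.p) (hb : b ≫ q = M.p) (hab : M.g ≫ a = M.g ≫ b) :
    ∃ (j : I) (φ : j ⟶ i), pullback.fst M.p (T.map φ) ≫ a = pullback.fst M.p (T.map φ) ≫ b := by
  haveI := M.compactSpace
  haveI := M.quasiSeparatedSpace
  haveI : ∀ (j k : Over i) (f : j ⟶ k), IsAffineHom ((pbDiagram T i M.p).map f) :=
    isAffineHom_pbDiagram_map T i M.p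
  let t : pbDiagram T i M.p ⟶ (Functor.const (Over i)).obj (T.obj i) :=
    { app := fun k => pullback.fst _ _ ≫ M.p
      naturality := fun k l f => by simp }
  let o : Over i := Over.mk (𝟙 i)
  let e := M.hpb.isoPullback
  haveI : ∀ k : Over i, CompactSpace ((pbDiagram T i M.p).obj k) := fun k => by
    haveI : QuasiCompact (pullback.snd M.p (T.map k.hom)) := inferInstance
    exact QuasiCompact.compactSpace_of_compactSpace (pullback.snd M.p (T.map k.hom))
  obtain ⟨k, f, hf⟩ := Scheme.exists_hom_comp_eq_comp_of_locallyOfFiniteType (pbDiagram T i M.p) t q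
    (pbCone T c i M.p) (isLimitPbCone T i M.p hc) (i := o)
    (pullback.fst M.p (T.map o.hom) ≫ a) (pullback.fst M.p (T.map o.hom) ≫ b)
    (by simp [t, ha]) (by simp [t, hb]) (by
      have h1 : (pbCone T c i M.p).π.app o ≫ pullback.fst M.p (T.map o.hom) =
          pullback.fst M.p (c.π.app i) := by simp [pbCone]
      have h2 : pullback.fst M.p (c.π.app i) = e.inv ≫ M.g := by simp [e]
      rw [reassoc_of% h1, reassoc_of% h1, h2, Category.assoc, Category.assoc, hab])
  refine ⟨k.left, k.hom, ?_⟩
  simpa [pbDiagram] using hf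

omit [IsCofiltered I] [∀ (i j : I) (f : i ⟶ j), IsAffineHom (T.map f)] [∀ i, CompactSpace (T.obj i)]
  [∀ i, QuasiSeparatedSpace (T.obj i)] in
/-- A map which becomes an isomorphism after base change gives an isomorphism of chosen pullbacks. -/
theorem isIso_of_map {B B' P Q P' Q' : Scheme.{u}} {k : B' ⟶ B} {p : P ⟶ B} {q : Q ⟶ B}
    {p' : P' ⟶ B'} {q' : Q' ⟶ B'} {zP : P' ⟶ P} {zQ : Q' ⟶ Q} (hP : IsPullback zP p' p k)
    (hQ : IsPullback zQ q' q k) (o : P ⟶ Q) (ho : o ≫ q = p) (o' : P' ⟶ Q') (h1 : o' ≫ q' = p')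
    (h2 : o' ≫ zQ = zP ≫ o)
    [IsIso (pullback.map p k q k o (𝟙 B') (𝟙 B) (by simp [ho]) (by simp))] : IsIso o' := by
  have : o' = hP.isoPullback.hom ≫ pullback.map p k q k o (𝟙 B') (𝟙 B) (by simp [ho]) (by simp) ≫
      hQ.isoPullback.inv := by
    apply hQ.hom_ext <;> simp [h1, h2]
  rw [this]
  infer_instance

end models

variable {S S' : Scheme.{u}} {g : S' ⟶ S} (D : SchDDFam (fun _ : PUnit.{1} => g))
  (b : ∀ i, T.obj i ⟶ S) (hb : ∀ {i j : I} (φ : i ⟶ j), T.map φ ≫ b j = b i) {σ : c.pt ⟶ S}
  (hσ : ∀ i, c.π.app i ≫ b i = σ)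
  [LocallyOfFinitePresentation g] [QuasiCompact g] [QuasiSeparated g]
  [LocallyOfFinitePresentation (str D)] [QuasiCompact (str D)] [QuasiSeparated (str D)]

/-- The scheme of the datum as a model. -/
def zModel (i : I) : FPDescent.Model c (zStr D σ) i where
  P := zObj D (b i)
  p := zStr D (b i)
  lfp := inferInstance
  qc := inferInstance
  qs := inferInstance
  g := zMap D (c.π.app i) (hσ i)
  hpb := isPullback_zMap D (c.π.app i) (hσ i)

/-- The scheme of pairs as a model. -/
def rModel (i : I) : FPDescent.Model c (rStr D σ) i where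
  P := rObj D (b i)
  p := rStr D (b i)
  lfp := inferInstance
  qc := inferInstance
  qs := inferInstance
  g := rMap D (c.π.app i) (hσ i)
  hpb := isPullback_rMap D (c.π.app i) (hσ i)

omit [LocallyOfFinitePresentation g] [QuasiCompact g] [QuasiSeparated g] in
/-- Products with the bases of the datum commute with base change. -/
theorem isPullback_prod {W W' P P' : Scheme.{u}} {k : W' ⟶ W} {e : W ⟶ S} {e' : W' ⟶ S}
    (hk : k ≫ e = e') {p : P ⟶ W} {p' : P' ⟶ W'} {z : P' ⟶ P} (hz : IsPullback z p' p k)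
    (m : pullback (pullback.snd g e') p' ⟶ pullback (pullback.snd g e) p)
    (h1 : m ≫ pullback.fst (pullback.snd g e) p = pullback.fst (pullback.snd g e') p' ≫ gMap k hk)
    (h2 : m ≫ pullback.snd (pullback.snd g e) p = pullback.snd (pullback.snd g e') p' ≫ z) :
    IsPullback m (pullback.snd (pullback.snd g e') p' ≫ p') (pullback.snd (pullback.snd g e) p ≫ p) k := by
  refine (IsPullback.of_right (t := IsPullback.of_hasPullback (pullback.snd g e) p)
    (p := h2) ?_).paste_vert hz
  rw [h1, hz.w]
  exact (IsPullback.of_hasPullback (pullback.snd g e') p').paste_horiz (isPullback_gMap k hk)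

variable [IsCofiltered I] [∀ (i j : I) (f : i ⟶ j), IsAffineHom (T.map f)] [∀ i, IsAffine (T.obj i)]

include hb hσ in
set_option maxHeartbeats 1600000 in
/-- An etale solution over the limit gives one over a stage. -/
theorem exists_stage_solution (hc : IsLimit c) (U : Over c.pt) [Etale U.hom]
    [QuasiCompact U.hom] [QuasiSeparated U.hom]
    (e : (toDDFam (fun _ : PUnit.{1} => pullback.snd g σ)).obj U ≅ pullTo D σ) :
    ∃ (j : I) (V : Over (T.obj j)), Etale V.hom ∧
      Nonempty ((toDDFam (fun _ : PUnit.{1} => pullback.snd g (b j))).obj V ≅ pullTo D (b j)) := by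
  haveI : ∀ i, CompactSpace (T.obj i) := fun i => inferInstance
  haveI : ∀ i, QuasiSeparatedSpace (T.obj i) := fun i => inferInstance
  obtain ⟨q, hq⟩ := exists_isSol e
  -- an etale model of the solution
  obtain ⟨i₀, ⟨M₀⟩⟩ := FPDescent.exists_model hc U.hom
  haveI := M₀.compactSpace
  haveI := M₀.quasiSeparatedSpace
  obtain ⟨i₁, φ₁, het⟩ := exists_descend hc H06EGA8.descendsAffine_etale i₀ M₀.p M₀.lfp
    ((prop_iff_of_isPullback (P := @Etale) M₀.hpb).1 ‹_›)
  obtain ⟨M, hM⟩ : ∃ M : FPDescent.Model c U.hom i₁, Etale M.p := ⟨M₀.shift φ₁, het⟩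
  -- the morphism
  obtain ⟨i₂, φ₂, ⟨F⟩⟩ := FPDescent.exists_hom hc (zModel D b hσ i₁) M q (hq.comp_hom D)
  obtain ⟨M', hM', o', ho'p, ho'g⟩ : ∃ (M' : FPDescent.Model c U.hom i₂) (_ : Etale M'.p)
      (o' : zObj D (b i₂) ⟶ M'.P), o' ≫ M'.p = zStr D (b i₂) ∧
        zMap D (c.π.app i₂) (hσ i₂) ≫ o' = q ≫ M'.g := by
    let θ : zObj D (b i₂) ⟶ pullback (zStr D (b i₁)) (T.map φ₂) :=
      pullback.lift (zMap D (T.map φ₂) (hb φ₂)) (zStr D (b i₂)) (isPullback_zMap D _ _).w
    refine ⟨M.shift φ₂, MorphismProperty.pullback_snd _ _ hM, θ ≫ F.o, ?_, ?_⟩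
    · rw [Category.assoc, F.w_p]
      exact pullback.lift_snd _ _ _
    · have hθ : zMap D (c.π.app i₂) (hσ i₂) ≫ θ = ((zModel D b hσ i₁).shift φ₂).g := by
        apply pullback.hom_ext
        · simp only [θ, Category.assoc, pullback.lift_fst, FPDescent.Model.shift, zModel]
          apply pullback.hom_ext
          · simp
          · simp only [Category.assoc, zMap_snd, zMap_snd_assoc]
            congr 1
            apply pullback.hom_ext <;> simp
        · simp only [θ, Category.assoc, pullback.lift_snd, FPDescent.Model.shift, zModel]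
          exact (isPullback_zMap D (c.π.app i₂) (hσ i₂)).w
      rw [← Category.assoc, hθ, F.w_g]
  -- invariance
  haveI := hM'
  let R := rModel D b hσ i₂
  obtain ⟨i₃, φ₃, heq⟩ := exists_eq_stage hc R M'.p (actMap D (b i₂) ≫ o')
    (pullback.fst (zStr D (b i₂)) (pullback.snd g (b i₂)) ≫ o')
    (by rw [Category.assoc, ho'p, actMap_zStr]; rfl) (by rw [Category.assoc, ho'p]; rfl) (by
      show rMap D (c.π.app i₂) (hσ i₂) ≫ actMap D (b i₂) ≫ o' =
        rMap D (c.π.app i₂) (hσ i₂) ≫ pullback.fst _ _ ≫ o'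
      rw [← Category.assoc, rMap_actMap, Category.assoc, ho'g, rMap_fst_assoc, ho'g, ← Category.assoc,
        hq.actMap_comp D, Category.assoc])
  have heq' : rMap D (T.map φ₃) (hb φ₃) ≫ actMap D (b i₂) ≫ o' =
      rMap D (T.map φ₃) (hb φ₃) ≫ pullback.fst _ _ ≫ o' := by
    let w : rObj D (b i₃) ⟶ pullback R.p (T.map φ₃) :=
      pullback.lift (rMap D (T.map φ₃) (hb φ₃)) (rStr D (b i₃)) (isPullback_rMap D _ _).w
    have hw : w ≫ pullback.fst R.p (T.map φ₃) = rMap D (T.map φ₃) (hb φ₃) := pullback.lift_fst _ _ _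
    rw [← hw, Category.assoc, Category.assoc]
    exact congrArg (w ≫ ·) heq
  -- stage three
  let M₃ := M'.shift φ₃
  haveI : Etale M₃.p := MorphismProperty.pullback_snd _ _ hM'
  let q₃ : zObj D (b i₃) ⟶ M₃.P :=
    pullback.lift (zMap D (T.map φ₃) (hb φ₃) ≫ o') (zStr D (b i₃)) (by
      rw [Category.assoc, ho'p]; exact (isPullback_zMap D _ _).w)
  have hq₃p : q₃ ≫ M₃.p = zStr D (b i₃) := pullback.lift_snd _ _ _
  have hinv : actMap D (b i₃) ≫ q₃ = pullback.fst _ _ ≫ q₃ := by
    apply pullback.hom_ext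
    · simp only [q₃, Category.assoc, pullback.lift_fst]
      rw [← Category.assoc, ← rMap_actMap, Category.assoc, heq', rMap_fst_assoc]
    · simp only [q₃, Category.assoc, pullback.lift_snd]
      exact actMap_zStr D _
  have hq₃g : zMap D (c.π.app i₃) (hσ i₃) ≫ q₃ = q ≫ M₃.g := by
    apply pullback.hom_ext
    · simp only [q₃, Category.assoc, pullback.lift_fst, M₃, FPDescent.Model.shift]
      rw [← ho'g, ← Category.assoc]
      congr 1
      apply pullback.hom_ext
      · simp
      · simp only [Category.assoc, zMap_snd, zMap_snd_assoc]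
        congr 1
        apply pullback.hom_ext <;> simp
    · simp only [q₃, Category.assoc, pullback.lift_snd, M₃, FPDescent.Model.shift,
        (isPullback_zMap D (c.π.app i₃) (hσ i₃)).w]
      exact ((Category.assoc _ _ _).symm.trans (congrArg (· ≫ c.π.app i₃) (hq.comp_hom D))).symm
  -- the comparison with the product
  let N : FPDescent.Model c (pullback.snd (pullback.snd g σ) U.hom ≫ U.hom) i₃ :=
    { P := pullback (pullback.snd g (b i₃)) M₃.p
      p := pullback.snd _ _ ≫ M₃.p
      lfp := inferInstance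
      qc := inferInstance
      qs := inferInstance
      g := pullback.lift (pullback.fst _ _ ≫ gMap (c.π.app i₃) (hσ i₃)) (pullback.snd _ _ ≫ M₃.g) (by
        rw [Category.assoc, gMap_snd, pullback.condition_assoc, Category.assoc, M₃.hpb.w])
      hpb := isPullback_prod (g := g) (hσ i₃) M₃.hpb _ (pullback.lift_fst _ _ _) (pullback.lift_snd _ _ _) }
  let w₀ : zObj D σ ⟶ pullback (pullback.snd g σ) U.hom := hq.sq.isoPullback.hom
  have hw₀1 : w₀ ≫ pullback.fst (pullback.snd g σ) U.hom = pullback.snd _ _ := hq.sq.isoPullback_hom_fst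
  have hw₀2 : w₀ ≫ pullback.snd (pullback.snd g σ) U.hom = q := hq.sq.isoPullback_hom_snd
  haveI : IsIso w₀ := (inferInstance : IsIso hq.sq.isoPullback.hom)
  have hw₀ : w₀ ≫ pullback.snd (pullback.snd g σ) U.hom ≫ U.hom = zStr D σ := by
    rw [reassoc_of% hw₀2, hq.comp_hom D]
  let G : FPDescent.Hom (zModel D b hσ i₃) N w₀ :=
    { o := pullback.lift (pullback.snd (str D) (pullback.fst g (b i₃))) q₃
        ((hq₃p).trans rfl).symm
      w_p := (pullback.lift_snd_assoc _ _ _ _).trans hq₃p
      w_g := by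
        apply pullback.hom_ext
        · simp only [N, zModel, Category.assoc, pullback.lift_fst, zMap_snd]
          rw [reassoc_of% hw₀1]
        · simp only [N, zModel, Category.assoc, pullback.lift_snd, hq₃g]
          rw [reassoc_of% hw₀2] }
  obtain ⟨l, χ, hiso⟩ := FPDescent.exists_isIso hc G hw₀
  -- the solution at stage l
  let q₄ : zObj D (b l) ⟶ pullback M₃.p (T.map χ) :=
    pullback.lift (zMap D (T.map χ) (hb χ) ≫ q₃) (zStr D (b l)) (by
      rw [Category.assoc, hq₃p]; exact (isPullback_zMap D _ _).w)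
  let V : Over (T.obj l) := Over.mk (pullback.snd M₃.p (T.map χ))
  refine ⟨l, V, MorphismProperty.pullback_snd _ _ ‹Etale M₃.p›, ?_⟩
  have hsol : IsSol (pullTo D (b l)) V q₄ := by
    refine IsSol.of_actMap D ?_ ?_
    · let m : pullback (pullback.snd g (b l)) (pullback.snd M₃.p (T.map χ)) ⟶ N.P :=
        pullback.lift (pullback.fst _ _ ≫ gMap (T.map χ) (hb χ)) (pullback.snd _ _ ≫ pullback.fst _ _) (by
          rw [Category.assoc, gMap_snd, pullback.condition_assoc, Category.assoc, pullback.condition])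
      have hm := isPullback_prod (g := g) (hb χ) (IsPullback.of_hasPullback M₃.p (T.map χ)) m
        (pullback.lift_fst _ _ _) (pullback.lift_snd _ _ _)
      let o₄ : zObj D (b l) ⟶ pullback (pullback.snd g (b l)) (pullback.snd M₃.p (T.map χ)) :=
        pullback.lift (pullback.snd (str D) (pullback.fst g (b l))) q₄ (pullback.lift_snd _ _ _).symm
      have hwp : G.o ≫ (pullback.snd (pullback.snd g (b i₃)) M₃.p ≫ M₃.p) = zStr D (b i₃) := G.w_p
      haveI : IsIso (pullback.map (zStr D (b i₃)) (T.map χ) (pullback.snd (pullback.snd g (b i₃)) M₃.p ≫ M₃.p)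
          (T.map χ) G.o (𝟙 _) (𝟙 _) (by rw [Category.comp_id, hwp]) (by simp)) := hiso
      haveI : IsIso o₄ := isIso_of_map (isPullback_zMap D (T.map χ) (hb χ)) hm G.o G.w_p o₄
        (by
          rw [← Category.assoc, pullback.lift_snd]
          exact pullback.lift_snd _ _ _)
        (by
          apply pullback.hom_ext
          · simp only [o₄, m, G, Category.assoc, pullback.lift_fst, pullback.lift_fst_assoc, zMap_snd]
          · simp only [o₄, m, G, q₄, Category.assoc, pullback.lift_snd, pullback.lift_snd_assoc,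
              pullback.lift_fst])
      exact (IsPullback.of_hasPullback _ _).of_iso (asIso o₄).symm (Iso.refl _) (Iso.refl _) (Iso.refl _)
        (by simp [o₄]) (by simp [o₄]) (by simp) (by simp [V])
    · apply pullback.hom_ext
      · simp only [q₄, Category.assoc, pullback.lift_fst]
        rw [← Category.assoc, ← rMap_actMap, Category.assoc, hinv, rMap_fst_assoc]
      · simp only [q₄, Category.assoc, pullback.lift_snd]
        exact actMap_zStr D _
  exact hsol.nonempty_iso

end Groth.Agent.H9Et.DescPts
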