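import Groth.Prelude.Def_EtBase
import Mathlib

/-!
# Sections of etale morphisms descend along universally submersive morphisms
-/

set_option autoImplicit false
set_option linter.style.haveILetI false
set_option backward.isDefEq.respectTransparency.types false

universe u

open CategoryTheory CategoryTheory.Limits AlgebraicGeometry

namespace Groth.Agent.H9Et

/-- An open immersion through which a surjection factors is an isomorphism. -/
theorem isIso_of_surjective_fac {A B C : Scheme.{u}} (e : B ⟶ C) [IsOpenImmersion e] (l : A ⟶ B) (a : A ⟶ C)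
    [Surjective a] (h : l ≫ e = a) : IsIso e := by
  haveI : Surjective e := ⟨fun c => by
    obtain ⟨x, hx⟩ := a.surjective c
    exact ⟨l.base x, by rw [← Scheme.Hom.comp_apply, h]; exact hx⟩⟩
  haveI : Epi e.base := (TopCat.epi_iff_surjective _).2 e.surjective
  exact IsOpenImmersion.isIso e

/-- Two morphisms to an etale scheme that agree after a surjection agree. -/
theorem eq_of_surjective {P X T T' : Scheme.{u}} (π : P ⟶ X) [Etale π] (a : T' ⟶ T) [Surjective a]
    (g₁ g₂ : T ⟶ P) (h : g₁ ≫ π = g₂ ≫ π) (ha : a ≫ g₁ = a ≫ g₂) : g₁ = g₂ := by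
  let d : T ⟶ pullback π π := pullback.lift g₁ g₂ h
  haveI : IsOpenImmersion (pullback.diagonal π) := inferInstance
  let e := pullback.fst d (pullback.diagonal π)
  let l : T' ⟶ pullback d (pullback.diagonal π) := pullback.lift a (a ≫ g₁) (by
    apply pullback.hom_ext <;>
      simp only [Category.assoc, d, pullback.diagonal_fst, pullback.diagonal_snd, pullback.lift_fst, pullback.lift_snd, Category.comp_id, ha])
  haveI : IsIso e := isIso_of_surjective_fac e l a (pullback.lift_fst _ _ _)
  have h1 : e ≫ g₁ = pullback.snd d (pullback.diagonal π) := by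
    have := congrArg (· ≫ pullback.fst π π) (pullback.condition (f := d) (g := pullback.diagonal π))
    rw [Category.assoc, Category.assoc, pullback.lift_fst, pullback.diagonal_fst, Category.comp_id] at this
    exact this
  have h2 : e ≫ g₂ = pullback.snd d (pullback.diagonal π) := by
    have := congrArg (· ≫ pullback.snd π π) (pullback.condition (f := d) (g := pullback.diagonal π))
    rw [Category.assoc, Category.assoc, pullback.lift_snd, pullback.diagonal_snd, Category.comp_id] at this
    exact this
  exact (cancel_epi e).1 (h1.trans h2.symm)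

/-- Sections of an etale morphism descend uniquely along universally submersive morphisms. -/
theorem existsUnique_section {P X X' : Scheme.{u}} (π : P ⟶ X) [Etale π] (gX : X' ⟶ X)
    (hg : MorphismProperty.universally (AlgebraicGeometry.topologically fun f => Topology.IsQuotientMap f) gX)
    (t : X' ⟶ P) (ht : t ≫ π = gX) (hc : pullback.fst gX gX ≫ t = pullback.snd gX gX ≫ t) :
    ∃! u : X ⟶ P, u ≫ π = 𝟙 X ∧ gX ≫ u = t := by
  haveI : Surjective gX :=
    ⟨(hg (𝟙 _) (𝟙 _) gX (IsPullback.of_vert_isIso ⟨by simp⟩) : Topology.IsQuotientMap _).surjective⟩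
  let Q := pullback π gX
  let q₁ : Q ⟶ P := pullback.fst π gX
  let q₂ : Q ⟶ X' := pullback.snd π gX
  have hq : Topology.IsQuotientMap q₁.base :=
    (hg q₂ π q₁ (IsPullback.of_hasPullback π gX) : Topology.IsQuotientMap _)
  let s : X' ⟶ Q := pullback.lift t (𝟙 X') (by rw [ht, Category.id_comp])
  haveI : Etale q₂ := inferInstance
  haveI : Etale (s ≫ q₂) := by simp only [s, q₂, pullback.lift_snd]; infer_instance
  haveI : Etale s := Etale.of_comp s q₂
  haveI : IsSplitMono s := ⟨⟨q₂, pullback.lift_snd _ _ _⟩⟩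
  haveI : IsOpenImmersion s := IsOpenImmersion.of_flat_of_mono s
  have hcc : ∀ {W : Scheme.{u}} (c d : W ⟶ X'), c ≫ gX = d ≫ gX → c ≫ t = d ≫ t := fun c d h => by
    have := congrArg (pullback.lift c d h ≫ ·) hc
    rwa [← Category.assoc, pullback.lift_fst, ← Category.assoc, pullback.lift_snd] at this
  have hsat : ∀ a b : Q, q₁.base a = q₁.base b → a ∈ Set.range s.base → b ∈ Set.range s.base := by
    rintro a b hab ⟨x, rfl⟩
    obtain ⟨w, hw1, hw2⟩ := Scheme.Pullback.exists_preimage_pullback (f := q₁) (g := q₁) (s.base x) b hab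
    obtain ⟨w', hw', hw''⟩ := Scheme.Pullback.exists_preimage_pullback (f := s) (g := pullback.fst q₁ q₁) x w hw1.symm
    let k := pullback.snd s (pullback.fst q₁ q₁) ≫ pullback.snd q₁ q₁
    let c := pullback.fst s (pullback.fst q₁ q₁)
    have hk : k ≫ q₁ = c ≫ t := by
      show (_ ≫ _) ≫ _ = _
      rw [Category.assoc, ← pullback.condition, ← pullback.condition_assoc]
      rw [pullback.lift_fst]
    have hcd : c ≫ gX = (k ≫ q₂) ≫ gX := by
      rw [Category.assoc, ← pullback.condition, reassoc_of% hk, ht]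
    have hks : k = (k ≫ q₂) ≫ s := pullback.hom_ext
      (by show k ≫ q₁ = ((k ≫ q₂) ≫ s) ≫ q₁; rw [Category.assoc (k ≫ q₂), pullback.lift_fst]; exact hk.trans (hcc _ _ hcd))
      (by show k ≫ q₂ = ((k ≫ q₂) ≫ s) ≫ q₂; rw [Category.assoc (k ≫ q₂), pullback.lift_snd, Category.comp_id])
    refine ⟨(k ≫ q₂).base w', ?_⟩
    rw [← Scheme.Hom.comp_apply, ← hks, Scheme.Hom.comp_apply, hw'', hw2]
  have hpre : q₁.base ⁻¹' (q₁.base '' Set.range s.base) = Set.range s.base :=
    Set.Subset.antisymm (fun b ⟨a, ha, hab⟩ => hsat a b hab ha) (Set.subset_preimage_image _ _)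
  let O : P.Opens := ⟨q₁.base '' Set.range s.base, by
    rw [← hq.isOpen_preimage, hpre]; exact s.isOpenEmbedding.isOpen_range⟩
  let m : (O : Scheme.{u}) ⟶ X := O.ι ≫ π
  haveI : Etale m := inferInstance
  haveI : Mono m := ⟨fun {T} g₁ g₂ e => by
    rw [← cancel_mono O.ι]
    refine eq_of_surjective π (pullback.fst (g₁ ≫ m) gX) _ _ (by simpa [m] using e) ?_
    have key : ∀ (g : T ⟶ (O : Scheme.{u})) (hg : g ≫ m = g₁ ≫ m),
        pullback.fst (g₁ ≫ m) gX ≫ g ≫ O.ι = pullback.snd (g₁ ≫ m) gX ≫ t := fun g hg => by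
      let k : pullback (g₁ ≫ m) gX ⟶ Q := pullback.lift (pullback.fst (g₁ ≫ m) gX ≫ g ≫ O.ι)
        (pullback.snd (g₁ ≫ m) gX) (by
          rw [Category.assoc, Category.assoc, ← pullback.condition]
          exact congrArg _ hg)
      have hr : Set.range k.base ⊆ Set.range s.base := by
        rintro _ ⟨z, rfl⟩
        rw [← hpre, Set.mem_preimage]
        rw [← Scheme.Hom.comp_apply, pullback.lift_fst, ← Category.assoc (pullback.fst (g₁ ≫ m) gX) g, Scheme.Hom.comp_apply]
        exact ((pullback.fst (g₁ ≫ m) gX ≫ g).base z).2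
      have hl := IsOpenImmersion.lift_fac s k hr
      have h2 : IsOpenImmersion.lift s k hr = pullback.snd (g₁ ≫ m) gX := by
        have := congrArg (· ≫ q₂) hl
        rw [Category.assoc, pullback.lift_snd, Category.comp_id, pullback.lift_snd] at this
        exact this
      have h1 := congrArg (· ≫ q₁) hl
      rw [h2] at h1
      rw [Category.assoc, pullback.lift_fst, pullback.lift_fst] at h1
      exact h1.symm
    rw [key g₁ rfl, key g₂ e.symm]⟩
  haveI : IsOpenImmersion m := IsOpenImmersion.of_flat_of_mono m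
  have hrt : Set.range t.base ⊆ Set.range O.ι.base := by
    rintro _ ⟨x, rfl⟩
    rw [Scheme.Opens.range_ι]
    exact ⟨s.base x, ⟨x, rfl⟩, by rw [← Scheme.Hom.comp_apply, pullback.lift_fst]⟩
  let l := IsOpenImmersion.lift O.ι t hrt
  have hl : l ≫ m = gX := by rw [IsOpenImmersion.lift_fac_assoc, ht]
  haveI : IsIso m := isIso_of_surjective_fac m l gX hl
  refine ⟨inv m ≫ O.ι, ⟨?_, ?_⟩, fun u hu => ?_⟩
  · rw [Category.assoc, IsIso.inv_hom_id]
  · rw [← hl, Category.assoc, IsIso.hom_inv_id_assoc, IsOpenImmersion.lift_fac]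
  · refine eq_of_surjective π gX _ _ (by rw [hu.1, Category.assoc, IsIso.inv_hom_id]) ?_
    rw [hu.2, ← hl, Category.assoc, IsIso.hom_inv_id_assoc, IsOpenImmersion.lift_fac]

/-- Morphisms to an etale scheme descend uniquely along universally submersive morphisms. -/
theorem existsUnique_hom {S S' X Y : Scheme.{u}} (g : S' ⟶ S)
    (hg : MorphismProperty.universally (AlgebraicGeometry.topologically fun f => Topology.IsQuotientMap f) g)
    (p : X ⟶ S) (q : Y ⟶ S) [Etale q] (t : pullback p g ⟶ Y)
    (ht : t ≫ q = pullback.fst p g ≫ p)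
    (hc : pullback.fst (pullback.fst p g) (pullback.fst p g) ≫ t =
      pullback.snd (pullback.fst p g) (pullback.fst p g) ≫ t) :
    ∃! u : X ⟶ Y, u ≫ q = p ∧ pullback.fst p g ≫ u = t := by
  have hgX : MorphismProperty.universally (AlgebraicGeometry.topologically fun f => Topology.IsQuotientMap f)
      (pullback.fst p g) :=
    MorphismProperty.of_isPullback (IsPullback.of_hasPullback p g).flip hg
  let t' : pullback p g ⟶ pullback p q := pullback.lift (pullback.fst p g) t ht.symm
  obtain ⟨u, ⟨hu1, hu2⟩, huniq⟩ := existsUnique_section (pullback.fst p q) (pullback.fst p g) hgX t'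
    (pullback.lift_fst _ _ _) (by
      apply pullback.hom_ext
      · simp only [Category.assoc, t', pullback.lift_fst, pullback.condition]
      · simp only [Category.assoc, t', pullback.lift_snd, hc])
  refine ⟨u ≫ pullback.snd p q, ⟨?_, ?_⟩, fun v hv => ?_⟩
  · rw [Category.assoc, ← pullback.condition, reassoc_of% hu1]
  · rw [reassoc_of% hu2, pullback.lift_snd]
  · have := huniq (pullback.lift (𝟙 X) v (by rw [Category.id_comp, hv.1])) ⟨pullback.lift_fst _ _ _, by
      apply pullback.hom_ext <;> simp only [Category.assoc, t', pullback.lift_fst, pullback.lift_snd, Category.comp_id, hv.2]⟩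
    rw [← this, pullback.lift_snd]

end Groth.Agent.H9Et
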