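import Groth.Agent.H9Et.EtaleDescentHom
import Groth.Agent.H9Et.GeomConnOfAlgClosed
import Groth.Agent.H18Et.PropAB
import Mathlib

/-!
# Morphisms to etale schemes after base change with geometrically connected fibres
-/

set_option autoImplicit false
set_option linter.style.haveILetI false
set_option backward.isDefEq.respectTransparency.types false

universe u

open CategoryTheory CategoryTheory.Limits AlgebraicGeometry

namespace Groth.Agent.H9Et

/-- Sections of an etale morphism over a field with a common point agree. -/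
theorem section_eq {F : Scheme.{u}} {Ω : Type u} [Field Ω] (π : F ⟶ Spec (CommRingCat.of Ω)) [Etale π]
    (s₁ s₂ : Spec (CommRingCat.of Ω) ⟶ F) (h₁ : s₁ ≫ π = 𝟙 _) (h₂ : s₂ ≫ π = 𝟙 _)
    (hp : s₁.base default = s₂.base default) : s₁ = s₂ := by
  haveI : Etale (s₁ ≫ π) := by rw [h₁]; infer_instance
  haveI : Etale s₁ := Etale.of_comp s₁ π
  haveI : IsSplitMono s₁ := ⟨⟨π, h₁⟩⟩
  haveI : IsOpenImmersion s₁ := IsOpenImmersion.of_flat_of_mono s₁
  have hr : Set.range s₂.base ⊆ Set.range s₁.base := by
    rintro _ ⟨a, rfl⟩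
    exact ⟨default, by rw [Subsingleton.elim a default]; exact hp⟩
  have hl := IsOpenImmersion.lift_fac s₁ s₂ hr
  have hl1 := congrArg (· ≫ π) hl
  simp only [Category.assoc, h₁, h₂, Category.comp_id] at hl1
  rw [hl1, Category.id_comp] at hl
  exact hl

/-- The two pullbacks of a morphism to an etale scheme agree when the fibres are geometrically connected. -/
theorem cocycle_of_geomConn {S S' X Y : Scheme.{u}} (g : S' ⟶ S)
    (hconn : ∀ (Ω : Type u) [Field Ω] [IsAlgClosed Ω] (s : Spec (CommRingCat.of Ω) ⟶ S),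
      ConnectedSpace ↥(pullback g s))
    (p : X ⟶ S) (q : Y ⟶ S) [Etale q] (t : pullback p g ⟶ Y) (ht : t ≫ q = pullback.fst p g ≫ p) :
    pullback.fst (pullback.fst p g) (pullback.fst p g) ≫ t =
      pullback.snd (pullback.fst p g) (pullback.fst p g) ≫ t := by
  let W := pullback (pullback.fst p g) (pullback.fst p g)
  let zb : ∀ z : W, Spec (CommRingCat.of (AlgebraicClosure (W.residueField z))) ⟶ W := fun z =>
    Spec.map (CommRingCat.ofHom (algebraMap (W.residueField z) _)) ≫ W.fromSpecResidueField z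
  have hzb : ∀ z, (zb z).base default = z := fun z =>
    (Scheme.Hom.comp_apply _ _ _).trans (W.fromSpecResidueField_apply _ _)
  haveI : Surjective (Limits.Sigma.desc zb) := ⟨fun z => ⟨(Limits.Sigma.ι (fun z => Spec (CommRingCat.of (AlgebraicClosure (W.residueField z)))) z).base default, by
    rw [← Scheme.Hom.comp_apply, Sigma.ι_desc]; exact hzb z⟩⟩
  refine eq_of_surjective q (Limits.Sigma.desc zb) _ _ (by
    rw [Category.assoc, Category.assoc, ht, pullback.condition_assoc]) (Sigma.hom_ext _ _ fun z => ?_)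
  rw [Sigma.ι_desc_assoc, Sigma.ι_desc_assoc]
  let Ω := AlgebraicClosure (W.residueField z)
  let r₁ := zb z ≫ pullback.fst (pullback.fst p g) (pullback.fst p g)
  let r₂ := zb z ≫ pullback.snd (pullback.fst p g) (pullback.fst p g)
  have hr : r₁ ≫ pullback.fst p g = r₂ ≫ pullback.fst p g := by
    show (zb z ≫ _) ≫ _ = (zb z ≫ _) ≫ _
    rw [Category.assoc (zb z), Category.assoc (zb z), pullback.condition]
  let x := r₁ ≫ pullback.fst p g
  haveI := hconn Ω (x ≫ p)
  let C := pullback g (x ≫ p)
  let j : C ⟶ pullback p g := pullback.lift (pullback.snd g (x ≫ p) ≫ x) (pullback.fst g (x ≫ p))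
    (by rw [Category.assoc, pullback.condition])
  let φ : C ⟶ pullback q (x ≫ p) := pullback.lift (j ≫ t) (pullback.snd g (x ≫ p)) (by
    rw [Category.assoc, ht, ← Category.assoc, pullback.lift_fst, Category.assoc])
  have key : ∀ r : Spec (CommRingCat.of Ω) ⟶ pullback p g, r ≫ pullback.fst p g = x →
      ∃ c : Spec (CommRingCat.of Ω) ⟶ C, c ≫ j = r ∧ c ≫ pullback.snd g (x ≫ p) = 𝟙 _ := fun r hrx => by
    refine ⟨pullback.lift (r ≫ pullback.snd p g) (𝟙 _)
      (by rw [Category.assoc, ← pullback.condition, ← Category.assoc, hrx, Category.id_comp]),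
      pullback.hom_ext ?_ ?_, pullback.lift_snd _ _ _⟩
    · rw [Category.assoc, pullback.lift_fst, ← Category.assoc, pullback.lift_snd, Category.id_comp, hrx]
    · rw [Category.assoc, pullback.lift_snd, pullback.lift_fst]
  obtain ⟨c₁, hc₁, hc₁'⟩ := key r₁ rfl
  obtain ⟨c₂, hc₂, hc₂'⟩ := key r₂ hr.symm
  let π := pullback.snd q (x ≫ p)
  haveI := Groth.Agent.H18Et.locallyQuasiFinite_of_etale π
  haveI : DiscreteTopology ↥(pullback q (x ≫ p)) := by
    have h := π.isDiscrete_preimage_singleton default
    rw [show π.base ⁻¹' {default} = Set.univ from Set.eq_univ_of_forall fun _ => Subsingleton.elim _ _] at h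
    exact isDiscrete_univ_iff.1 h
  have hpt : (c₁ ≫ φ).base default = (c₂ ≫ φ).base default := by
    rw [Scheme.Hom.comp_apply, Scheme.Hom.comp_apply]
    exact PreconnectedSpace.constant inferInstance φ.continuous
  have hπ : φ ≫ π = pullback.snd g (x ≫ p) := pullback.lift_snd _ _ _
  have := section_eq π (c₁ ≫ φ) (c₂ ≫ φ) (by rw [Category.assoc, hπ, hc₁']) (by rw [Category.assoc, hπ, hc₂']) hpt
  have h2 := congrArg (· ≫ pullback.fst q (x ≫ p)) this
  rw [Category.assoc c₁, Category.assoc c₂, pullback.lift_fst, ← Category.assoc c₁ j, hc₁, ← Category.assoc c₂ j, hc₂] at h2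
  simpa only [r₁, r₂, Category.assoc] using h2

end Groth.Agent.H9Et
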