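import Groth.Prelude.Def_SGA1
import Groth.Agent.H05EGA4.IntegralDim
import Groth.Agent.H06EGA9.CMAffineSpace
import Groth.Agent.H8Props.MiracleFlat
import Groth.Agent.H4Depth.Regular
import Mathlib

/-!
# Kummer algebras over regular local rings

`A[T₁,…,T_r]/(Tᵢ^{nᵢ} - fᵢ)` is finite, flat, local and regular when the `fᵢ` are part of a regular
system of parameters, and etale away from `f₁⋯f_r` when the `nᵢ` are invertible.
-/

set_option autoImplicit false
set_option linter.style.haveILetI false

universe u

open IsLocalRing MvPolynomial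

noncomputable section

namespace Groth.Agent.H9Et.Kummer

variable {A : Type u} [CommRing A] {r : ℕ} (f : Fin r → A) (n : Fin r → ℕ)

theorem add_pow_of_sq_eq_zero {C : Type*} [CommRing C] (x e : C) (he : e ^ 2 = 0) (m : ℕ) :
    (x + e) ^ (m + 1) = x ^ (m + 1) + (m + 1 : ℕ) * x ^ m * e := by
  induction m with
  | zero => simp
  | succ m ih =>
    rw [pow_succ (x + e), ih]
    push_cast
    linear_combination ((m + 1 : C) * x ^ m) * he

/-- The class of `Tᵢ`. -/
abbrev root (i : Fin r) : SGA1.kummerAlg A f n := Ideal.Quotient.mk _ (X i)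

theorem root_pow (i : Fin r) : root f n i ^ n i = algebraMap A (SGA1.kummerAlg A f n) (f i) := by
  rw [← map_pow, ← Ideal.Quotient.mk_algebraMap, Ideal.Quotient.eq]
  exact Ideal.subset_span ⟨i, rfl⟩

theorem algHom_ext {C : Type*} [CommRing C] [Algebra A C] {g g' : SGA1.kummerAlg A f n →ₐ[A] C}
    (h : ∀ i, g (root f n i) = g' (root f n i)) : g = g' :=
  Ideal.Quotient.algHom_ext A (MvPolynomial.algHom_ext fun i => h i)

theorem adjoin_root_eq_top : Algebra.adjoin A (Set.range (root f n)) = ⊤ := by
  refine top_le_iff.1 fun x _ => ?_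
  obtain ⟨p, rfl⟩ := Ideal.Quotient.mk_surjective x
  have h : (aeval (R := A) (root f n)) = Ideal.Quotient.mkₐ A _ := MvPolynomial.algHom_ext fun i => by simp
  rw [← Ideal.Quotient.mkₐ_eq_mk A, ← h]
  exact (Algebra.adjoin_range_eq_range_aeval A (root f n)).symm ▸ ⟨p, rfl⟩

variable {n} (hn : ∀ i, 1 ≤ n i)

include hn in
theorem finite : Module.Finite A (SGA1.kummerAlg A f n) := by
  refine ⟨?_⟩
  rw [← Algebra.top_toSubmodule, ← adjoin_root_eq_top f n]
  refine fg_adjoin_of_finite (Set.finite_range _) ?_
  rintro _ ⟨i, rfl⟩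
  refine IsIntegral.of_pow (hn i) ?_
  rw [root_pow]
  exact isIntegral_algebraMap

include hn in
theorem injective_algebraMap [IsDomain A] :
    Function.Injective (algebraMap A (SGA1.kummerAlg A f n)) := by
  let Ω := AlgebraicClosure (FractionRing A)
  have hroot : ∀ i, ∃ z : Ω, z ^ n i = algebraMap A Ω (f i) := fun i =>
    IsAlgClosed.exists_pow_nat_eq _ (hn i)
  choose z hz using hroot
  let φ : SGA1.kummerAlg A f n →ₐ[A] Ω := Ideal.Quotient.liftₐ _ (aeval z) (fun a ha => by
    refine (show Ideal.span _ ≤ RingHom.ker (aeval (R := A) z).toRingHom from ?_) ha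
    rw [Ideal.span_le]
    rintro _ ⟨i, rfl⟩
    simp [RingHom.mem_ker, hz])
  intro a b hab
  have h := congrArg φ hab
  rw [AlgHom.commutes, AlgHom.commutes] at h
  rw [IsScalarTower.algebraMap_eq A (FractionRing A) Ω] at h
  exact IsFractionRing.injective A (FractionRing A) ((algebraMap (FractionRing A) Ω).injective h)

section regular

variable [IsRegularLocalRing A] (hm : ∀ i, f i ∈ maximalIdeal A)

/-- The roots and the maximal ideal of the base generate the only maximal ideal. -/
def maxIdeal : Ideal (SGA1.kummerAlg A f n) :=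
  Ideal.span (Set.range (root f n)) ⊔ (maximalIdeal A).map (algebraMap A _)

include hm hn in
theorem isLocalRing : IsLocalRing (SGA1.kummerAlg A f n) ∧
    ∀ M : Ideal (SGA1.kummerAlg A f n), M.IsMaximal → M = maxIdeal f := by
  haveI := H4Depth.isDomain_of_isRegularLocalRing A
  haveI := finite f hn
  have hle : ∀ M : Ideal (SGA1.kummerAlg A f n), M.IsMaximal → maxIdeal f ≤ M := by
    intro M hM
    haveI := hM
    have hc : M.comap (algebraMap A _) = maximalIdeal A :=
      IsLocalRing.eq_maximalIdeal (Ideal.isMaximal_comap_of_isIntegral_of_isMaximal M)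
    refine sup_le (Ideal.span_le.2 ?_) (Ideal.map_le_iff_le_comap.2 hc.ge)
    rintro _ ⟨i, rfl⟩
    refine hM.isPrime.mem_of_pow_mem (n i) ?_
    rw [root_pow]
    exact hc.ge (hm i)
  have hmax : maxIdeal (n := n) f ≠ ⊤ → (maxIdeal (n := n) f).IsMaximal := by
    intro hne
    have hscal : ∀ z : SGA1.kummerAlg A f n, ∃ a : A, z - algebraMap A _ a ∈ maxIdeal f := by
      intro z
      have : z ∈ Algebra.adjoin A (Set.range (root f n)) := by rw [adjoin_root_eq_top]; trivial
      induction this using Algebra.adjoin_induction with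
      | mem y hy => exact ⟨0, by rw [map_zero, sub_zero]; exact Submodule.mem_sup_left (Ideal.subset_span hy)⟩
      | algebraMap c => exact ⟨c, by simp⟩
      | add y z _ _ hy hz =>
        obtain ⟨c, hc⟩ := hy
        obtain ⟨d, hd⟩ := hz
        exact ⟨c + d, by rw [map_add, add_sub_add_comm]; exact Ideal.add_mem _ hc hd⟩
      | mul y z _ _ hy hz =>
        obtain ⟨c, hc⟩ := hy
        obtain ⟨d, hd⟩ := hz
        refine ⟨c * d, ?_⟩
        rw [map_mul, show y * z - algebraMap A _ c * algebraMap A _ d =
          y * (z - algebraMap A _ d) + (y - algebraMap A _ c) * algebraMap A _ d by ring]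
        exact Ideal.add_mem _ (Ideal.mul_mem_left _ _ hd) (Ideal.mul_mem_right _ _ hc)
    refine Ideal.isMaximal_iff.2 ⟨fun h => hne ((Ideal.eq_top_iff_one _).2 h), fun J x hJ hx hxJ => ?_⟩
    -- every element is a scalar modulo the maximal ideal
    obtain ⟨a, ha⟩ := hscal x
    have haJ : algebraMap A _ a ∈ J := by
      rw [show algebraMap A _ a = x - (x - algebraMap A _ a) by ring]
      exact J.sub_mem hxJ (hJ ha)
    have hau : IsUnit a := by
      by_contra hau
      exact hx (by
        rw [show x = (x - algebraMap A _ a) + algebraMap A _ a by ring]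
        exact Ideal.add_mem _ ha (Submodule.mem_sup_right (Ideal.mem_map_of_mem _ hau)))
    exact (Ideal.eq_top_iff_one J).1 (Ideal.eq_top_of_isUnit_mem J haJ (hau.map _))
  haveI : Nontrivial (SGA1.kummerAlg A f n) := (injective_algebraMap f hn).nontrivial
  obtain ⟨M, hM⟩ := Ideal.exists_maximal (SGA1.kummerAlg A f n)
  have hne : maxIdeal (n := n) f ≠ ⊤ := fun h => hM.ne_top (top_le_iff.1 (h ▸ hle M hM))
  have hall : ∀ M : Ideal (SGA1.kummerAlg A f n), M.IsMaximal → M = maxIdeal f := fun M hM =>
    ((hmax hne).eq_of_le hM.ne_top (hle M hM)).symm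
  exact ⟨IsLocalRing.of_unique_max_ideal ⟨_, hmax hne, hall⟩, hall⟩

include hm hn in
theorem isRegularLocalRing
    (hf : LinearIndependent (ResidueField A) (fun i => (maximalIdeal A).toCotangent ⟨f i, hm i⟩)) :
    IsRegularLocalRing (SGA1.kummerAlg A f n) := by
  classical
  haveI := H4Depth.isDomain_of_isRegularLocalRing A
  haveI := finite f hn
  obtain ⟨hloc, hall⟩ := isLocalRing f hn hm
  haveI := hloc
  haveI : IsNoetherianRing (SGA1.kummerAlg A f n) := IsNoetherianRing.of_finite A _
  -- complete the parameters
  let k := ResidueField A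
  let vv : Fin r → CotangentSpace A := fun i => (maximalIdeal A).toCotangent ⟨f i, hm i⟩
  obtain ⟨C, hC⟩ := Submodule.exists_isCompl (Submodule.span k (Set.range vv))
  let b := Module.finBasis k C
  choose g hg using fun j => Ideal.toCotangent_surjective (maximalIdeal A) ((b j : C) : CotangentSpace A)
  have hspan : maximalIdeal A = Ideal.span (Set.range f ∪ Set.range fun j => (g j : A)) := by
    have htop : Submodule.span k ((maximalIdeal A).toCotangent ''
        (Set.range (fun i => (⟨f i, hm i⟩ : maximalIdeal A)) ∪ Set.range g)) = ⊤ := by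
      rw [Set.image_union, ← Set.range_comp, ← Set.range_comp, Submodule.span_union]
      refine top_le_iff.1 (hC.sup_eq_top.ge.trans (sup_le_sup le_rfl ?_))
      rw [show ((maximalIdeal A).toCotangent ∘ g) = fun j => ((b j : C) : CotangentSpace A) from funext hg]
      exact le_of_eq (by
        rw [show (fun j => ((b j : C) : CotangentSpace A)) = C.subtype ∘ b from rfl, Set.range_comp,
          ← Submodule.map_span, b.span_eq, Submodule.map_subtype_top])
    have h := congrArg (Submodule.map (maximalIdeal A).subtype) (CotangentSpace.span_image_eq_top_iff.1 htop)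
    rw [Submodule.map_subtype_top, Submodule.map_span, Set.image_union, ← Set.range_comp, ← Set.range_comp] at h
    exact h.symm
  -- generators upstairs
  let G : Fin r ⊕ Fin (Module.finrank k C) → SGA1.kummerAlg A f n :=
    Sum.elim (root f n) fun j => algebraMap A _ (g j : A)
  have hG : maximalIdeal (SGA1.kummerAlg A f n) ≤ Ideal.span (Set.range G) := by
    rw [hall (maximalIdeal _) inferInstance, maxIdeal, Set.Sum.elim_range]
    refine sup_le (Ideal.span_mono Set.subset_union_left) ?_
    refine le_of_eq_of_le (congrArg (Ideal.map _) hspan) ?_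
    rw [Ideal.map_span, Ideal.span_le, Set.image_union, Set.union_subset_iff]
    refine ⟨?_, ?_⟩
    · rintro _ ⟨_, ⟨i, rfl⟩, rfl⟩
      rw [← root_pow (n := n)]
      refine Ideal.pow_mem_of_mem _ (Ideal.subset_span ?_) _ (hn i)
      exact Or.inl ⟨i, rfl⟩
    · rintro _ ⟨_, ⟨j, rfl⟩, rfl⟩
      exact Ideal.subset_span (Or.inr ⟨j, rfl⟩)
  have hG' : Ideal.span (Set.range G) ≤ maximalIdeal (SGA1.kummerAlg A f n) := by
    rw [hall (maximalIdeal _) inferInstance, maxIdeal, Ideal.span_le]
    rintro _ ⟨i | j, rfl⟩
    · exact Submodule.mem_sup_left (Ideal.subset_span ⟨i, rfl⟩)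
    · exact Submodule.mem_sup_right (Ideal.mem_map_of_mem _ (g j).2)
  have hdim : ringKrullDim (SGA1.kummerAlg A f n) = ringKrullDim A :=
    (H05EGA4.dim_int A _).2 (injective_algebraMap f hn)
  refine IsRegularLocalRing.of_spanFinrank_maximalIdeal_le _ ?_
  rw [hdim, ← (IsRegularLocalRing.iff_finrank_cotangentSpace A).1 ‹_›, Nat.cast_le,
    le_antisymm hG hG']
  calc (Submodule.span _ (Set.range G)).spanFinrank ≤ (Set.range G).ncard :=
        Submodule.spanFinrank_span_le_ncard_of_finite (Set.finite_range G)
    _ ≤ r + Module.finrank k C := by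
        rw [← Nat.card_coe_set_eq]
        exact (Finite.card_range_le G).trans (by simp)
    _ ≤ Module.finrank k (CotangentSpace A) := le_of_eq (by
        rw [← Submodule.finrank_add_eq_of_isCompl hC, finrank_span_eq_card hf, Fintype.card_fin])

include hm hn in
theorem flat (hf : LinearIndependent (ResidueField A) (fun i => (maximalIdeal A).toCotangent ⟨f i, hm i⟩)) :
    Module.Flat A (SGA1.kummerAlg A f n) := by
  haveI := H4Depth.isDomain_of_isRegularLocalRing A
  haveI := finite f hn
  haveI := isRegularLocalRing f hn hm hf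
  haveI := H06EGA9.isCohenMacaulayLocalRing_of_isRegularLocalRing (SGA1.kummerAlg A f n)
  haveI : IsLocalHom (algebraMap A (SGA1.kummerAlg A f n)) :=
    haveI : FaithfulSMul A (SGA1.kummerAlg A f n) := (faithfulSMul_iff_algebraMap_injective _ _).2 (injective_algebraMap f hn)
    Algebra.IsIntegral.isLocalHom A _
  refine H8Props.MiracleFlat.flat_of_regular_of_cohenMacaulay A _ ?_
  rw [(H05EGA4.dim_int A (SGA1.kummerAlg A f n)).2 (injective_algebraMap f hn)]
  let m := maximalIdeal A
  have h0 : ringKrullDim (SGA1.kummerAlg A f n ⧸ m.map (algebraMap A (SGA1.kummerAlg A f n))) ≤ 0 := by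
    letI : Field (A ⧸ m) := Ideal.Quotient.field m
    exact ((H05EGA4.dim_int (A ⧸ m) (SGA1.kummerAlg A f n ⧸ m.map (algebraMap A (SGA1.kummerAlg A f n)))).1).trans
      (le_of_eq (ringKrullDim_eq_zero_of_field _))
  calc _ ≤ ringKrullDim A + 0 := add_le_add le_rfl h0
    _ = _ := add_zero _

include hm hn in
theorem etale_away (hf : LinearIndependent (ResidueField A) (fun i => (maximalIdeal A).toCotangent ⟨f i, hm i⟩))
    (hu : ∀ i, IsUnit ((n i : ℕ) : ResidueField A)) :
    letI := (Localization.awayMap (algebraMap A (SGA1.kummerAlg A f n)) (∏ i, f i)).toAlgebra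
    Algebra.Etale (Localization.Away (∏ i, f i))
      (Localization.Away (algebraMap A (SGA1.kummerAlg A f n) (∏ i, f i))) := by
  haveI := finite f hn
  haveI := flat f hn hm hf
  let B := SGA1.kummerAlg A f n
  let s := ∏ i, f i
  let As := Localization.Away s
  let Bs := Localization.Away (algebraMap A B s)
  letI : Algebra As Bs := (Localization.awayMap (algebraMap A B) s).toAlgebra
  haveI : IsScalarTower A As Bs := IsScalarTower.of_algebraMap_eq fun a => by
    rw [RingHom.algebraMap_toAlgebra, Localization.awayMap, IsLocalization.Away.map, IsLocalization.map_eq,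
      IsScalarTower.algebraMap_apply A B Bs]
  haveI : Algebra.FinitePresentation A B := by
    haveI : IsNoetherianRing A := inferInstance
    exact Algebra.FinitePresentation.of_finiteType.1 inferInstance
  haveI : Algebra.FinitePresentation B Bs := IsLocalization.Away.finitePresentation (algebraMap A B s)
  haveI : Algebra.FinitePresentation A Bs := Algebra.FinitePresentation.trans A B Bs
  haveI : Algebra.FinitePresentation As Bs := Algebra.FinitePresentation.of_restrict_scalars_finitePresentation A As Bs
  haveI : Module.Flat A Bs := Module.Flat.trans A B Bs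
  haveI : Module.Flat As Bs := (Module.flat_iff_of_isLocalization As (Submonoid.powers s) Bs).2 inferInstance
  haveI : Algebra.FormallyUnramified A Bs := by
    rw [Algebra.FormallyUnramified.iff_comp_injective]
    intro C _ _ I hI g₁ g₂ h
    let ι : B →ₐ[A] Bs := IsScalarTower.toAlgHom A B Bs
    have key : g₁.comp ι = g₂.comp ι := algHom_ext f n fun i => by
      let x := g₁ (ι (root f n i))
      let e := g₂ (ι (root f n i)) - x
      have he : e ∈ I := Ideal.Quotient.eq.1 (AlgHom.congr_fun h (ι (root f n i))).symm
      have he2 : e ^ 2 = 0 := by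
        rw [← Ideal.mem_bot, ← hI]
        exact Ideal.pow_mem_pow he 2
      have hpow : (x + e) ^ n i = x ^ n i := by
        rw [show x + e = g₂ (ι (root f n i)) by simp [e]]
        simp only [x]
        rw [← map_pow g₂, ← map_pow g₁, ← map_pow ι, root_pow, AlgHom.commutes, AlgHom.commutes, AlgHom.commutes]
      have hbin : (x + e) ^ n i = x ^ n i + n i * x ^ (n i - 1) * e := by
        obtain ⟨m', hm'⟩ : ∃ m', n i = m' + 1 := ⟨n i - 1, by have := hn i; omega⟩
        rw [hm', Nat.add_sub_cancel]
        exact add_pow_of_sq_eq_zero x e he2 m'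
      have hxu : IsUnit x := by
        refine IsUnit.map g₁ ?_
        have h1 : IsUnit (ι (algebraMap A B s)) := IsLocalization.Away.algebraMap_isUnit (algebraMap A B s)
        refine (isUnit_pow_iff (show n i ≠ 0 from fun h0 => by have := hn i; omega)).1 ?_
        rw [← map_pow, root_pow]
        exact isUnit_of_dvd_unit (map_dvd ι (map_dvd _ (Finset.dvd_prod_of_mem f (Finset.mem_univ i)))) h1
      have hnu : IsUnit ((n i : ℕ) : C) := by
        have h1 : IsUnit ((n i : ℕ) : A) := by
          rw [← residue_ne_zero_iff_isUnit, map_natCast]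
          exact (hu i).ne_zero
        simpa using h1.map (algebraMap A C)
      have he0 : e = 0 := by
        rw [hpow] at hbin
        exact (hnu.mul (hxu.pow _)).mul_right_eq_zero.1 (by simpa using hbin.symm)
      show x = g₂ (ι (root f n i))
      exact (sub_eq_zero.1 he0).symm
    exact IsLocalization.algHom_ext (Submonoid.powers (algebraMap A B s)) key
  haveI : Algebra.FormallyUnramified As Bs := Algebra.FormallyUnramified.of_restrictScalars A As Bs
  exact Algebra.Etale.of_formallyUnramified_of_flat

end regular

end Groth.Agent.H9Et.Kummer
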