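import Groth.Agent.H18Torsor.Glue
import Groth.Prelude.Def_NonAbH2
import Mathlib

/-!
# The exact cohomology sequence of commutative affine group schemes at `H¹`

Pointwise proofs: morphisms out of the torsor or of the base are glued from small test objects.
-/

set_option autoImplicit false
set_option linter.style.haveILetI false
set_option backward.isDefEq.respectTransparency false
set_option backward.isDefEq.respectTransparency.types false

universe u

open CategoryTheory MonoidalCategory CartesianMonoidalCategory AlgebraicGeometry Limits MonObj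

noncomputable section

namespace Groth.Agent.H9Et.TorsorExact

open H18Torsor

variable {S : Scheme.{u}} {G G' G'' : Over S} [GrpObj G] [GrpObj G'] [GrpObj G'']
  {u : G' ⟶ G} {v : G ⟶ G''}

/-- The kernel of `v` is the image of `u`. -/
theorem existsUnique_ker {K : Precoverage Scheme.{u}} (hex : NonAbH1.IsExactSeq K u v) {W : Over S}
    (g : W ⟶ G) (hg : g ≫ v = 1) : ∃! g', g' ≫ u = g := by
  obtain ⟨_, _, -, hp, -⟩ := hex
  have hmul : ∀ {T : Over S} (p : T ⟶ G ⊗ G'),
      p ≫ ((G ◁ u) ≫ μ[G]) = (p ≫ fst _ _) * ((p ≫ snd _ _) ≫ u) := fun {T} p => by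
    rw [Hom.mul_def, ← lift_whiskerLeft, ← comp_lift, lift_fst_snd, Category.comp_id, Category.assoc]
  have w : (1 : W ⟶ G) ≫ v = g ≫ v := by rw [MonObj.one_comp, hg]
  refine ⟨hp.lift 1 g w ≫ snd G G', ?_, fun g' hg' => ?_⟩
  · have h2 := hp.lift_snd 1 g w
    rw [hmul, hp.lift_fst, _root_.one_mul] at h2
    exact h2
  · have e : lift (1 : W ⟶ G) g' = hp.lift 1 g w := by
      apply hp.hom_ext
      · rw [hp.lift_fst, lift_fst]
      · rw [hp.lift_snd, hmul, lift_fst, lift_snd, hg', _root_.one_mul]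
    rw [← e, lift_snd]

/-- A small test object has a point of a torsor. -/
theorem exists_point {R : Presieve S} {X : Over S}
    (hsec : ∀ ⦃S' : Scheme.{u}⦄ (f : S' ⟶ S), R f → NonAbH1.HasSectionOver X f)
    (W : Over S) (hW : IsSmall R W.hom) : Nonempty (W ⟶ X) := by
  obtain ⟨S', h, f, hf, hh⟩ := hW
  obtain ⟨s, hs⟩ := hsec f hf
  exact ⟨Over.homMk (h ≫ s) (by rw [Category.assoc, hs, hh])⟩

/-- Morphisms over `S` glue from small test objects. -/
theorem existsUnique_glue_over {R : Presieve S} (hR : R ∈ Scheme.fpqcPrecoverage S) {Y Z : Over S}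
    (F : ∀ (W : Over S), (W ⟶ Y) → IsSmall R W.hom → (W ⟶ Z))
    (hF : ∀ (W W' : Over S) (k : W' ⟶ W) (w : W ⟶ Y) (h : IsSmall R W.hom) (h' : IsSmall R W'.hom),
      F W' (k ≫ w) h' = k ≫ F W w h) :
    ∃! m : Y ⟶ Z, ∀ (W : Over S) (w : W ⟶ Y) (h : IsSmall R W.hom), w ≫ m = F W w h := by
  let F' : ∀ {W : Scheme.{u}} (w : W ⟶ Y.left), IsSmall R (w ≫ Y.hom) → (W ⟶ Z.left) :=
    fun {W} w h => (F (Over.mk (w ≫ Y.hom)) (Over.homMk w rfl) h).left
  have hF' : ∀ {W W' : Scheme.{u}} (k : W' ⟶ W) (w : W ⟶ Y.left) (h : IsSmall R (w ≫ Y.hom))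
      (h' : IsSmall R ((k ≫ w) ≫ Y.hom)), F' (k ≫ w) h' = k ≫ F' w h := fun {W W'} k w h h' => by
    let k' : Over.mk ((k ≫ w) ≫ Y.hom) ⟶ Over.mk (w ≫ Y.hom) := Over.homMk k (Category.assoc _ _ _).symm
    have := hF (Over.mk (w ≫ Y.hom)) (Over.mk ((k ≫ w) ≫ Y.hom)) k' (Over.homMk w rfl) h h'
    exact congrArg CommaMorphism.left this
  obtain ⟨m, hm, huniq⟩ := H18Torsor.existsUnique_glue R hR Y.hom F' hF'
  have hmz : m ≫ Z.hom = Y.hom := by
    obtain ⟨m', -, huniq'⟩ := H18Torsor.existsUnique_glue R hR (Z := S) Y.hom (fun w _ => w ≫ Y.hom)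
      (fun k w _ _ => Category.assoc _ _ _)
    refine (huniq' _ fun w h => ?_).trans (huniq' _ fun w _ => rfl).symm
    rw [← Category.assoc, hm w h]
    exact Over.w (F (Over.mk (w ≫ Y.hom)) (Over.homMk w rfl) h)
  have hFF : ∀ (W : Over S) (w : W ⟶ Y) (h : IsSmall R W.hom) (h' : IsSmall R (w.left ≫ Y.hom)),
      (F W w h).left = F' w.left h' := fun W w h h' => by
    let k : W ⟶ Over.mk (w.left ≫ Y.hom) := Over.homMk (𝟙 _) (by simp)
    have := hF _ _ k (Over.homMk w.left rfl) h' h
    rw [show k ≫ Over.homMk w.left rfl = w from Over.OverMorphism.ext (Category.id_comp _)] at this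
    exact (congrArg CommaMorphism.left this).trans (Category.id_comp _)
  have hsm : ∀ {W : Over S} (w : W ⟶ Y), IsSmall R W.hom → IsSmall R (w.left ≫ Y.hom) := fun w h => by
    rwa [Over.w w]
  refine ⟨Over.homMk m hmz, fun W w h => Over.OverMorphism.ext ?_, fun m' hm' => Over.OverMorphism.ext ?_⟩
  · exact (hm w.left (hsm w h)).trans (hFF W w h (hsm w h)).symm
  · exact huniq _ fun w h => congrArg CommaMorphism.left (hm' (Over.mk (w ≫ Y.hom)) (Over.homMk w rfl) h)

/-- Morphisms over `S` equal on small test objects are equal. -/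
theorem eq_of_small {R : Presieve S} (hR : R ∈ Scheme.fpqcPrecoverage S) {Y Z : Over S} (m m' : Y ⟶ Z)
    (h : ∀ (W : Over S) (w : W ⟶ Y), IsSmall R W.hom → w ≫ m = w ≫ m') : m = m' :=
  (existsUnique_glue_over hR (fun W w _ => w ≫ m) (fun _ _ k w _ _ => Category.assoc _ _ _)).unique
    (fun _ _ _ => rfl) (fun W w hw => (h W w hw).symm)

/-- Equivariance on points. -/
theorem smul_comp {X X' : Over S} {φ : G ⟶ G'} {a : AlgGrp.Action G X} {a' : AlgGrp.Action G' X'} {f : X ⟶ X'}
    (hf : a.act ≫ f = lift (fst G X ≫ φ) (snd G X ≫ f) ≫ a'.act) {W : Over S} (g : W ⟶ G) (x : W ⟶ X) :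
    smul a g x ≫ f = smul a' (g ≫ φ) (x ≫ f) := by
  rw [smul, Category.assoc, hf, ← Category.assoc, comp_lift]
  simp [smul]

theorem smul_trivial {W : Over S} (g x : W ⟶ G) : smul (NonAbH1.trivialAction G) g x = g * x :=
  Hom.mul_def g x ▸ rfl

section

variable [IsCommMonObj G]

/-- Triviality of a pushforward is being a pullback of a section. -/
theorem push_trivial_iff_isPullback (hex : NonAbH1.IsExactSeq Scheme.fpqcPrecoverage u v)
    (Q : NonAbH1.TorsorSch G' Scheme.fpqcPrecoverage) :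
    NonAbH1.IsPushforwardAlongSch u Q.act (NonAbH1.trivialAction G) ↔
      ∃ (f : 𝟙_ (Over S) ⟶ G'') (i : Q.X ⟶ G), NonAbH1.IsPullbackTorsor u v f i Q.act := by
  have hu : IsMonHom u := hex.1
  have hv : IsMonHom v := hex.2.1
  constructor
  · rintro ⟨φ, hφ⟩
    obtain ⟨hps, R, hR, hsec⟩ := Q.isTorsor
    have hsm : ∀ {W : Over S} (g' : W ⟶ G') (q : W ⟶ Q.X), smul Q.act g' q ≫ φ = (g' ≫ u) * (q ≫ φ) := by
      intro W g' q
      rw [smul_comp hφ, smul_trivial]
    let i : Q.X ⟶ G := φ⁻¹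
    have hi : ∀ {W : Over S} (g' : W ⟶ G') (q : W ⟶ Q.X), smul Q.act g' q ≫ i = (q ≫ i) * (g' ≫ u)⁻¹ := by
      intro W g' q
      simp only [i, GrpObj.comp_inv, hsm, _root_.mul_inv_rev]
    have huv : ∀ {W : Over S} (g' : W ⟶ G'), (g' ≫ u) ≫ v = 1 := fun g' => by
      rw [Category.assoc, hex.2.2.1, MonObj.comp_one]
    have hinv : ∀ {W : Over S} (q q' : W ⟶ Q.X), q' ≫ i ≫ v = q ≫ i ≫ v := by
      intro W q q'
      obtain ⟨g', hg', -⟩ := existsUnique_smul Q.act hps q q'
      rw [← hg', ← Category.assoc, hi, MonObj.mul_comp, GrpObj.inv_comp, huv, inv_one, _root_.mul_one,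
        Category.assoc]
    let pt : ∀ W : Over S, IsSmall R W.hom → (W ⟶ Q.X) := fun W hW => (exists_point hsec W hW).some
    obtain ⟨f, hf, -⟩ := existsUnique_glue_over hR (Y := 𝟙_ (Over S)) (Z := G'')
      (fun W _ hW => (pt W hW) ≫ i ≫ v) (fun W W' k _ h h' => by
        rw [hinv (k ≫ pt W h) (pt W' h'), Category.assoc])
    have hw : i ≫ v = toUnit Q.X ≫ f := eq_of_small hR _ _ fun W q hW => by
      rw [← Category.assoc q (toUnit _), comp_toUnit, hf W _ hW]
      exact hinv _ _
    refine ⟨f, i, hu, hv, ?_, fun T g' p => by rw [← Category.assoc]; exact hi g' p⟩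
    let c : Q.X ⟶ pullback v f := pullback.lift i (toUnit _) hw
    haveI : IsIso c := by
      refine H18Torsor.isIso_of_bijective R hR c fun W hW => ⟨fun q q' h => ?_, fun x => ?_⟩
      · obtain ⟨g', hg', -⟩ := existsUnique_smul Q.act hps q q'
        have h' := congrArg (· ≫ pullback.fst v f) h
        simp only [c, Category.assoc, pullback.lift_fst] at h'
        rw [← hg', hi] at h'
        have : g' ≫ u = (1 : W ⟶ G') ≫ u := by
          rw [MonObj.one_comp, ← inv_eq_one]
          exact (_root_.mul_eq_left).1 h'.symm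
        obtain rfl := (existsUnique_ker hex _ (huv g')).unique rfl this.symm
        rw [← hg', one_smul_pt]
      · let q := pt W hW
        obtain ⟨g', hg', -⟩ := existsUnique_ker hex ((q ≫ i)⁻¹ * (x ≫ pullback.fst v f)) (by
          rw [MonObj.mul_comp, GrpObj.inv_comp, Category.assoc, Category.assoc, hw, pullback.condition,
            ← Category.assoc q, comp_toUnit, ← Category.assoc x, toUnit_unique (x ≫ pullback.snd v f) (toUnit W),
            inv_mul_cancel])
        refine ⟨smul Q.act g'⁻¹ q, ?_⟩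
        apply pullback.hom_ext
        · simp only [c, Category.assoc, pullback.lift_fst]
          rw [hi, GrpObj.inv_comp, inv_inv, hg', mul_inv_cancel_left]
        · exact toUnit_unique _ _
    exact (IsPullback.of_hasPullback v f).of_iso (asIso c).symm (Iso.refl _) (Iso.refl _) (Iso.refl _)
      (by simp [c]) (toUnit_unique _ _) (by simp) (by simp)
  · rintro ⟨f, i, -, -, -, hi⟩
    refine ⟨i⁻¹, ?_⟩
    have h := hi (G' ⊗ Q.X) (fst _ _) (snd _ _)
    rw [lift_fst_snd, Category.id_comp] at h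
    rw [GrpObj.comp_inv, h, _root_.mul_inv_rev, inv_inv, ← smul, smul_trivial, GrpObj.comp_inv]

end

section

variable [IsCommMonObj G']

/-- Pushforwards along `v` are trivial exactly for torsors coming from the kernel. -/
theorem push_trivial_iff_exists_push (hex : NonAbH1.IsExactSeq Scheme.fpqcPrecoverage u v)
    (P : NonAbH1.TorsorSch G Scheme.fpqcPrecoverage) :
    NonAbH1.IsPushforwardAlongSch v P.act (NonAbH1.trivialAction G'') ↔
      ∃ Q : NonAbH1.TorsorSch G' Scheme.fpqcPrecoverage, NonAbH1.IsPushforwardAlongSch u Q.act P.act := by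
  have hu : IsMonHom u := hex.1
  have hv : IsMonHom v := hex.2.1
  have huv : ∀ {W : Over S} (g' : W ⟶ G'), (g' ≫ u) ≫ v = 1 := fun g' => by
    rw [Category.assoc, hex.2.2.1, MonObj.comp_one]
  constructor
  · rintro ⟨ψ, hψ⟩
    obtain ⟨hps, R, hR, hsec⟩ := P.isTorsor
    have hsm : ∀ {W : Over S} (g : W ⟶ G) (p : W ⟶ P.X), smul P.act g p ≫ ψ = (g ≫ v) * (p ≫ ψ) := by
      intro W g p
      rw [smul_comp hψ, smul_trivial]
    let one : 𝟙_ (Over S) ⟶ G'' := 1
    let Z := pullback ψ one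
    let jj : Z ⟶ P.X := pullback.fst ψ one
    have hιψ : ∀ {W : Over S} (z : W ⟶ Z), (z ≫ jj) ≫ ψ = 1 := fun z => by
      rw [Category.assoc, pullback.condition, ← Category.assoc, MonObj.comp_one]
    have hext : ∀ {W : Over S} (z z' : W ⟶ Z), z ≫ jj = z' ≫ jj → z = z' := fun z z' h =>
      pullback.hom_ext h (toUnit_unique _ _)
    have hmk : ∀ {W : Over S} (p : W ⟶ P.X), p ≫ ψ = 1 → ∃ z : W ⟶ Z, z ≫ jj = p := fun p hp =>
      ⟨pullback.lift p (toUnit _) (by rw [hp, MonObj.comp_one]), pullback.lift_fst _ _ _⟩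
    obtain ⟨act, hact⟩ := hmk (smul P.act (fst G' Z ≫ u) (snd G' Z ≫ jj)) (by
      rw [hsm, huv, _root_.one_mul, hιψ])
    have hpt : ∀ {W : Over S} (g' : W ⟶ G') (z : W ⟶ Z),
        (lift g' z ≫ act) ≫ jj = smul P.act (g' ≫ u) (z ≫ jj) := fun g' z => by
      rw [Category.assoc, hact, comp_smul, lift_fst_assoc, lift_snd_assoc]
    let a : AlgGrp.Action G' Z :=
      { act := act
        one_act := by
          apply hext
          rw [show η[G'] ▷ Z = lift ((1 : 𝟙_ (Over S) ⊗ Z ⟶ G')) (snd _ _) by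
            apply CartesianMonoidalCategory.hom_ext
            · simp only [whiskerRight_fst, lift_fst, Hom.one_def]
              exact congrArg (· ≫ _) (toUnit_unique _ _)
            · simp, hpt, MonObj.one_comp, one_smul_pt, leftUnitor_hom]
        mul_act := by
          apply hext
          rw [show μ[G'] ▷ Z = lift ((fst _ _ ≫ fst _ _) * (fst _ _ ≫ snd _ _)) (snd _ _) by
              apply CartesianMonoidalCategory.hom_ext <;> simp [Hom.mul_def, ← comp_lift_assoc],
            hpt, MonObj.mul_comp, mul_smul_pt]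
          simp only [Category.assoc, hact, comp_smul, whiskerLeft_fst_assoc, whiskerLeft_snd_assoc, associator_hom_fst_assoc,
            hact, Category.assoc]
          congr 1 <;> simp [Category.assoc] }
    haveI hiso : IsIso (lift a.act (snd G' Z)) := by
      rw [isIso_iff_yoneda_map_bijective]
      intro W
      constructor
      · intro x y h
        change x ≫ _ = y ≫ _ at h
        have h₁ := congrArg (· ≫ fst _ _) h
        have h₂ := congrArg (· ≫ snd _ _) h
        simp only [Category.assoc, lift_fst, lift_snd] at h₁ h₂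
        have h₃ : (x ≫ a.act) ≫ jj = (y ≫ a.act) ≫ jj := congrArg (· ≫ jj) h₁
        have hx : x = lift (x ≫ fst _ _) (x ≫ snd _ _) := by apply CartesianMonoidalCategory.hom_ext <;> simp
        have hy : y = lift (y ≫ fst _ _) (x ≫ snd _ _) := by apply CartesianMonoidalCategory.hom_ext <;> simp [h₂]
        rw [hx, hy, hpt, hpt] at h₃
        have h₄ := (existsUnique_smul P.act hps ((x ≫ snd _ _) ≫ jj) _).unique h₃ rfl
        rw [hx, hy, (existsUnique_ker hex _ (huv _)).unique h₄ rfl]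
      · intro y
        obtain ⟨g, hg, -⟩ := existsUnique_smul P.act hps ((y ≫ snd _ _) ≫ jj) ((y ≫ fst _ _) ≫ jj)
        have hgv : g ≫ v = 1 := by
          have : smul P.act g ((y ≫ snd _ _) ≫ jj) ≫ ψ = ((y ≫ fst _ _) ≫ jj) ≫ ψ := congrArg (· ≫ ψ) hg
          rwa [hsm, hιψ, hιψ, _root_.mul_one] at this
        obtain ⟨g', hg', -⟩ := existsUnique_ker hex g hgv
        refine ⟨lift g' (y ≫ snd _ _), ?_⟩
        change lift g' _ ≫ _ = y
        apply CartesianMonoidalCategory.hom_ext
        · simp only [Category.assoc, lift_fst]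
          apply hext
          rw [hpt, hg', hg]
        · simp
    -- local sections
    obtain ⟨ι₁, S₁, f₁, rfl⟩ := R.exists_eq_ofArrows
    obtain ⟨-, -, -, -, Rv, hRv, hsecv⟩ := hex
    obtain ⟨ι₂, T₂, r₂, rfl⟩ := Rv.exists_eq_ofArrows
    have hp₀ : ∀ k, Nonempty (Over.mk (f₁ k) ⟶ P.X) := fun k =>
      exists_point hsec _ ⟨_, 𝟙 _, _, Presieve.ofArrows.mk k, Category.id_comp _⟩
    let s := fun k => hp₀ k
    let cc : ∀ k, Over.mk (f₁ k) ⟶ G'' := fun k => ((s k).some ≫ ψ)⁻¹
    have hcov : ∀ k, Presieve.ofArrows (fun l => pullback (cc k).left (r₂ l))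
        (fun l => pullback.fst (cc k).left (r₂ l)) ∈ Scheme.fpqcPrecoverage (S₁ k) := fun k =>
      Precoverage.mem_coverings_of_isPullback r₂ hRv (cc k).left _ (fun l => pullback.snd _ _)
        fun l => IsPullback.of_hasPullback _ _
    refine ⟨⟨Z, a, hiso, _, Precoverage.comp_mem_coverings f₁ hR _ hcov, ?_⟩, jj, ?_⟩
    · rintro T _ ⟨⟨k, l⟩⟩
      obtain ⟨t, ht⟩ := hsecv (r₂ l) (Presieve.ofArrows.mk l)
      change t ≫ v.left = r₂ l at ht
      let W : Over S := Over.mk (pullback.fst (cc k).left (r₂ l) ≫ f₁ k)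
      let w : W ⟶ Over.mk (f₁ k) := Over.homMk (pullback.fst (cc k).left (r₂ l)) rfl
      let g : W ⟶ G := Over.homMk (pullback.snd (cc k).left (r₂ l) ≫ t) (by
        rw [Category.assoc, ← Over.w v, reassoc_of% ht, ← pullback.condition_assoc, Over.w (cc k)]
        rfl)
      have hgv : g ≫ v = w ≫ cc k := Over.OverMorphism.ext (by
        show (pullback.snd _ _ ≫ t) ≫ v.left = pullback.fst _ _ ≫ (cc k).left
        rw [Category.assoc, ht, pullback.condition])
      obtain ⟨z, -⟩ := hmk (smul P.act g (w ≫ (s k).some)) (by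
        rw [hsm, hgv]
        simp only [cc, GrpObj.comp_inv, Category.assoc]
        rw [inv_mul_cancel])
      exact ⟨z.left, Over.w z⟩
    · change act ≫ jj = _
      rw [hact]
      rfl
  · rintro ⟨Q, φ, hφ⟩
    obtain ⟨hpsP, -⟩ := P.isTorsor
    obtain ⟨hpsQ, R, hR, hsec⟩ := Q.isTorsor
    let pt : ∀ W : Over S, IsSmall R W.hom → (W ⟶ Q.X) := fun W hW => (exists_point hsec W hW).some
    choose el hel using fun (W : Over S) (hW : IsSmall R W.hom) (p : W ⟶ P.X) =>
      (existsUnique_smul P.act hpsP (pt W hW ≫ φ) p).exists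
    have key : ∀ {W : Over S} (hW : IsSmall R W.hom) (p : W ⟶ P.X) (q : W ⟶ Q.X) (g : W ⟶ G),
        smul P.act g (q ≫ φ) = p → el W hW p ≫ v = g ≫ v := by
      intro W hW p q g hg
      obtain ⟨g', hg', -⟩ := existsUnique_smul Q.act hpsQ q (pt W hW)
      have h2 : smul P.act (el W hW p * (g' ≫ u)) (q ≫ φ) = p := by
        rw [mul_smul_pt, ← smul_comp hφ, hg', hel]
      rw [(existsUnique_smul P.act hpsP (q ≫ φ) p).unique hg h2, MonObj.mul_comp, huv, _root_.mul_one]
    obtain ⟨ψ, hψ, -⟩ := existsUnique_glue_over hR (Y := P.X) (Z := G'')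
      (fun W p hW => el W hW p ≫ v) (fun W W' k p h h' => by
        rw [← Category.assoc]
        refine key h' _ (k ≫ pt W h) _ ?_
        rw [Category.assoc, ← comp_smul, hel])
    refine ⟨ψ, eq_of_small hR _ _ fun W w hW => ?_⟩
    have hw : w = lift (w ≫ fst _ _) (w ≫ snd _ _) := by apply CartesianMonoidalCategory.hom_ext <;> simp
    rw [← Category.assoc w P.act.act, hψ W _ hW, hw, ← Category.assoc, comp_lift, lift_fst_assoc, lift_snd_assoc,
      show lift ((w ≫ fst G P.X) ≫ v) ((w ≫ snd G P.X) ≫ ψ) ≫ (NonAbH1.trivialAction G'').act =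
        ((w ≫ fst G P.X) ≫ v) * ((w ≫ snd G P.X) ≫ ψ) from (Hom.mul_def _ _).symm, hψ W _ hW, ← MonObj.mul_comp]
    refine key hW _ (pt W hW) _ ?_
    rw [mul_smul_pt, hel, smul]

end

end Groth.Agent.H9Et.TorsorExact
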