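import Groth.Agent.H27SekSuwa.GTorsor
import Groth.Agent.H21Rank1.Coord
import Groth.Agent.H27Witt.Torsor
import Mathlib

/-!
# Torsors under the additive and multiplicative groups are Zariski locally trivial
-/

set_option autoImplicit false
set_option linter.style.haveILetI false
set_option backward.isDefEq.respectTransparency false
set_option backward.isDefEq.respectTransparency.types false
set_option synthInstance.maxHeartbeats 400000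

universe u

open CategoryTheory CategoryTheory.Limits AlgebraicGeometry
open MonoidalCategory CartesianMonoidalCategory MonObj TensorProduct
open Groth.Agent.H12Pic.InvDesc

namespace Groth.Agent.H9Et.TorsorZar

variable {S : Scheme.{u}} {G P : Over S} [GrpObj G] (a : AlgGrp.Action G P)

theorem zariski_of_local_sections
    (h : ∀ x : S, ∃ U : S.Opens, x ∈ U ∧ NonAbH1.HasSectionOver P U.ι)
    (hps : NonAbH1.IsPseudoTorsorSch a) : NonAbH1.IsTorsorFor Scheme.zariskiPrecoverage a := by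
  choose U hU hs using h
  refine ⟨hps, Presieve.ofArrows (fun x : S => (U x).toScheme) (fun x => (U x).ι), ?_, ?_⟩
  · rw [Scheme.zariskiPrecoverage, Scheme.ofArrows_mem_precoverage_iff]
    exact ⟨fun x => ⟨x, ⟨x, hU x⟩, rfl⟩, fun x => inferInstance⟩
  · rintro S' g ⟨x⟩
    exact hs x

/-- A faithfully flat affine morphism onto an affine neighbourhood over which the torsor has a section. -/
theorem exists_affine_refinement (h : NonAbH1.IsLocallyTrivialFor Scheme.fpqcPrecoverage P) (x : S) :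
    ∃ (V : S.Opens) (_ : IsAffine V.toScheme) (W : Scheme.{u}) (_ : IsAffine W) (g : W ⟶ V.toScheme)
      (_ : Flat g) (_ : Surjective g) (w : W ⟶ P.left), x ∈ V ∧ w ≫ P.hom = g ≫ V.ι := by
  obtain ⟨Rc, hR, hsec⟩ := h
  obtain ⟨V, hV, hxV, -⟩ := exists_isAffineOpen_mem_and_subset (U := (⊤ : S.Opens)) (x := x) trivial
  haveI : IsAffine V.toScheme := hV
  obtain ⟨T, k, hk, hT⟩ := H18Torsor.exists_refinement hR hV
  obtain ⟨s₀, hs₀⟩ := hT P.left P.hom hsec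
  obtain ⟨⟨hk1, hk2⟩, hk3⟩ := hk
  haveI := hk1; haveI := hk2; haveI := hk3
  obtain ⟨W, hW, g₀, w, hg₀, hg₀s, hfac⟩ := exists_affine_of_quasiCompact k (⊤ : V.toScheme.Opens) (isAffineOpen_top _)
  haveI := hW; haveI := hg₀; haveI := hg₀s
  let g : W ⟶ V.toScheme := g₀ ≫ (⊤ : V.toScheme.Opens).ι
  haveI : IsIso (⊤ : V.toScheme.Opens).ι := inferInstanceAs (IsIso (Scheme.topIso V.toScheme).hom)
  refine ⟨V, inferInstance, W, inferInstance, g, by dsimp only [g]; infer_instance, by dsimp only [g]; infer_instance,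
    w ≫ s₀, hxV, ?_⟩
  rw [Category.assoc, hs₀, ← Category.assoc, ← hfac]

/-- A coboundary for the transition function gives a section. -/
theorem exists_section_of_coboundary (hps : NonAbH1.IsPseudoTorsorSch a) {W D : Scheme.{u}} (g : W ⟶ D) [Flat g]
    [Surjective g] [QuasiCompact g] (sX : D ⟶ S) (t : Over.mk (g ≫ sX) ⟶ P) (δ : Over.mk (g ≫ sX) ⟶ G)
    (h : ∀ (T : Over S) (e₁ e₂ : T ⟶ Over.mk (g ≫ sX)), e₁.left ≫ g = e₂.left ≫ g → ∀ tv : T ⟶ G,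
      H18Torsor.smul a tv (e₂ ≫ t) = e₁ ≫ t → tv * (e₂ ≫ δ) = e₁ ≫ δ) :
    ∃ s : D ⟶ P.left, s ≫ P.hom = sX := by
  let t' := H18Torsor.smul a δ⁻¹ t
  have key : ∀ (T : Over S) (e₁ e₂ : T ⟶ Over.mk (g ≫ sX)), e₁.left ≫ g = e₂.left ≫ g → e₁ ≫ t' = e₂ ≫ t' := by
    intro T e₁ e₂ he
    obtain ⟨tv, htv, -⟩ := H18Torsor.existsUnique_smul a hps (e₂ ≫ t) (e₁ ≫ t)
    simp only [t', H18Torsor.comp_smul, GrpObj.comp_inv]
    rw [← htv, ← H18Torsor.mul_smul_pt]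
    congr 1
    exact H27SekSuwa.inv_mul_of_mul (h T e₁ e₂ he tv htv)
  let s := EffectiveEpi.desc g t'.left fun {Z} h₁ h₂ hh => by
    let T : Over S := Over.mk (h₁ ≫ g ≫ sX)
    exact congrArg (fun m => m.left) (key T (Over.homMk h₁ rfl) (Over.homMk h₂ (by
      show h₂ ≫ g ≫ sX = h₁ ≫ g ≫ sX
      rw [← reassoc_of% hh])) hh)
  have hs : g ≫ s = t'.left := EffectiveEpi.fac _ _ _
  exact ⟨s, by rw [← cancel_epi g, ← Category.assoc, hs]; exact Over.w t'⟩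

omit [GrpObj G] in
theorem hasSectionOver_of_section {D : Scheme.{u}} (sX : D ⟶ S) [IsOpenImmersion sX] (s : D ⟶ P.left)
    (hs : s ≫ P.hom = sX) : NonAbH1.HasSectionOver P sX.opensRange.ι :=
  ⟨sX.isoOpensRange.inv ≫ s, by rw [Category.assoc, hs, Scheme.Hom.isoOpensRange_inv_comp]⟩

/-- An additive cocycle on a faithfully flat map of affine schemes is a coboundary. -/
theorem exists_add_coboundary {V W : Scheme.{u}} [IsAffine V] [IsAffine W] (g : W ⟶ V) [Flat g] [Surjective g]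
    (c : Γ(pullback g g, ⊤))
    (hc : ∀ (T : Scheme.{u}) (t₁ t₂ t₃ : T ⟶ W) (h₁₂ : t₁ ≫ g = t₂ ≫ g) (h₂₃ : t₂ ≫ g = t₃ ≫ g),
      evP g c t₁ t₂ h₁₂ + evP g c t₂ t₃ h₂₃ = evP g c t₁ t₃ (h₁₂.trans h₂₃)) :
    ∃ b : Γ(W, ⊤), ∀ (T : Scheme.{u}) (t₁ t₂ : T ⟶ W) (h : t₁ ≫ g = t₂ ≫ g),
      t₁.appTop b = evP g c t₁ t₂ h + t₂.appTop b := by
  letI : Algebra Γ(V, ⊤) Γ(W, ⊤) := g.appTop.hom.toAlgebra
  have hg : Spec.map (CommRingCat.ofHom (algebraMap Γ(V, ⊤) Γ(W, ⊤))) =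
      W.isoSpec.inv ≫ g ≫ V.isoSpec.hom := by
    rw [← Scheme.isoSpec_inv_naturality_assoc, Iso.inv_hom_id, Category.comp_id]
    rfl
  haveI : Module.FaithfullyFlat Γ(V, ⊤) Γ(W, ⊤) := by
    rw [← RingHom.faithfullyFlat_algebraMap_iff]
    exact (flat_and_surjective_SpecMap_iff (CommRingCat.ofHom (algebraMap Γ(V, ⊤) Γ(W, ⊤)))).1
      ⟨hg ▸ inferInstance, hg ▸ inferInstance⟩
  let B := Γ(V, ⊤)
  let C := Γ(W, ⊤)
  let pt : ∀ {R : Type u} [CommRing R] [Algebra B R] (_ : C →ₐ[B] R), Spec (CommRingCat.of R) ⟶ W :=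
    fun j => Spec.map (CommRingCat.ofHom j.toRingHom) ≫ W.isoSpec.inv
  have hpt : ∀ {R : Type u} [CommRing R] [Algebra B R] (j : C →ₐ[B] R),
      pt j ≫ g = Spec.map (CommRingCat.ofHom (algebraMap B R)) ≫ V.isoSpec.inv := fun {R} _ _ j => by
    rw [← j.comp_algebraMap, CommRingCat.ofHom_comp, Spec.map_comp, hg]
    simp [pt]
  let i₁ : C →ₐ[B] C ⊗[B] C := Algebra.TensorProduct.includeLeft
  let i₂ : C →ₐ[B] C ⊗[B] C := Algebra.TensorProduct.includeRight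
  let S2 : CommRingCat.{u} := CommRingCat.of (C ⊗[B] C)
  let S3 : CommRingCat.{u} := CommRingCat.of (C ⊗[B] (C ⊗[B] C))
  have h12 : pt i₁ ≫ g = pt i₂ ≫ g := (hpt i₁).trans (hpt i₂).symm
  let cv := evP g c (pt i₁) (pt i₂) h12
  let d : C ⊗[B] C := (Scheme.ΓSpecIso S2).hom cv
  have hval : ∀ (f : C ⊗[B] C →ₐ[B] C ⊗[B] (C ⊗[B] C)) (j₁ j₂ : C →ₐ[B] C ⊗[B] (C ⊗[B] C)),
      f.comp i₁ = j₁ → f.comp i₂ = j₂ → ∀ h, (Scheme.ΓSpecIso S3).hom (evP g c (pt j₁) (pt j₂) h) = f d := by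
    intro f j₁ j₂ e₁ e₂ h
    subst e₁ e₂
    let u : Spec S3 ⟶ Spec S2 := Spec.map (CommRingCat.ofHom f.toRingHom)
    have hu : ∀ i : C →ₐ[B] C ⊗[B] C, u ≫ pt i = pt (f.comp i) := fun i => by
      simp only [u, pt, ← Spec.map_comp_assoc]
      rfl
    rw [evP_comp g c u (pt i₁) (pt i₂) h12 (hu i₁) (hu i₂)]
    exact ConcreteCategory.congr_hom (Scheme.ΓSpecIso_naturality (CommRingCat.ofHom f.toRingHom)) cv
  let k₁ : C →ₐ[B] C ⊗[B] (C ⊗[B] C) := Algebra.TensorProduct.includeLeft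
  let k₂ : C →ₐ[B] C ⊗[B] (C ⊗[B] C) := (Algebra.TensorProduct.includeRight).comp i₁
  let k₃ : C →ₐ[B] C ⊗[B] (C ⊗[B] C) := (Algebra.TensorProduct.includeRight).comp i₂
  obtain ⟨τ, hτ⟩ := H27Witt.exists_amitsur_coboundary (B := B) (C := C) d (by
    have h := congrArg (Scheme.ΓSpecIso S3).hom (hc _ (pt k₁) (pt k₂) (pt k₃) ((hpt k₁).trans (hpt k₂).symm)
      ((hpt k₂).trans (hpt k₃).symm))
    rw [map_add, hval (H27Witt.f12 B C) k₁ k₂ ?_ ?_, hval (H27Witt.f23 B C) k₂ k₃ rfl rfl,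
      hval (H27Witt.f13 B C) k₁ k₃ ?_ ?_] at h
    · exact h
    all_goals exact AlgHom.ext fun z => by simp [i₁, i₂, k₁, k₂, k₃, Algebra.TensorProduct.one_def])
  let b : C := -τ
  have hbase : (pt i₁).appTop b = cv + (pt i₂).appTop b := by
    rw [H27SekSuwa.appTop_pt, H27SekSuwa.appTop_pt]
    apply (Scheme.ΓSpecIso S2).commRingCatIsoToRingEquiv.injective
    show (Scheme.ΓSpecIso S2).hom _ = (Scheme.ΓSpecIso S2).hom _
    rw [map_add, Iso.inv_hom_id_apply, Iso.inv_hom_id_apply]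
    show i₁ b = d + i₂ b
    rw [map_neg, map_neg, ← hτ]
    simp only [i₁, i₂, Algebra.TensorProduct.includeLeft_apply, Algebra.TensorProduct.includeRight_apply]
    abel
  refine ⟨b, fun T t₁ t₂ h => ?_⟩
  letI : Algebra B Γ(T, ⊤) := (t₁ ≫ g).appTop.hom.toAlgebra
  let a₁ : C →ₐ[B] Γ(T, ⊤) := ⟨t₁.appTop.hom, fun r => by
    show t₁.appTop (g.appTop r) = (t₁ ≫ g).appTop r
    rw [Scheme.Hom.comp_appTop]; rfl⟩
  let a₂ : C →ₐ[B] Γ(T, ⊤) := ⟨t₂.appTop.hom, fun r => by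
    show t₂.appTop (g.appTop r) = (t₁ ≫ g).appTop r
    rw [h, Scheme.Hom.comp_appTop]; rfl⟩
  let ψ : C ⊗[B] C →ₐ[B] Γ(T, ⊤) := Algebra.TensorProduct.lift a₁ a₂ fun _ _ => Commute.all _ _
  let u : T ⟶ Spec S2 := T.toSpecΓ ≫ Spec.map (CommRingCat.ofHom ψ.toRingHom)
  have hu : ∀ (i : C →ₐ[B] C ⊗[B] C) (t : T ⟶ W), (∀ x, ψ (i x) = t.appTop x) → u ≫ pt i = t := fun i t hi => by
    refine Eq.trans ?_ (toSpecΓ_map_isoSpec_inv t)
    simp only [u, pt, Category.assoc, ← Spec.map_comp_assoc]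
    congr 3
    exact CommRingCat.hom_ext (RingHom.ext hi)
  have hu1 := hu i₁ t₁ fun x => by simp [ψ, i₁, a₁]; rfl
  have hu2 := hu i₂ t₂ fun x => by simp [ψ, i₂, a₂]; rfl
  rw [evP_comp g c u (pt i₁) (pt i₂) h12 hu1 hu2]
  have := congrArg u.appTop hbase
  rw [map_add, ← CommRingCat.comp_apply, ← Scheme.Hom.comp_appTop, hu1, ← CommRingCat.comp_apply,
    ← Scheme.Hom.comp_appTop, hu2] at this
  exact this

section Transition

variable {V W : Scheme.{u}} (g : W ⟶ V) (sX : V ⟶ S) (t : Over.mk (g ≫ sX) ⟶ P) (hps : NonAbH1.IsPseudoTorsorSch a)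

/-- The double object. -/
noncomputable abbrev Y2 : Over S := Over.mk (pullback.fst g g ≫ g ≫ sX)

/-- Its projections. -/
noncomputable abbrev p₁ : Y2 g sX ⟶ Over.mk (g ≫ sX) := Over.homMk (pullback.fst g g) rfl

/-- Its projections. -/
noncomputable abbrev p₂ : Y2 g sX ⟶ Over.mk (g ≫ sX) := Over.homMk (pullback.snd g g) (by
  show pullback.snd g g ≫ g ≫ sX = pullback.fst g g ≫ g ≫ sX
  rw [pullback.condition_assoc])

include hps in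
theorem exists_transition : ∃ gm : Y2 g sX ⟶ G, ∀ (T : Over S) (e e' : T ⟶ Over.mk (g ≫ sX))
    (h : e.left ≫ g = e'.left ≫ g), ∃ q : T ⟶ Y2 g sX, q.left = pullback.lift e.left e'.left h ∧
      ∀ tv : T ⟶ G, H18Torsor.smul a tv (e' ≫ t) = e ≫ t → tv = q ≫ gm := by
  obtain ⟨gm, htv, -⟩ := H18Torsor.existsUnique_smul a hps (p₂ g sX ≫ t) (p₁ g sX ≫ t)
  refine ⟨gm, fun T e e' h => ?_⟩
  let q : T ⟶ Y2 g sX := Over.homMk (pullback.lift e.left e'.left h)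
    ((pullback.lift_fst_assoc _ _ _ _).trans (Over.w e))
  have h1 : q ≫ p₁ g sX = e := Over.OverMorphism.ext (pullback.lift_fst _ _ _)
  have h2 : q ≫ p₂ g sX = e' := Over.OverMorphism.ext (pullback.lift_snd _ _ _)
  refine ⟨q, rfl, fun tv htv' => (H18Torsor.existsUnique_smul a hps (e' ≫ t) (e ≫ t)).unique htv' ?_⟩
  have := congrArg (q ≫ ·) htv
  simp only [H18Torsor.comp_smul, ← Category.assoc, h1, h2] at this
  exact this

include hps in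
theorem transition_cocycle {gm : Y2 g sX ⟶ G} (hgm : ∀ (T : Over S) (e e' : T ⟶ Over.mk (g ≫ sX))
    (h : e.left ≫ g = e'.left ≫ g), ∃ q : T ⟶ Y2 g sX, q.left = pullback.lift e.left e'.left h ∧
      ∀ tv : T ⟶ G, H18Torsor.smul a tv (e' ≫ t) = e ≫ t → tv = q ≫ gm)
    (T : Scheme.{u}) (t₁ t₂ t₃ : T ⟶ W) (h₁₂ : t₁ ≫ g = t₂ ≫ g) (h₂₃ : t₂ ≫ g = t₃ ≫ g) :
    ∃ (YT : Over S) (q₁₂ q₂₃ q₁₃ : YT ⟶ Y2 g sX) (hT : YT.left = T),
      q₁₂.left = eqToHom hT ≫ pullback.lift t₁ t₂ h₁₂ ∧ q₂₃.left = eqToHom hT ≫ pullback.lift t₂ t₃ h₂₃ ∧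
      q₁₃.left = eqToHom hT ≫ pullback.lift t₁ t₃ (h₁₂.trans h₂₃) ∧
      (q₁₂ ≫ gm) * (q₂₃ ≫ gm) = q₁₃ ≫ gm := by
  let YT : Over S := Over.mk (t₁ ≫ g ≫ sX)
  let e₁ : YT ⟶ Over.mk (g ≫ sX) := Over.homMk t₁ rfl
  let e₂ : YT ⟶ Over.mk (g ≫ sX) := Over.homMk t₂ (by
    show t₂ ≫ g ≫ sX = t₁ ≫ g ≫ sX
    rw [← reassoc_of% h₁₂])
  let e₃ : YT ⟶ Over.mk (g ≫ sX) := Over.homMk t₃ (by
    show t₃ ≫ g ≫ sX = t₁ ≫ g ≫ sX
    rw [← reassoc_of% (h₁₂.trans h₂₃)])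
  obtain ⟨q₁₂, hq₁₂, u₁₂⟩ := hgm YT e₁ e₂ h₁₂
  obtain ⟨q₂₃, hq₂₃, u₂₃⟩ := hgm YT e₂ e₃ h₂₃
  obtain ⟨q₁₃, hq₁₃, u₁₃⟩ := hgm YT e₁ e₃ (h₁₂.trans h₂₃)
  obtain ⟨tv₁, htv₁, -⟩ := H18Torsor.existsUnique_smul a hps (e₂ ≫ t) (e₁ ≫ t)
  obtain ⟨tv₂, htv₂, -⟩ := H18Torsor.existsUnique_smul a hps (e₃ ≫ t) (e₂ ≫ t)
  refine ⟨YT, q₁₂, q₂₃, q₁₃, rfl, hq₁₂.trans (Category.id_comp _).symm, hq₂₃.trans (Category.id_comp _).symm,
    hq₁₃.trans (Category.id_comp _).symm, ?_⟩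
  rw [← u₁₂ tv₁ htv₁, ← u₂₃ tv₂ htv₂]
  exact u₁₃ _ (by rw [H18Torsor.mul_smul_pt, htv₂, htv₁])

end Transition

theorem gm_local_section (P : Over S) (a : AlgGrp.Action (Red.Gm S) P)
    (h : NonAbH1.IsTorsorFor Scheme.fpqcPrecoverage a) (x : S) :
    ∃ U : S.Opens, x ∈ U ∧ NonAbH1.HasSectionOver P U.ι := by
  obtain ⟨V, _, W, _, g, _, _, w, hxV, hw⟩ := exists_affine_refinement h.2 x
  let t : Over.mk (g ≫ V.ι) ⟶ P := Over.homMk w hw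
  obtain ⟨gm, hgm⟩ := exists_transition a g V.ι t h.1
  let c : Γ(pullback g g, ⊤) := Red.gmFn gm
  have hcoc : IsCocycle g c := by
    intro T t₁ t₂ t₃ h₁₂ h₂₃
    obtain ⟨YT, q₁, q₂, q₃, rfl, e₁, e₂, e₃, hmul⟩ := transition_cocycle a g V.ι t h.1 hgm T t₁ t₂ t₃ h₁₂ h₂₃
    have := congrArg Red.gmFn hmul
    rw [H21Rank1.gmFn_mul, H21Rank1.gmFn_comp, H21Rank1.gmFn_comp, H21Rank1.gmFn_comp, e₁, e₂, e₃] at this
    simpa [evP, c] using this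
  obtain ⟨D, hvD, b, hbD, hb⟩ := exists_coboundary_scheme g c (H21Rank1.isUnit_gmFn gm) hcoc ⟨x, hxV⟩
  haveI : IsAffineHom g := inferInstance
  let g' : (g ⁻¹ᵁ D).toScheme ⟶ D.toScheme := g ∣_ D
  haveI : Flat g' := MorphismProperty.of_isPullback (isPullback_morphismRestrict g D).flip inferInstance
  haveI : Surjective g' := MorphismProperty.of_isPullback (isPullback_morphismRestrict g D).flip inferInstance
  haveI : QuasiCompact g' := MorphismProperty.of_isPullback (isPullback_morphismRestrict g D).flip inferInstance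
  let sX : D.toScheme ⟶ S := D.ι ≫ V.ι
  have hι : g' ≫ sX = (g ⁻¹ᵁ D).ι ≫ g ≫ V.ι := morphismRestrict_ι_assoc g D _
  let m : Over.mk (g' ≫ sX) ⟶ Over.mk (g ≫ V.ι) := Over.homMk (g ⁻¹ᵁ D).ι hι.symm
  let b₀ : Γ((g ⁻¹ᵁ D).toScheme, ⊤) := (g ⁻¹ᵁ D).ι.appTop b
  have hb₀ : IsUnit b₀ := H27SekSuwa.isUnit_of_forall_mem_basicOpen _ fun z =>
    (SetLike.ext_iff.mp (Scheme.preimage_basicOpen_top (g ⁻¹ᵁ D).ι b) z).mp (hbD z.2)
  obtain ⟨δ, hδ⟩ := H21Rank1.gmFn_surjective (X := Over.mk (g' ≫ sX)) b₀ hb₀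
  haveI : IsOpenImmersion sX := inferInstanceAs (IsOpenImmersion (D.ι ≫ V.ι))
  obtain ⟨s, hs⟩ := exists_section_of_coboundary a h.1 g' sX (m ≫ t) δ fun T e₁ e₂ he tv htv => by
    have hT : (e₁ ≫ m).left ≫ g = (e₂ ≫ m).left ≫ g := by
      show (e₁.left ≫ (g ⁻¹ᵁ D).ι) ≫ g = (e₂.left ≫ (g ⁻¹ᵁ D).ι) ≫ g
      rw [Category.assoc, Category.assoc, ← morphismRestrict_ι, reassoc_of% he]
    obtain ⟨q, hq, hu⟩ := hgm T (e₁ ≫ m) (e₂ ≫ m) hT
    refine H21Rank1.gmFn_injective ?_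
    rw [hu tv (by rw [Category.assoc, Category.assoc]; exact htv), H21Rank1.gmFn_mul, H21Rank1.gmFn_comp,
      H21Rank1.gmFn_comp, H21Rank1.gmFn_comp, hδ, hq]
    exact (hb _ _ _ hT).symm
  exact ⟨sX.opensRange, ⟨⟨⟨x, hxV⟩, hvD⟩, rfl⟩, hasSectionOver_of_section sX s hs⟩

theorem ga_local_section (P : Over S) (a : AlgGrp.Action (Red.Ga S) P)
    (h : NonAbH1.IsTorsorFor Scheme.fpqcPrecoverage a) (x : S) :
    ∃ U : S.Opens, x ∈ U ∧ NonAbH1.HasSectionOver P U.ι := by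
  obtain ⟨V, _, W, _, g, _, _, w, hxV, hw⟩ := exists_affine_refinement h.2 x
  let t : Over.mk (g ≫ V.ι) ⟶ P := Over.homMk w hw
  obtain ⟨gm, hgm⟩ := exists_transition a g V.ι t h.1
  let c : Γ(pullback g g, ⊤) := Red.gaFn gm
  obtain ⟨b, hb⟩ := exists_add_coboundary g c fun T t₁ t₂ t₃ h₁₂ h₂₃ => by
    obtain ⟨YT, q₁, q₂, q₃, rfl, e₁, e₂, e₃, hmul⟩ := transition_cocycle a g V.ι t h.1 hgm T t₁ t₂ t₃ h₁₂ h₂₃
    have := congrArg Red.gaFn hmul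
    rw [H27Witt.GaCoord.gaFn_mul, H27Witt.GaCoord.gaFn_comp, H27Witt.GaCoord.gaFn_comp, H27Witt.GaCoord.gaFn_comp,
      e₁, e₂, e₃] at this
    simpa [evP, c] using this
  obtain ⟨δ, hδ⟩ := H27Witt.GaCoord.gaFn_surjective (X := Over.mk (g ≫ V.ι)) b
  obtain ⟨s, hs⟩ := exists_section_of_coboundary a h.1 g V.ι t δ fun T e₁ e₂ he tv htv => by
    obtain ⟨q, hq, hu⟩ := hgm T e₁ e₂ he
    refine H27Witt.GaCoord.gaFn_injective ?_
    rw [hu tv htv, H27Witt.GaCoord.gaFn_mul, H27Witt.GaCoord.gaFn_comp, H27Witt.GaCoord.gaFn_comp,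
      H27Witt.GaCoord.gaFn_comp, hδ, hq]
    exact (hb _ _ _ he).symm
  exact ⟨V, hxV, s, hs⟩

end Groth.Agent.H9Et.TorsorZar
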